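import Cfsg.Agent.H828.HT.Def

/-!
# Half-transitive linear groups without coprimality (S3512, S3577)

Duality, the pseudocyclic identity, `|C_V(g)| ≤ m - 1` and `|V| ≤ 2 m²` hold for every half-transitive
linear group, also when `p` divides its order.
-/

set_option autoImplicit false

open scoped Classical
open Cfsg.Agent.H828.HT

namespace Cfsg.Agent.H19.HT

universe u

variable {p : ℕ} [Fact p.Prime] {V : Type u} [AddCommGroup V] [Module (ZMod p) V] [Finite V]
  {G : Subgroup (V ≃ₗ[ZMod p] V)} {h : ℕ}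

/-- a `p`-subgroup of `G` fixes a non-zero vector -/
theorem exists_fixed_pgroup [Nontrivial V] (Q : Subgroup G) (hQ : IsPGroup p Q) :
    ∃ v : V, v ≠ 0 ∧ ∀ g ∈ Q, (g : V ≃ₗ[ZMod p] V) v = v := by
  have hdvd : p ∣ Nat.card V := by
    rw [card_eq_pow (p := p) V]
    exact dvd_pow_self p (Module.finrank_pos (R := ZMod p) (M := V)).ne'
  have h0 : (0 : V) ∈ MulAction.fixedPoints Q V := fun g => map_zero ((g : G) : V ≃ₗ[ZMod p] V)
  obtain ⟨v, hv, hne⟩ := hQ.exists_fixed_point_of_prime_dvd_card_of_fixed_point V hdvd h0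
  exact ⟨v, hne.symm, fun g hg => hv ⟨g, hg⟩⟩

/-- the `p`-part of `|G|` divides `h` -/
theorem factorization_eq (hh : Half G h) [Nontrivial V] :
    h.factorization p = (Nat.card G).factorization p := by
  classical
  obtain ⟨P⟩ : Nonempty (Sylow p G) := inferInstance
  obtain ⟨v, hv, hfix⟩ := exists_fixed_pgroup (P : Subgroup G) P.isPGroup'
  have h1 : Nat.card (P : Subgroup G) ∣ h := by
    rw [← hh v hv]
    refine Subgroup.card_dvd_of_le ?_
    intro g hg
    exact hfix g hg
  have h2 : h ∣ Nat.card G := by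
    rw [← hh v hv]; exact Subgroup.card_subgroup_dvd_card _
  have hG0 : Nat.card G ≠ 0 := Nat.card_pos.ne'
  have hh0 : h ≠ 0 := fun h0 => hG0 (by rw [h0] at h2; exact Nat.eq_zero_of_zero_dvd h2)
  refine le_antisymm ((Nat.factorization_le_iff_dvd hh0 hG0).2 h2 p) ?_
  rw [P.card_eq_multiplicity] at h1
  exact (Nat.Prime.pow_dvd_iff_le_factorization (Fact.out : p.Prime) hh0).1 h1

/-- the order of the stabiliser of a functional divides `h` -/
theorem dst_dvd (hh : Half G h) {f : Module.Dual (ZMod p) V} (hf : f ≠ 0) :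
    Nat.card (dst G f) ∣ h := by
  classical
  obtain ⟨w, hw⟩ : ∃ w, f w ≠ 0 := by
    by_contra hc
    push Not at hc
    exact hf (LinearMap.ext hc)
  have hw0 : w ≠ 0 := by rintro rfl; exact hw (map_zero f)
  haveI : Nontrivial V := ⟨⟨w, 0, hw0⟩⟩
  have hG0 : Nat.card G ≠ 0 := Nat.card_pos.ne'
  have h2 : h ∣ Nat.card G := by
    rw [← hh w hw0]; exact Subgroup.card_subgroup_dvd_card _
  have hh0 : h ≠ 0 := fun h0 => hG0 (by rw [h0] at h2; exact Nat.eq_zero_of_zero_dvd h2)
  have hd0 : Nat.card (dst G f) ≠ 0 := Nat.card_pos.ne'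
  rw [← Nat.factorization_le_iff_dvd hd0 hh0]
  intro l
  by_cases hl : l.Prime
  swap
  · rw [Nat.factorization_eq_zero_of_not_prime _ hl]; exact Nat.zero_le _
  by_cases hlp : l = p
  · subst hlp
    rw [factorization_eq hh]
    exact (Nat.factorization_le_iff_dvd hd0 hG0).2 (Subgroup.card_subgroup_dvd_card _) l
  · haveI : Fact l.Prime := ⟨hl⟩
    obtain ⟨Q⟩ : Nonempty (Sylow l (dst G f)) := inferInstance
    set Q' : Subgroup G := (Q : Subgroup (dst G f)).map (dst G f).subtype with hQ'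
    set Q'' : Subgroup (V ≃ₗ[ZMod p] V) := Q'.map G.subtype with hQ''
    have hc1 : Nat.card Q' = Nat.card (Q : Subgroup (dst G f)) :=
      (Nat.card_congr ((Q : Subgroup (dst G f)).equivMapOfInjective _
        (dst G f).subtype_injective).toEquiv).symm
    have hc2 : Nat.card Q'' = Nat.card Q' :=
      (Nat.card_congr (Q'.equivMapOfInjective _ G.subtype_injective).toEquiv).symm
    have hcop : ¬ p ∣ Nat.card Q'' := by
      rw [hc2, hc1, Q.card_eq_multiplicity]
      intro hd
      exact hlp ((Nat.prime_dvd_prime_iff_eq (Fact.out : p.Prime) hl).1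
        ((Fact.out : p.Prime).dvd_of_dvd_pow hd)).symm
    obtain ⟨v, hv, hv'⟩ := exists_fixed Q'' hcop hf (by
      rintro _ ⟨g, ⟨g', _, rfl⟩, rfl⟩ w
      exact mem_dst.1 g'.2 w)
    have hv0 : v ≠ 0 := by
      rintro rfl
      exact hv (map_zero f)
    have h3 : Nat.card Q' ∣ h := by
      rw [← hh v hv0]
      refine Subgroup.card_dvd_of_le ?_
      intro g hg
      exact hv' _ ⟨g, hg, rfl⟩
    rw [hc1, Q.card_eq_multiplicity] at h3
    exact (Nat.Prime.pow_dvd_iff_le_factorization hl hh0).1 h3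

theorem dst_le (hh : Half G h) {f : Module.Dual (ZMod p) V} (hf : f ≠ 0) :
    Nat.card (dst G f) ≤ h := by
  obtain ⟨w, hw⟩ : ∃ w, f w ≠ 0 := by
    by_contra hc
    push Not at hc
    exact hf (LinearMap.ext hc)
  have hw0 : w ≠ 0 := by rintro rfl; exact hw (map_zero f)
  refine Nat.le_of_dvd ?_ (dst_dvd hh hf)
  rw [← hh w hw0]
  exact Nat.card_pos

theorem dst_card (hh : Half G h) {f : Module.Dual (ZMod p) V}
    (hf : f ≠ 0) : Nat.card (dst G f) = h := by
  have h1 := sum_card_fx G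
  have h2 := sum_card_dfx G
  simp_rw [card_dfx] at h2
  rw [h1] at h2
  have e1 : ∑ v : V, Nat.card (MulAction.stabilizer G v) =
      Nat.card G + ∑ _v ∈ (Finset.univ.erase (0 : V)), h := by
    rw [← Finset.add_sum_erase _ _ (Finset.mem_univ (0 : V))]
    congr 1
    · have : MulAction.stabilizer G (0 : V) = ⊤ := by
        rw [eq_top_iff]
        intro g _
        exact map_zero (g : V ≃ₗ[ZMod p] V)
      rw [this, Subgroup.card_top]
    · exact Finset.sum_congr rfl (fun v hv => hh v (Finset.ne_of_mem_erase hv))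
  have e2 : ∑ f : Module.Dual (ZMod p) V, Nat.card (dst G f) =
      Nat.card G + ∑ f ∈ (Finset.univ.erase (0 : Module.Dual (ZMod p) V)),
        Nat.card (dst G f) := by
    rw [← Finset.add_sum_erase _ _ (Finset.mem_univ (0 : Module.Dual (ZMod p) V))]
    congr 1
    have : dst G (0 : Module.Dual (ZMod p) V) = ⊤ := by
      rw [eq_top_iff]
      intro g _
      rw [mem_dst]
      intro w; rfl
    rw [this, Subgroup.card_top]
  have e3 : ∑ _v ∈ (Finset.univ.erase (0 : V)), h =
      ∑ _f ∈ (Finset.univ.erase (0 : Module.Dual (ZMod p) V)), h := by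
    rw [Finset.sum_const, Finset.sum_const, Finset.card_erase_of_mem (Finset.mem_univ _),
      Finset.card_erase_of_mem (Finset.mem_univ _), Finset.card_univ, Finset.card_univ,
      ← Nat.card_eq_fintype_card, ← Nat.card_eq_fintype_card, card_dual]
  rw [e1, e2, e3] at h2
  have h3 := Nat.add_left_cancel h2
  have h4 := (Finset.sum_eq_sum_iff_of_le (s := Finset.univ.erase (0 : Module.Dual (ZMod p) V))
    (f := fun f => Nat.card (dst G f)) (g := fun _ => h)
    (fun f hf => dst_le hh (Finset.ne_of_mem_erase hf))).1 h3.symm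
  exact h4 f (Finset.mem_erase.2 ⟨hf, Finset.mem_univ _⟩)

/-- **Pseudocyclic identity.** -/
theorem ident (hh : Half G h) {v : V} (hv : v ≠ 0) :
    (∑ g : G, if v ∈ cm (g : V ≃ₗ[ZMod p] V) then Nat.card (fx (g : V ≃ₗ[ZMod p] V)) else 0)
      + h = Nat.card G := by
  have key : (∑ g : G, (if v ∈ cm (g : V ≃ₗ[ZMod p] V) then
      (Nat.card (fx (g : V ≃ₗ[ZMod p] V)) : ℂ) else 0)) =
      (Nat.card G : ℂ) - h := by
    have h1 : ∀ g : G, (if v ∈ cm (g : V ≃ₗ[ZMod p] V) then
        (Nat.card (fx (g : V ≃ₗ[ZMod p] V)) : ℂ) else 0) =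
        ∑ f : Module.Dual (ZMod p) V, (if f ∈ dfx (g : V ≃ₗ[ZMod p] V) then
          (ZMod.stdAddChar (N := p)) (f v) else 0) := by
      intro g
      rw [sum_ev, card_dfx]
      congr 1
      rw [dfx, eq_iff_iff]
      exact (Subspace.forall_mem_dualAnnihilator_apply_eq_zero_iff _ _).symm
    rw [Finset.sum_congr rfl (fun g _ => h1 g), Finset.sum_comm]
    have h2 : ∀ f : Module.Dual (ZMod p) V,
        (∑ g : G, (if f ∈ dfx (g : V ≃ₗ[ZMod p] V) then
          (ZMod.stdAddChar (N := p)) (f v) else 0)) =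
        (Nat.card (dst G f) : ℂ) * (ZMod.stdAddChar (N := p)) (f v) := by
      intro f
      rw [← Finset.sum_filter, Finset.sum_const, nsmul_eq_mul, Nat.card_eq_fintype_card,
        Fintype.card_subtype]
      rfl
    rw [Finset.sum_congr rfl (fun f _ => h2 f),
      ← Finset.add_sum_erase _ _ (Finset.mem_univ (0 : Module.Dual (ZMod p) V))]
    have h3 : ∑ f ∈ Finset.univ.erase (0 : Module.Dual (ZMod p) V),
        (Nat.card (dst G f) : ℂ) * (ZMod.stdAddChar (N := p)) (f v) =
        (h : ℂ) * ∑ f ∈ Finset.univ.erase (0 : Module.Dual (ZMod p) V),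
          (ZMod.stdAddChar (N := p)) (f v) := by
      rw [Finset.mul_sum]
      exact Finset.sum_congr rfl (fun f hf => by
        rw [dst_card hh (Finset.ne_of_mem_erase hf)])
    have h4 : ∑ f : Module.Dual (ZMod p) V, (ZMod.stdAddChar (N := p)) (f v) = 0 := by
      have := sum_ev (⊤ : Submodule (ZMod p) (Module.Dual (ZMod p) V)) v
      simp only [Submodule.mem_top, if_true, true_imp_iff] at this
      rw [this, if_neg]
      intro hc
      exact hv ((Module.forall_dual_apply_eq_zero_iff (ZMod p) v).1 hc)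
    rw [← Finset.add_sum_erase _ _ (Finset.mem_univ (0 : Module.Dual (ZMod p) V))] at h4
    have h5 : (ZMod.stdAddChar (N := p)) ((0 : Module.Dual (ZMod p) V) v) = 1 := by
      rw [LinearMap.zero_apply, AddChar.map_zero_eq_one]
    rw [h5] at h4
    have h6 : dst G (0 : Module.Dual (ZMod p) V) = ⊤ := by
      rw [eq_top_iff]
      intro g _
      rw [mem_dst]
      intro w; rfl
    rw [h3, eq_neg_of_add_eq_zero_right h4, h5, h6, Subgroup.card_top]
    ring
  have h7 : ((∑ g : G, if v ∈ cm (g : V ≃ₗ[ZMod p] V) then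
      Nat.card (fx (g : V ≃ₗ[ZMod p] V)) else 0 : ℕ) : ℂ) + h = Nat.card G := by
    push_cast
    rw [key]
    ring
  exact_mod_cast h7

/-- `|C_V(g)| ≤ m - 1` for `g ≠ 1`. -/
theorem fx_lt (hh : Half G h) (h0 : 0 < h) {m : ℕ}
    (hm : m * h = Nat.card G) {g₀ : G} (hg₀ : g₀ ≠ 1) :
    Nat.card (fx (g₀ : V ≃ₗ[ZMod p] V)) + 1 ≤ m := by
  obtain ⟨v, hv, hv'⟩ := exists_mem_cm (g := (g₀ : V ≃ₗ[ZMod p] V))
    (fun h => hg₀ (Subtype.ext h))
  have h1 := ident hh hv
  rw [pairs_card] at h1
  have h2 : h * Nat.card (fx (g₀ : V ≃ₗ[ZMod p] V)) ≤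
      ∑ w : V, Nat.card {g : G // (g : V ≃ₗ[ZMod p] V) w = w + v} := by
    have h3 : ∑ w ∈ Finset.univ.filter (fun w : V => (g₀ : V ≃ₗ[ZMod p] V) w = w + v),
        Nat.card {g : G // (g : V ≃ₗ[ZMod p] V) w = w + v} =
        ∑ _w ∈ Finset.univ.filter (fun w : V => (g₀ : V ≃ₗ[ZMod p] V) w = w + v), h := by
      refine Finset.sum_congr rfl ?_
      intro w hw
      have hw' := (Finset.mem_filter.1 hw).2
      rw [card_transporter g₀ hw']
      apply hh
      rintro rfl
      rw [map_zero, zero_add] at hw'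
      exact hv hw'.symm
    have h4 : (Finset.univ.filter (fun w : V => (g₀ : V ≃ₗ[ZMod p] V) w = w + v)).card =
        Nat.card (fx (g₀ : V ≃ₗ[ZMod p] V)) := by
      obtain ⟨w₀, hw₀⟩ := mem_cm.1 hv'
      rw [Nat.card_eq_fintype_card, Fintype.card_subtype]
      symm
      refine Finset.card_bij (fun w _ => w₀ + w) ?_ ?_ ?_
      · intro w hw
        simp only [Finset.mem_filter, Finset.mem_univ, true_and, mem_fx] at hw ⊢
        rw [map_add, hw₀, hw]
        abel
      · intro a _ b _ h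
        exact add_left_cancel h
      · intro b hb
        simp only [Finset.mem_filter, Finset.mem_univ, true_and] at hb
        refine ⟨b - w₀, ?_, by abel⟩
        simp only [Finset.mem_filter, Finset.mem_univ, true_and, mem_fx]
        rw [map_sub, hw₀, hb]
        abel
    rw [Finset.sum_const, h4, smul_eq_mul, mul_comm] at h3
    rw [← h3]
    exact Finset.sum_le_sum_of_subset (Finset.subset_univ _)
  have h5 : h * (Nat.card (fx (g₀ : V ≃ₗ[ZMod p] V)) + 1) ≤ h * m := by
    rw [mul_comm h m, hm]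
    nlinarith
  exact Nat.le_of_mul_le_mul_left h5 h0

/-- **The size bound**: `|V| ≤ 2 m²`. -/
theorem card_le (hh : Half G h) (h2 : 2 ≤ h) {m : ℕ}
    (hm : m * h = Nat.card G) : Nat.card V ≤ 2 * m ^ 2 := by
  have h1 := sum_fx_half hh
  rw [← Finset.add_sum_erase _ _ (Finset.mem_univ (1 : G))] at h1
  have e1 : Nat.card (fx ((1 : G) : V ≃ₗ[ZMod p] V)) = Nat.card V := by
    rw [Subgroup.coe_one, fx_one]
    exact Nat.card_congr Submodule.topEquiv.toEquiv
  have h3 : ∑ g ∈ Finset.univ.erase (1 : G), (Nat.card (fx (g : V ≃ₗ[ZMod p] V)) + 1) ≤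
      ∑ _g ∈ Finset.univ.erase (1 : G), m :=
    Finset.sum_le_sum (fun g hg => fx_lt hh (by omega) hm (Finset.ne_of_mem_erase hg))
  have h4 : (Finset.univ.erase (1 : G)).card + 1 = Nat.card G := by
    rw [Finset.card_erase_of_mem (Finset.mem_univ _), Finset.card_univ,
      Nat.card_eq_fintype_card]
    exact Nat.sub_add_cancel Fintype.card_pos
  rw [Finset.sum_add_distrib, Finset.sum_const, Finset.sum_const, smul_eq_mul, smul_eq_mul,
    mul_one] at h3
  rw [e1] at h1
  set S := ∑ g ∈ Finset.univ.erase (1 : G), Nat.card (fx (g : V ≃ₗ[ZMod p] V))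
  set c := (Finset.univ.erase (1 : G)).card
  obtain ⟨k, rfl⟩ : ∃ k, h = k + 2 := ⟨h - 2, by omega⟩
  -- `S + |V| + h = |G| + h |V|`, `S + c ≤ c m`, `c + 1 = |G| = m h`
  have hc : c + 1 = m * (k + 2) := by rw [h4, hm]
  have hS : S + Nat.card V + (k + 2) = m * (k + 2) + (k + 2) * Nat.card V := by
    rw [hm, ← h1]; ring
  obtain ⟨n, rfl⟩ : ∃ n, m = n + 1 := by
    rcases Nat.eq_zero_or_pos m with h | h
    · subst h; simp at hc
    · exact ⟨m - 1, by omega⟩
  have hc' : c = n * (k + 2) + (k + 1) := by nlinarith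
  have hS2 : S ≤ c * n := by nlinarith
  have key : (k + 1) * Nat.card V ≤ (k + 1) * (2 * (n + 1) ^ 2) := by
    have : (k + 1) * Nat.card V + n * (k + 2) = S := by nlinarith
    have h5 : c * n = (n * (k + 2) + (k + 1)) * n := by rw [hc']
    nlinarith [Nat.zero_le (k * n), Nat.zero_le (k * n * n), Nat.zero_le (n * n)]
  exact Nat.le_of_mul_le_mul_left key (by omega)


end Cfsg.Agent.H19.HT
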