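import Mathlib

/-!
# Semilinear groups: the field generated by a normal abelian subgroup (S3512, S3577)

`Semi G`: conclusion (ii) of S3512.  `semi_of_irr_comm`: an irreducible abelian normal subgroup makes
`G` semilinear of dimension one.  `semi_of_self_cent`: the same if `A` is abelian, normal,
self-centralising, homogeneous, and `G` is irreducible.
-/

set_option autoImplicit false
set_option linter.style.haveILetI false

open scoped Classical

namespace Cfsg.Agent.H19.HT

universe u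

variable {p : ℕ} [Fact p.Prime] {V : Type u} [AddCommGroup V] [Module (ZMod p) V]

/-- conclusion (ii) of S3512 -/
def Semi (G : Subgroup (V ≃ₗ[ZMod p] V)) : Prop :=
  ∃ (F : Type) (_ : Field F) (_ : Fintype F) (e : V ≃+ F), ∀ g ∈ G,
    ∃ (a : F) (φ : F ≃+* F), ∀ v : V, e (g v) = a * φ (e v)

/-- the algebra generated by `A` -/
def alg (A : Subgroup (V ≃ₗ[ZMod p] V)) : Subalgebra (ZMod p) (Module.End (ZMod p) V) :=
  Algebra.adjoin (ZMod p) {f | ∃ a ∈ A, (a : V →ₗ[ZMod p] V) = f}

variable {A : Subgroup (V ≃ₗ[ZMod p] V)}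

theorem mem_alg {a : V ≃ₗ[ZMod p] V} (ha : a ∈ A) :
    (a : Module.End (ZMod p) V) ∈ alg A :=
  Algebra.subset_adjoin ⟨a, ha, rfl⟩

theorem alg_inv {W : Submodule (ZMod p) V} (hW : ∀ a ∈ A, ∀ w ∈ W, a w ∈ W)
    {k : Module.End (ZMod p) V} (hk : k ∈ alg A) : ∀ w ∈ W, k w ∈ W := by
  unfold alg at hk
  induction hk using Algebra.adjoin_induction with
  | mem f hf =>
    intro w hw
    obtain ⟨a, ha, rfl⟩ := hf
    exact hW a ha w hw
  | algebraMap r =>
    intro w hw
    rw [Module.algebraMap_end_apply]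
    exact W.smul_mem r hw
  | add f g _ _ hf hg =>
    intro w hw
    exact W.add_mem (hf w hw) (hg w hw)
  | mul f g _ _ hf hg =>
    intro w hw
    exact hf _ (hg w hw)

theorem alg_comm_of {f : Module.End (ZMod p) V}
    (hf : ∀ a ∈ A, f * (a : Module.End (ZMod p) V) = (a : Module.End (ZMod p) V) * f)
    {k : Module.End (ZMod p) V} (hk : k ∈ alg A) : f * k = k * f := by
  unfold alg at hk
  induction hk using Algebra.adjoin_induction with
  | mem g hg =>
    obtain ⟨a, ha, rfl⟩ := hg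
    exact hf a ha
  | algebraMap r => exact (Algebra.commutes r f).symm
  | add g k _ _ hg hk => rw [mul_add, add_mul, hg, hk]
  | mul g k _ _ hg hk => rw [← mul_assoc, hg, mul_assoc, hk, mul_assoc]

theorem coe_mul' (a b : V ≃ₗ[ZMod p] V) :
    ((a * b : V ≃ₗ[ZMod p] V) : Module.End (ZMod p) V) =
      (a : Module.End (ZMod p) V) * (b : Module.End (ZMod p) V) := rfl

theorem alg_mul_comm (hA : ∀ a ∈ A, ∀ b ∈ A, a * b = b * a) {k l : Module.End (ZMod p) V}
    (hk : k ∈ alg A) (hl : l ∈ alg A) : k * l = l * k := by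
  refine alg_comm_of ?_ hl
  intro a ha
  refine (alg_comm_of ?_ hk).symm
  intro b hb
  rw [← coe_mul', ← coe_mul', hA a ha b hb]

theorem alg_conj {g : V ≃ₗ[ZMod p] V} (hg : ∀ a ∈ A, g * a * g⁻¹ ∈ A)
    {k : Module.End (ZMod p) V} (hk : k ∈ alg A) :
    (g : Module.End (ZMod p) V) * k * ((g⁻¹ : V ≃ₗ[ZMod p] V) : Module.End (ZMod p) V) ∈
      alg A := by
  have h1 : ((g⁻¹ : V ≃ₗ[ZMod p] V) : Module.End (ZMod p) V) * (g : Module.End (ZMod p) V) = 1 := by
    rw [← coe_mul', inv_mul_cancel]; rfl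
  have h2 : (g : Module.End (ZMod p) V) * ((g⁻¹ : V ≃ₗ[ZMod p] V) : Module.End (ZMod p) V) = 1 := by
    rw [← coe_mul', mul_inv_cancel]; rfl
  unfold alg at hk
  induction hk using Algebra.adjoin_induction with
  | mem f hf =>
    obtain ⟨a, ha, rfl⟩ := hf
    rw [← coe_mul', ← coe_mul']
    exact mem_alg (hg a ha)
  | algebraMap r =>
    rw [← Algebra.commutes r (g : Module.End (ZMod p) V), mul_assoc, h2, mul_one]
    exact (alg A).algebraMap_mem r
  | add f k _ _ hf hk =>
    rw [mul_add, add_mul]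
    exact (alg A).add_mem hf hk
  | mul f k _ _ hf hk =>
    have : (g : Module.End (ZMod p) V) * (f * k) *
        ((g⁻¹ : V ≃ₗ[ZMod p] V) : Module.End (ZMod p) V) =
        ((g : Module.End (ZMod p) V) * f * ((g⁻¹ : V ≃ₗ[ZMod p] V) : Module.End (ZMod p) V)) *
        ((g : Module.End (ZMod p) V) * k * ((g⁻¹ : V ≃ₗ[ZMod p] V) : Module.End (ZMod p) V)) := by
      calc _ = (g : Module.End (ZMod p) V) * f * 1 * k *
            ((g⁻¹ : V ≃ₗ[ZMod p] V) : Module.End (ZMod p) V) := by rw [mul_one]; noncomm_ring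
        _ = _ := by rw [← h1]; noncomm_ring
    rw [this]
    exact (alg A).mul_mem hf hk

/-- the ring automorphism induced by `g` -/
noncomputable def cj (g : V ≃ₗ[ZMod p] V) (hg : ∀ a ∈ A, g * a * g⁻¹ ∈ A) :
    alg A →+* alg A where
  toFun k := ⟨(g : Module.End (ZMod p) V) * k.1 *
    ((g⁻¹ : V ≃ₗ[ZMod p] V) : Module.End (ZMod p) V), alg_conj hg k.2⟩
  map_one' := by
    apply Subtype.ext
    change (g : Module.End (ZMod p) V) * 1 * ((g⁻¹ : V ≃ₗ[ZMod p] V) : Module.End (ZMod p) V) = 1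
    rw [mul_one, ← coe_mul', mul_inv_cancel]; rfl
  map_zero' := by
    apply Subtype.ext
    change (g : Module.End (ZMod p) V) * 0 * ((g⁻¹ : V ≃ₗ[ZMod p] V) : Module.End (ZMod p) V) = 0
    rw [mul_zero, zero_mul]
  map_add' := by
    intro a b
    apply Subtype.ext
    change (g : Module.End (ZMod p) V) * (a.1 + b.1) *
      ((g⁻¹ : V ≃ₗ[ZMod p] V) : Module.End (ZMod p) V) = _ + _
    rw [mul_add, add_mul]
  map_mul' := by
    intro a b
    apply Subtype.ext
    apply LinearMap.ext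
    intro v
    change g (a.1 (b.1 (g⁻¹ v))) = g (a.1 (g⁻¹ (g (b.1 (g⁻¹ v)))))
    congr 2
    change _ = (g⁻¹ * g) _
    rw [inv_mul_cancel]; rfl

theorem cj_apply (g : V ≃ₗ[ZMod p] V) (hg : ∀ a ∈ A, g * a * g⁻¹ ∈ A) (k : alg A) (v : V) :
    (cj g hg k).1 (g v) = g (k.1 v) := by
  change g (k.1 ((g⁻¹ * g) v)) = _
  rw [inv_mul_cancel]; rfl

/-- a model of the field generated by `A`, in `Type` -/
theorem exists_model [Finite V] [Nontrivial V] (hA : ∀ a ∈ A, ∀ b ∈ A, a * b = b * a)
    (hinj : ∀ k ∈ alg A, k ≠ 0 → Function.Injective k) :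
    ∃ (K : Type) (_ : Field K) (_ : Fintype K) (_ : Module K V) (ι : K ≃+* alg A),
      ∀ (k : K) (v : V), (ι k).1 v = k • v := by
  haveI : Finite (Module.End (ZMod p) V) :=
    Finite.of_injective (fun f : Module.End (ZMod p) V => (f : V → V)) DFunLike.coe_injective
  haveI : Finite (alg A) := Subtype.finite
  haveI : Small.{0} (alg A) := Countable.toSmall _
  letI i1 : CommRing (alg A) := { (alg A).toRing with
    mul_comm := fun a b => Subtype.ext (alg_mul_comm hA a.2 b.2) }
  haveI : Nontrivial (alg A) := by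
    refine ⟨⟨0, 1, ?_⟩⟩
    intro h
    obtain ⟨v, hv⟩ := exists_ne (0 : V)
    have h1 : (0 : Module.End (ZMod p) V) = 1 := congrArg Subtype.val h
    have h2 := LinearMap.congr_fun h1 v
    exact hv h2.symm
  haveI : NoZeroDivisors (alg A) := by
    refine ⟨?_⟩
    intro a b hab
    by_contra hcon
    push Not at hcon
    obtain ⟨ha, hb⟩ := hcon
    apply hb
    apply Subtype.ext
    apply LinearMap.ext
    intro v
    have h1 := hinj a.1 a.2 (fun h => ha (Subtype.ext h))
    apply h1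
    have h2 : a.1 * b.1 = 0 := congrArg Subtype.val hab
    change (a.1 * b.1) v = a.1 0
    rw [h2, map_zero]; rfl
  haveI : IsDomain (alg A) := NoZeroDivisors.to_isDomain _
  letI i2 : Fintype (alg A) := Fintype.ofFinite _
  letI i3 : Field (alg A) := Fintype.fieldOfDomain _
  let ι : Shrink.{0} (alg A) ≃+* alg A := Shrink.ringEquiv (alg A)
  letI i4 : Fintype (Shrink.{0} (alg A)) := Fintype.ofFinite _
  letI i5 : Module (Shrink.{0} (alg A)) V :=
    { smul := fun k v => (ι k).1 v
      one_smul := by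
        intro v
        change (ι 1).1 v = v
        rw [map_one]; rfl
      mul_smul := by
        intro a b v
        change (ι (a * b)).1 v = (ι a).1 ((ι b).1 v)
        rw [map_mul]; rfl
      smul_zero := by
        intro a
        change (ι a).1 0 = 0
        rw [map_zero]
      smul_add := by
        intro a v w
        change (ι a).1 (v + w) = (ι a).1 v + (ι a).1 w
        rw [map_add]
      add_smul := by
        intro a b v
        change (ι (a + b)).1 v = (ι a).1 v + (ι b).1 v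
        rw [map_add]; rfl
      zero_smul := by
        intro v
        change (ι 0).1 v = 0
        rw [map_zero]; rfl }
  exact ⟨Shrink.{0} (alg A), inferInstance, i4, i5, ι, fun k v => rfl⟩

/-- the automorphism of the model field induced by `g` -/
theorem exists_aut {K : Type*} [Field K] [Fintype K] [Module K V] (ι : K ≃+* alg A)
    (hι : ∀ (k : K) (v : V), (ι k).1 v = k • v) {g : V ≃ₗ[ZMod p] V}
    (hg : ∀ a ∈ A, g * a * g⁻¹ ∈ A) :
    ∃ σ : K ≃+* K, ∀ (k : K) (v : V), g (k • v) = σ k • g v := by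
  let f : K →+* K := (ι.symm : alg A →+* K).comp ((cj g hg).comp (ι : K →+* alg A))
  refine ⟨RingEquiv.ofBijective f (Finite.injective_iff_bijective.1 f.injective), ?_⟩
  intro k v
  change _ = f k • g v
  rw [← hι, ← hι]
  change _ = (ι (ι.symm (cj g hg (ι k)))).1 (g v)
  rw [RingEquiv.apply_symm_apply, cj_apply]

/-- one-dimensional over a field normalised by `G` -/
theorem semi_of_line {K : Type} [Field K] [Fintype K] [Module K V]
    {G : Subgroup (V ≃ₗ[ZMod p] V)} {v₀ : V} (hv₀ : v₀ ≠ 0) (hsp : ∀ v : V, ∃ k : K, k • v₀ = v)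
    (hG : ∀ g ∈ G, ∃ σ : K ≃+* K, ∀ (k : K) (v : V), g (k • v) = σ k • g v) : Semi G := by
  let f : K →+ V :=
    { toFun := fun k => k • v₀
      map_zero' := zero_smul K v₀
      map_add' := fun a b => add_smul a b v₀ }
  have hf : Function.Bijective f := by
    refine ⟨?_, hsp⟩
    intro a b hab
    have h1 : a • v₀ = b • v₀ := hab
    exact smul_left_injective K hv₀ h1
  let e : V ≃+ K := (AddEquiv.ofBijective f hf).symm
  have he : ∀ v, e v • v₀ = v := fun v => (AddEquiv.ofBijective f hf).apply_symm_apply v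
  have he' : ∀ k : K, e (k • v₀) = k := fun k => (AddEquiv.ofBijective f hf).symm_apply_apply k
  refine ⟨K, inferInstance, inferInstance, e, ?_⟩
  intro g hg
  obtain ⟨σ, hσ⟩ := hG g hg
  refine ⟨e (g v₀), σ, ?_⟩
  intro v
  have h1 : g v = (e (g v₀) * σ (e v)) • v₀ := by
    conv_lhs => rw [← he v, hσ, ← he (g v₀)]
    rw [smul_smul, mul_comm]
  rw [h1, he']

/-- **R2.** An irreducible commutative subgroup normalised by `G` makes `G` semilinear. -/
theorem semi_of_irr_comm [Finite V] [Nontrivial V] {G : Subgroup (V ≃ₗ[ZMod p] V)}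
    (A : Subgroup (V ≃ₗ[ZMod p] V)) (hA : ∀ a ∈ A, ∀ b ∈ A, a * b = b * a)
    (hirr : ∀ W : Submodule (ZMod p) V, (∀ a ∈ A, ∀ w ∈ W, a w ∈ W) → W = ⊥ ∨ W = ⊤)
    (hn : ∀ g ∈ G, ∀ a ∈ A, g * a * g⁻¹ ∈ A) : Semi G := by
  have hinj : ∀ k ∈ alg A, k ≠ 0 → Function.Injective k := by
    intro k hk hk0
    rcases hirr (LinearMap.ker k) (by
      intro a ha w hw
      rw [LinearMap.mem_ker] at hw ⊢
      have h1 := LinearMap.congr_fun (alg_mul_comm hA hk (mem_alg ha)) w
      change k (a w) = a (k w) at h1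
      rw [h1, hw, map_zero]) with h | h
    · exact LinearMap.ker_eq_bot.1 h
    · exact absurd (LinearMap.ker_eq_top.1 h) hk0
  obtain ⟨K, i1, i2, i3, ι, hι⟩ := exists_model hA hinj
  obtain ⟨v₀, hv₀⟩ := exists_ne (0 : V)
  refine semi_of_line (K := K) hv₀ ?_ (fun g hg => exists_aut ι hι (hn g hg))
  -- the line through `v₀` is `A`-invariant
  let W : Submodule (ZMod p) V :=
    { carrier := {v | ∃ k : K, k • v₀ = v}
      zero_mem' := ⟨0, zero_smul K v₀⟩
      add_mem' := by
        rintro a b ⟨k, rfl⟩ ⟨l, rfl⟩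
        exact ⟨k + l, add_smul k l v₀⟩
      smul_mem' := by
        rintro c a ⟨k, rfl⟩
        refine ⟨ι.symm (c • ι k), ?_⟩
        rw [← hι, RingEquiv.apply_symm_apply, ← hι]
        rfl }
  rcases hirr W (by
    rintro a ha w ⟨k, rfl⟩
    refine ⟨ι.symm ⟨_, mem_alg ha⟩ * k, ?_⟩
    rw [mul_smul, ← hι, RingEquiv.apply_symm_apply]
    rfl) with h | h
  · exfalso
    have h1 : v₀ ∈ W := ⟨1, one_smul K v₀⟩
    rw [h, Submodule.mem_bot] at h1
    exact hv₀ h1
  · intro v
    have : v ∈ W := by rw [h]; trivial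
    exact this

theorem exists_norm {K : Type*} [Field K] [Fintype K] (σ : RingAut K) {c : K} (hc : σ c = c) :
    ∃ b : K, ∏ i ∈ Finset.range (orderOf σ), (σ ^ i) b = c := by
  haveI hfin : Finite (RingAut K) :=
    Finite.of_injective (fun g : RingAut K => (g : K → K)) DFunLike.coe_injective
  let H : Subgroup (RingAut K) := Subgroup.zpowers σ
  have hc' : c ∈ FixedPoints.subfield H K := by
    intro s
    obtain ⟨s, hs⟩ := s
    obtain ⟨i, rfl⟩ := (isOfFinOrder_of_finite σ).mem_powers_iff_mem_zpowers.2 hs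
    change (σ ^ i) c = c
    induction i with
    | zero => rfl
    | succ n ih => 
      rw [pow_succ]
      change (σ ^ n) (σ c) = c
      rw [hc]
      exact ih ((isOfFinOrder_of_finite σ).mem_powers_iff_mem_zpowers.1 ⟨n, rfl⟩)
  haveI : Finite K := inferInstance
  haveI hgal : IsGalois (FixedPoints.subfield H K) K := IsGalois.of_fixed_field K H
  obtain ⟨b, hb⟩ := FiniteField.norm_surjective (FixedPoints.subfield H K) K ⟨c, hc'⟩
  refine ⟨b, ?_⟩
  have h1 := Algebra.norm_eq_prod_automorphisms (FixedPoints.subfield H K) (L := K) b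
  rw [hb] at h1
  have h2 : algebraMap (FixedPoints.subfield H K) K ⟨c, hc'⟩ = c := rfl
  rw [h2] at h1
  letI : Fintype H := Fintype.ofFinite _
  rw [h1, ← (Equiv.ofBijective _ (FixedPoints.toAlgAut_bijective H K)).prod_comp
    (fun s => s b), ← Fin.prod_univ_eq_prod_range (fun i => (σ ^ i) b),
    ← (finEquivZPowers (isOfFinOrder_of_finite σ)).prod_comp]
  rfl

/-- **Hilbert 90** for vector spaces over a finite field -/
theorem exists_fixed_semi {K : Type*} [Field K] {V : Type*} [AddCommGroup V] [Module K V]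
    (σ : RingAut K) (ho : 0 < orderOf σ) (τ : V →+ V) (hτ : ∀ (k : K) (v : V), τ (k • v) = σ k • τ v)
    (he : ∀ v, τ^[orderOf σ] v = v) {v : V} (hv : v ≠ 0) : ∃ w : V, w ≠ 0 ∧ τ w = w := by
  -- `τ^i (k v) = σ^i k τ^i v`
  have hit : ∀ (i : ℕ) (k : K) (v : V), τ^[i] (k • v) = (σ ^ i) k • τ^[i] v := by
    intro i
    induction i with
    | zero => intro k v; rfl
    | succ n ih =>
      intro k v
      rw [Function.iterate_succ_apply', ih, hτ, Function.iterate_succ_apply', pow_succ']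
      rfl
  by_contra hcon
  push Not at hcon
  have hS : ∀ k : K, ∑ i ∈ Finset.range (orderOf σ), τ^[i] (k • v) = 0 := by
    intro k
    by_contra hne
    apply hcon _ hne
    rw [map_sum]
    obtain ⟨n, hn⟩ : ∃ n, orderOf σ = n + 1 := ⟨orderOf σ - 1, by omega⟩
    have he' : τ (τ^[n] (k • v)) = k • v := by
      rw [← Function.iterate_succ_apply' τ n]
      have := he (k • v)
      rw [hn] at this
      exact this
    rw [hn, Finset.sum_range_succ, Finset.sum_range_succ', he']
    congr 1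
    refine Finset.sum_congr rfl ?_
    intro i _
    exact (Function.iterate_succ_apply' τ i _).symm
  obtain ⟨f, hf⟩ : ∃ f : Module.Dual K V, f v ≠ 0 := by
    by_contra hc
    push Not at hc
    exact hv ((Module.forall_dual_apply_eq_zero_iff K v).1 hc)
  have hli := (linearIndependent_monoidHom K K).comp
    (fun i : Fin (orderOf σ) => ((σ ^ (i : ℕ) : RingAut K) : K →* K)) (by
      intro i j hij
      apply Fin.ext
      have h1 : σ ^ (i : ℕ) = σ ^ (j : ℕ) := by
        apply RingEquiv.ext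
        intro k
        exact DFunLike.congr_fun hij k
      exact pow_injOn_Iio_orderOf (Set.mem_Iio.2 i.2) (Set.mem_Iio.2 j.2) h1)
  rw [Fintype.linearIndependent_iff] at hli
  have h0 := hli (fun i => f (τ^[(i : ℕ)] v)) (by
    funext k
    have h1 := congrArg f (hS k)
    rw [map_sum, map_zero, ← Fin.sum_univ_eq_sum_range (fun i => f (τ^[i] (k • v)))] at h1
    rw [Finset.sum_apply]
    refine Eq.trans ?_ h1
    refine Finset.sum_congr rfl ?_
    intro i _
    rw [hit, map_smul]
    change f (τ^[(i : ℕ)] v) * (σ ^ (i : ℕ)) k = _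
    rw [smul_eq_mul, mul_comm]) ⟨0, ho⟩
  exact hf h0

/-- a semilinear map whose `orderOf σ`-th power is scalar has an invariant line -/
theorem exists_line {K : Type*} [Field K] [Fintype K] {V : Type*} [AddCommGroup V] [Module K V]
    [Nontrivial V] (σ : RingAut K) (τ : V →+ V) (hτ : ∀ (k : K) (v : V), τ (k • v) = σ k • τ v)
    (hinj : Function.Injective τ) {c : K} (hc0 : c ≠ 0)
    (hc : ∀ v, τ^[orderOf σ] v = c • v) : ∃ w : V, w ≠ 0 ∧ ∃ k : K, τ w = k • w := by
  haveI hfin : Finite (RingAut K) :=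
    Finite.of_injective (fun g : RingAut K => (g : K → K)) DFunLike.coe_injective
  obtain ⟨v, hv⟩ := exists_ne (0 : V)
  have hσc : σ c = c := by
    have h1 : τ^[orderOf σ] (τ v) = τ (τ^[orderOf σ] v) := by
      rw [← Function.iterate_succ_apply, Function.iterate_succ_apply']
    rw [hc, hc, hτ] at h1
    have h2 : τ v ≠ 0 := fun h => hv (hinj (by rw [h, map_zero]))
    exact (smul_left_injective K h2 h1).symm
  obtain ⟨b, hb⟩ := exists_norm σ (c := c⁻¹) (by rw [map_inv₀, hσc])
  have hb0 : b ≠ 0 := by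
    rintro rfl
    have : (∏ i ∈ Finset.range (orderOf σ), (σ ^ i) (0 : K)) = 0 :=
      Finset.prod_eq_zero (Finset.mem_range.2 (orderOf_pos σ)) (map_zero _)
    rw [this] at hb
    exact inv_ne_zero hc0 hb.symm
  let τ' : V →+ V :=
    { toFun := fun v => b • τ v
      map_zero' := by rw [map_zero, smul_zero]
      map_add' := fun a b => by rw [map_add, smul_add] }
  have hτ' : ∀ v, τ' v = b • τ v := fun v => rfl
  have hit : ∀ (n : ℕ) (v : V), τ'^[n] v = (∏ i ∈ Finset.range n, (σ ^ i) b) • τ^[n] v := by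
    intro n
    induction n with
    | zero => intro v; rw [Finset.prod_range_zero, one_smul]; rfl
    | succ n ih =>
      intro v
      rw [Function.iterate_succ_apply', ih, hτ', hτ, smul_smul, Function.iterate_succ_apply',
        Finset.prod_range_succ', map_prod, mul_comm]
      congr 2
      refine Finset.prod_congr rfl ?_
      intro i _
      rw [pow_succ']
      rfl
  obtain ⟨w, hw, hw'⟩ := exists_fixed_semi σ (orderOf_pos σ) τ' (by
    intro k v
    rw [hτ', hτ, hτ', smul_smul, smul_smul, mul_comm]) (by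
    intro v
    rw [hit, hb, hc, smul_smul, inv_mul_cancel₀ hc0, one_smul]) hv
  refine ⟨w, hw, b⁻¹, ?_⟩
  rw [hτ'] at hw'
  rw [eq_inv_smul_iff₀ hb0]
  exact hw'

/-- The automorphism group of a finite field is cyclic. -/
theorem isCyclic_ringAut' (F : Type*) [Field F] [Finite F] : IsCyclic (RingAut F) := by
  obtain ⟨p, hp⟩ := CharP.exists F
  have hpp : Fact p.Prime := ⟨CharP.char_is_prime F p⟩
  let _ : Algebra (ZMod p) F := ZMod.algebra F p
  let φ : (F ≃ₐ[ZMod p] F) →* (RingAut F) :=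
    { toFun := fun σ => σ.toRingEquiv
      map_one' := rfl
      map_mul' := fun _ _ => rfl }
  have hφ : Function.Surjective φ := by
    intro σ
    refine ⟨AlgEquiv.ofRingEquiv (f := σ) ?_, ?_⟩
    · intro x
      have : (σ : F →+* F).comp (algebraMap (ZMod p) F) = algebraMap (ZMod p) F :=
        Subsingleton.elim _ _
      exact RingHom.congr_fun this x
    · ext x
      rfl
  exact isCyclic_of_surjective φ hφ

/-- **R3.** If `G` is irreducible, `A ≤ G` is normal, abelian, self-centralising and homogeneous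
(all non-zero elements of the algebra it generates are injective), then `G` is semilinear of
dimension one. -/
theorem semi_of_self_cent [Finite V] [Nontrivial V] {G : Subgroup (V ≃ₗ[ZMod p] V)}
    (hG : ∀ W : Submodule (ZMod p) V, (∀ g ∈ G, ∀ w ∈ W, g w ∈ W) → W = ⊥ ∨ W = ⊤)
    (A : Subgroup (V ≃ₗ[ZMod p] V)) (hA : ∀ a ∈ A, ∀ b ∈ A, a * b = b * a)
    (hn : ∀ g ∈ G, ∀ a ∈ A, g * a * g⁻¹ ∈ A)
    (hinj : ∀ k ∈ alg A, k ≠ 0 → Function.Injective k)
    (hC : ∀ g ∈ G, (∀ a ∈ A, g * a = a * g) → g ∈ A) : Semi G := by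
  obtain ⟨K, i1, i2, i3, ι, hι⟩ := exists_model hA hinj
  obtain ⟨v₀, hv₀⟩ := exists_ne (0 : V)
  have hex : ∀ g : G, ∃ σ : RingAut K, ∀ (k : K) (v : V),
      (g : V ≃ₗ[ZMod p] V) (k • v) = σ k • (g : V ≃ₗ[ZMod p] V) v :=
    fun g => exists_aut ι hι (hn g g.2)
  choose s hs using hex
  have huniq : ∀ (g : G) (σ : RingAut K), (∀ (k : K) (v : V),
      (g : V ≃ₗ[ZMod p] V) (k • v) = σ k • (g : V ≃ₗ[ZMod p] V) v) → s g = σ := by
    intro g σ h
    apply RingEquiv.ext
    intro k
    have h1 := (hs g k v₀).symm.trans (h k v₀)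
    exact smul_left_injective K (fun h => hv₀ ((map_eq_zero_iff _
      (g : V ≃ₗ[ZMod p] V).injective).1 h)) h1
  let Φ : G →* RingAut K :=
    { toFun := s
      map_one' := huniq 1 1 (fun k v => rfl)
      map_mul' := fun a b => huniq (a * b) (s a * s b) (fun k v => by
        change (a : V ≃ₗ[ZMod p] V) ((b : V ≃ₗ[ZMod p] V) (k • v)) = s a (s b k) •
          (a : V ≃ₗ[ZMod p] V) ((b : V ≃ₗ[ZMod p] V) v)
        rw [hs, hs]) }
  -- the kernel acts by scalars
  have hker : ∀ g : G, Φ g = 1 → ∃ c : K, ∀ v : V, (g : V ≃ₗ[ZMod p] V) v = c • v := by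
    intro g hg
    have h1 : (g : V ≃ₗ[ZMod p] V) ∈ A := by
      refine hC g g.2 ?_
      intro a ha
      apply LinearEquiv.ext
      intro v
      have h2 : ∀ v, a v = ι.symm ⟨_, mem_alg ha⟩ • v := by
        intro v
        rw [← hι, RingEquiv.apply_symm_apply]
        rfl
      change (g : V ≃ₗ[ZMod p] V) (a v) = a ((g : V ≃ₗ[ZMod p] V) v)
      rw [h2, h2, hs]
      congr 1
      exact congrArg (fun σ : RingAut K => σ _) hg
    refine ⟨ι.symm ⟨_, mem_alg h1⟩, ?_⟩
    intro v
    rw [← hι, RingEquiv.apply_symm_apply]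
    rfl
  -- a generator of the image
  have := isCyclic_ringAut' K
  obtain ⟨g₀, hg₀⟩ : ∃ g₀ : G, ∀ g : G, ∃ i : ℕ, Φ g = Φ g₀ ^ i := by
    have hfin : Finite (RingAut K) :=
      Finite.of_injective (fun g : RingAut K => (g : K → K)) DFunLike.coe_injective
    obtain ⟨⟨_, g₀, rfl⟩, hgen⟩ := IsCyclic.exists_generator (α := Φ.range)
    refine ⟨g₀, ?_⟩
    intro g
    obtain ⟨i, hi⟩ := (isOfFinOrder_of_finite _).mem_powers_iff_mem_zpowers.2
      (hgen ⟨Φ g, g, rfl⟩)
    exact ⟨i, (congrArg Subtype.val hi).symm⟩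
  -- the `orderOf`-th power of `g₀` is a scalar
  have hiter : ∀ (n : ℕ) (v : V), (g₀ : V ≃ₗ[ZMod p] V)^[n] v =
      ((g₀ ^ n : G) : V ≃ₗ[ZMod p] V) v := by
    intro n
    induction n with
    | zero => intro v; rfl
    | succ n ih => intro v; rw [Function.iterate_succ_apply', ih, pow_succ']; rfl
  obtain ⟨c, hc⟩ := hker (g₀ ^ orderOf (Φ g₀)) (by rw [map_pow, pow_orderOf_eq_one])
  obtain ⟨w, hw, k₀, hk₀⟩ := exists_line (K := K) (Φ g₀)
    ((g₀ : V ≃ₗ[ZMod p] V) : V →+ V) (fun k v => hs g₀ k v)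
    (g₀ : V ≃ₗ[ZMod p] V).injective (c := c) (by
      rintro rfl
      have h1 := hc v₀
      rw [zero_smul] at h1
      exact hv₀ ((map_eq_zero_iff _ (LinearEquiv.injective _)).1 h1)) (by
      intro v
      exact (hiter _ v).trans (hc v))
  have hk₀' : (g₀ : V ≃ₗ[ZMod p] V) w = k₀ • w := hk₀
  -- every element maps `w` to a multiple of `w`
  have hline : ∀ g : G, ∃ k : K, (g : V ≃ₗ[ZMod p] V) w = k • w := by
    intro g
    obtain ⟨i, hi⟩ := hg₀ g
    have hpow : ∀ n : ℕ, ∃ k : K, ((g₀ ^ n : G) : V ≃ₗ[ZMod p] V) w = k • w := by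
      intro n
      induction n with
      | zero => exact ⟨1, (one_smul K w).symm⟩
      | succ n ih =>
        obtain ⟨k, hk⟩ := ih
        refine ⟨s g₀ k * k₀, ?_⟩
        rw [pow_succ']
        change (g₀ : V ≃ₗ[ZMod p] V) (((g₀ ^ n : G) : V ≃ₗ[ZMod p] V) w) = _
        rw [hk, hs, hk₀', smul_smul]
    obtain ⟨k, hk⟩ := hpow i
    obtain ⟨c', hc'⟩ := hker (g * (g₀ ^ i)⁻¹) (by
      rw [map_mul, map_inv, map_pow, hi, mul_inv_cancel])
    refine ⟨c' * k, ?_⟩
    have e : g = (g * (g₀ ^ i)⁻¹) * g₀ ^ i := by group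
    rw [e]
    change ((g * (g₀ ^ i)⁻¹ : G) : V ≃ₗ[ZMod p] V) (((g₀ ^ i : G) : V ≃ₗ[ZMod p] V) w) = _
    rw [hk, hc', smul_smul]
  refine semi_of_line (K := K) hw ?_ (fun g hg => ⟨s ⟨g, hg⟩, hs ⟨g, hg⟩⟩)
  let W : Submodule (ZMod p) V :=
    { carrier := {v | ∃ k : K, k • w = v}
      zero_mem' := ⟨0, zero_smul K w⟩
      add_mem' := by
        rintro a b ⟨k, rfl⟩ ⟨l, rfl⟩
        exact ⟨k + l, add_smul k l w⟩
      smul_mem' := by
        rintro c a ⟨k, rfl⟩
        refine ⟨ι.symm (c • ι k), ?_⟩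
        rw [← hι, RingEquiv.apply_symm_apply, ← hι]
        rfl }
  rcases hG W (by
    rintro g hg _ ⟨k, rfl⟩
    obtain ⟨l, hl⟩ := hline ⟨g, hg⟩
    refine ⟨s ⟨g, hg⟩ k * l, ?_⟩
    have h1 := hs ⟨g, hg⟩ k w
    change g (k • w) = _ at h1
    rw [h1, mul_smul]
    congr 1
    exact hl.symm) with h | h
  · exfalso
    have h1 : w ∈ W := ⟨1, one_smul K w⟩
    rw [h, Submodule.mem_bot] at h1
    exact hw h1
  · intro v
    have : v ∈ W := by rw [h]; trivial
    exact this

end Cfsg.Agent.H19.HT
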