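import Cfsg.Agent.H19.HT.Irr
import Cfsg.Agent.H19.HT.Semi
import Cfsg.Agent.H960.HT.Imp

/-!
# Imprimitive half-transitive linear groups of order divisible by `p` (S3512, R4)
-/

set_option autoImplicit false
set_option linter.style.haveILetI false
set_option linter.unusedSectionVars false

open scoped Classical
open Cfsg.Agent.H828.HT Cfsg.Agent.H960.HT

namespace Cfsg.Agent.H19.HT

universe u

variable {p : ℕ} [Fact p.Prime] {V : Type u} [AddCommGroup V] [Module (ZMod p) V] [Finite V]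
  {G : Subgroup (V ≃ₗ[ZMod p] V)} {h : ℕ} {B : Set (Submodule (ZMod p) V)}

/-- blocks are independent: a vector of one block which is a sum of vectors of other blocks is zero -/
theorem sys_zero (H : Sys G B) {X : Submodule (ZMod p) V} (hX : X ∈ B) {x y : V} (hx : x ∈ X)
    (hxy : x = y) (hy : y ∈ sSup (B \ {X})) : x = 0 :=
  Submodule.disjoint_def.1 (H.ind hX) x hx (hxy ▸ hy)

theorem mem_rest {X Y : Submodule (ZMod p) V} (hY : Y ∈ B) (hYX : Y ≠ X) {y : V} (hy : y ∈ Y) :
    y ∈ sSup (B \ {X}) :=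
  (le_sSup (s := B \ {X}) ⟨hY, hYX⟩) hy

theorem map_ne {g : V ≃ₗ[ZMod p] V} {X Y : Submodule (ZMod p) V} (hXY : X ≠ Y) :
    X.map (g : V →ₗ[ZMod p] V) ≠ Y.map (g : V →ₗ[ZMod p] V) := by
  intro hc
  exact hXY (Submodule.map_injective_of_injective (f := (g : V →ₗ[ZMod p] V)) g.injective hc)

/-- the stabiliser of the sum of two block vectors permutes them -/
theorem sum_stab (H : Sys G B) {X Y : Submodule (ZMod p) V} (hX : X ∈ B) (hY : Y ∈ B)
    (hXY : X ≠ Y) {v w : V} (hv : v ∈ X) (hv0 : v ≠ 0) (hw : w ∈ Y)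
    {s : V ≃ₗ[ZMod p] V} (hsG : s ∈ G) (hs : s (v + w) = v + w) :
    (s v = v ∧ s w = w) ∨ s v = w := by
  have hsv : s v ∈ X.map (s : V →ₗ[ZMod p] V) := ⟨v, hv, rfl⟩
  have hsw : s w ∈ Y.map (s : V →ₗ[ZMod p] V) := ⟨w, hw, rfl⟩
  have hsX := H.perm s hsG X hX
  have hsY := H.perm s hsG Y hY
  have hne := map_ne (g := s) hXY
  rw [map_add] at hs
  by_cases h1 : X.map (s : V →ₗ[ZMod p] V) = X
  · left
    have h2 : s v - v = w - s w := by
      rw [sub_eq_sub_iff_add_eq_add, hs, add_comm]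
    have h3 := sys_zero H hX (X.sub_mem (h1 ▸ hsv) hv) h2
      ((sSup (B \ {X})).sub_mem (mem_rest hY hXY.symm hw)
        (mem_rest hsY (fun h => hne (h1.trans h.symm)) hsw))
    have h4 : s v = v := sub_eq_zero.1 h3
    refine ⟨h4, ?_⟩
    rw [h4] at hs
    exact add_left_cancel hs
  · by_cases h2 : X.map (s : V →ₗ[ZMod p] V) = Y
    · right
      have h3 : s v - w = v - s w := by
        rw [sub_eq_sub_iff_add_eq_add, hs]
      have h4 := sys_zero H hY (Y.sub_mem (h2 ▸ hsv) hw) h3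
        ((sSup (B \ {Y})).sub_mem (mem_rest hX hXY hv)
          (mem_rest hsY (fun h => hne (h2.trans h.symm)) hsw))
      exact sub_eq_zero.1 h4
    · exfalso
      have h3 : s v = v + w - s w := by rw [← hs, add_sub_cancel_right]
      have h4 := sys_zero H hsX hsv h3
        ((sSup (B \ {X.map (s : V →ₗ[ZMod p] V)})).sub_mem
          ((sSup (B \ {X.map (s : V →ₗ[ZMod p] V)})).add_mem
            (mem_rest hX (fun h => h1 h.symm) hv) (mem_rest hY (fun h => h2 h.symm) hw))
          (mem_rest hsY hne.symm hsw))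
      exact hv0 ((map_eq_zero_iff _ s.injective).1 h4)

/-- **Key lemma.** squares of elements fixing a block vector fix all vectors of the other blocks -/
theorem sq_fix (hh : Half G h) (H : Sys G B) {X Y : Submodule (ZMod p) V} (hX : X ∈ B)
    (hY : Y ∈ B) (hXY : X ≠ Y) {v w : V} (hv : v ∈ X) (hv0 : v ≠ 0) (hw : w ∈ Y)
    {g : G} (hg : (g : V ≃ₗ[ZMod p] V) v = v) :
    ((g * g : G) : V ≃ₗ[ZMod p] V) w = w := by
  have hvw : v + w ≠ 0 := by
    intro hc
    have h1 : v = -w := eq_neg_of_add_eq_zero_left hc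
    exact hv0 (sys_zero H hX hv h1 ((sSup (B \ {X})).neg_mem (mem_rest hY hXY.symm hw)))
  let S := MulAction.stabilizer G (v + w)
  let T := MulAction.stabilizer G v
  let D : Subgroup G := T ⊓ MulAction.stabilizer G w
  have hS : Nat.card S = h := hh _ hvw
  have hT : Nat.card T = h := hh _ hv0
  have hSD : Nat.card S ≤ 2 * Nat.card D := by
    have h1 := Nat.card_congr (MulAction.orbitProdStabilizerEquivGroup S v)
    rw [Nat.card_prod] at h1
    have h2 : Nat.card (MulAction.orbit S v) ≤ 2 := by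
      have hsub : MulAction.orbit S v ⊆ {v, w} := by
        rintro _ ⟨s, rfl⟩
        rcases sum_stab H hX hY hXY hv hv0 hw s.1.2 s.2 with h | h
        · left; exact h.1
        · right; exact h
      calc Nat.card (MulAction.orbit S v) ≤ Nat.card ({v, w} : Set V) :=
            Nat.card_mono (Set.toFinite _) hsub
        _ ≤ 2 := by
            rw [Nat.card_coe_set_eq]
            exact (Set.ncard_insert_le _ _).trans (by rw [Set.ncard_singleton])
    have h3 : Nat.card (MulAction.stabilizer S v) ≤ Nat.card D := by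
      refine Nat.card_le_card_of_injective
        (fun s => (⟨s.1.1, ?_⟩ : D)) ?_
      · have hs1 : ((s.1.1 : G) : V ≃ₗ[ZMod p] V) v = v := s.2
        have hs2 : ((s.1.1 : G) : V ≃ₗ[ZMod p] V) (v + w) = v + w := s.1.2
        refine ⟨hs1, ?_⟩
        rw [map_add, hs1] at hs2
        exact add_left_cancel hs2
      · intro a b hab
        apply Subtype.ext
        apply Subtype.ext
        exact congrArg (fun x : D => x.1) hab
    rw [← h1]
    exact Nat.mul_le_mul h2 h3
  have hDT : D ≤ T := inf_le_left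
  have hidx : (D.subgroupOf T).index ≤ 2 := by
    have h1 := (D.subgroupOf T).card_mul_index
    have h2 : Nat.card (D.subgroupOf T) = Nat.card D :=
      Nat.card_congr (Subgroup.subgroupOfEquivOfLe hDT).toEquiv
    rw [h2] at h1
    have h3 : 0 < Nat.card D := Nat.card_pos
    by_contra hc
    push Not at hc
    have h4 : Nat.card D * 3 ≤ Nat.card D * (D.subgroupOf T).index :=
      Nat.mul_le_mul_left _ hc
    have h5 : Nat.card D * (D.subgroupOf T).index = h := h1.trans hT
    omega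
  have hmem : (⟨g, hg⟩ : T) * ⟨g, hg⟩ ∈ D.subgroupOf T := by
    have h0 : (D.subgroupOf T).index ≠ 0 := Subgroup.index_ne_zero_of_finite
    have h1 : (D.subgroupOf T).index = 1 ∨ (D.subgroupOf T).index = 2 := by omega
    rcases h1 with h1 | h1
    · rw [Subgroup.index_eq_one.1 h1]; trivial
    · exact Subgroup.mul_self_mem_of_index_two h1 _
  rw [Subgroup.mem_subgroupOf] at hmem
  exact hmem.2

/-- an element of odd order fixing a block vector is trivial -/
theorem odd_trivial (hh : Half G h) (hirr : Irr G) (H : Sys G B) {X : Submodule (ZMod p) V}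
    (hX : X ∈ B) {v : V} (hv : v ∈ X) (hv0 : v ≠ 0) {g : G}
    (hg : (g : V ≃ₗ[ZMod p] V) v = v) (ho : Odd (orderOf g)) : g = 1 := by
  have hpow : ∀ w : V, ((g * g : G) : V ≃ₗ[ZMod p] V) w = w → (g : V ≃ₗ[ZMod p] V) w = w := by
    intro w hw
    obtain ⟨l, hl⟩ := ho
    have h1 : ∀ n : ℕ, (((g * g) ^ n : G) : V ≃ₗ[ZMod p] V) w = w := by
      intro n
      induction n with
      | zero => rfl
      | succ n ih =>
        rw [pow_succ']
        change ((g * g : G) : V ≃ₗ[ZMod p] V) ((((g * g) ^ n : G) : V ≃ₗ[ZMod p] V) w) = w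
        rw [ih, hw]
    have h2 : (g * g) ^ (l + 1) = g := by
      rw [← pow_two, ← pow_mul]
      have : 2 * (l + 1) = orderOf g + 1 := by omega
      rw [this, pow_succ, pow_orderOf_eq_one, one_mul]
    have h3 := h1 (l + 1)
    rw [h2] at h3
    exact h3
  obtain ⟨Y, hY, hYX⟩ := H.nt.exists_ne X
  obtain ⟨w, hw, hw0⟩ := Submodule.exists_mem_ne_zero_of_ne_bot (H.ne Y hY)
  have h1 : ∀ Z ∈ B, Z ≠ X → ∀ z ∈ Z, (g : V ≃ₗ[ZMod p] V) z = z :=
    fun Z hZ hZX z hz => hpow z (sq_fix hh H hX hZ hZX.symm hv hv0 hz hg)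
  have h2 : ∀ x ∈ X, (g : V ≃ₗ[ZMod p] V) x = x :=
    fun x hx => hpow x (sq_fix hh H hY hX hYX hw hw0 hx (h1 Y hY hYX w hw))
  have h3 : ∀ Z ∈ B, Z ≤ fx (g : V ≃ₗ[ZMod p] V) := by
    intro Z hZ z hz
    rw [mem_fx]
    by_cases h : Z = X
    · subst h; exact h2 z hz
    · exact h1 Z hZ h z hz
  have h4 : fx (g : V ≃ₗ[ZMod p] V) = ⊤ := by
    rw [eq_top_iff, ← H.iSup_top hirr subset_rfl H.nt.nonempty H.perm]
    exact sSup_le h3
  apply Subtype.ext
  apply LinearEquiv.ext
  intro z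
  have : z ∈ fx (g : V ≃ₗ[ZMod p] V) := by rw [h4]; trivial
  exact mem_fx.1 this

/-- the number of blocks divides the orbit length -/
theorem ncard_dvd (hh : Half G h) (hirr : Irr G) (H : Sys G B) {m : ℕ}
    (hm : m * h = Nat.card G) : B.ncard ∣ m := by
  obtain ⟨X, hX⟩ := H.nt.nonempty
  obtain ⟨v, hv, hv0⟩ := Submodule.exists_mem_ne_zero_of_ne_bot (H.ne X hX)
  letI act : MulAction G B :=
    { smul := fun g Z => ⟨Z.1.map ((g : V ≃ₗ[ZMod p] V) : V →ₗ[ZMod p] V), H.perm g g.2 Z.1 Z.2⟩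
      one_smul := fun Z => Subtype.ext (Submodule.map_id Z.1)
      mul_smul := fun a b Z => Subtype.ext (by
        change Submodule.map _ _ = Submodule.map _ (Submodule.map _ _)
        rw [← Submodule.map_comp]
        rfl) }
  have hsm : ∀ (g : G) (Z : B), (g • Z).1 =
      Z.1.map ((g : V ≃ₗ[ZMod p] V) : V →ₗ[ZMod p] V) := fun g Z => rfl
  have h1 := Nat.card_congr (MulAction.orbitProdStabilizerEquivGroup G (⟨X, hX⟩ : B))
  rw [Nat.card_prod] at h1
  have h2 : MulAction.orbit G (⟨X, hX⟩ : B) = Set.univ := by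
    rw [Set.eq_univ_iff_forall]
    intro Z
    obtain ⟨g, hg, h⟩ := H.trans hirr hX Z.2
    exact ⟨⟨g, hg⟩, Subtype.ext h⟩
  have h3 : Nat.card (MulAction.orbit G (⟨X, hX⟩ : B)) = B.ncard := by
    rw [h2, Nat.card_congr (Equiv.Set.univ _), Nat.card_coe_set_eq]
  have h4 : h ∣ Nat.card (MulAction.stabilizer G (⟨X, hX⟩ : B)) := by
    rw [← hh v hv0]
    refine Subgroup.card_dvd_of_le ?_
    intro g hg
    have hg' : (g : V ≃ₗ[ZMod p] V) v = v := hg
    rw [MulAction.mem_stabilizer_iff]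
    apply Subtype.ext
    rw [hsm]
    by_contra hc
    have h5 : v ∈ X.map ((g : V ≃ₗ[ZMod p] V) : V →ₗ[ZMod p] V) := ⟨v, hv, hg'⟩
    exact hv0 (sys_zero H hX hv rfl (mem_rest (H.perm g g.2 X hX) hc h5))
  obtain ⟨c, hc⟩ := h4
  rw [h3, hc] at h1
  have h0 := h_pos hh hv0
  refine ⟨c, ?_⟩
  have h5 : m * h = (B.ncard * c) * h := by rw [hm, ← h1]; ring
  exact Nat.eq_of_mul_eq_mul_right h0 h5

theorem four_pow_gt (j : ℕ) : 2 * (j + 5) ^ 2 < 4 ^ (j + 3) := by
  induction j with
  | zero => norm_num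
  | succ j ih =>
    have : 4 ^ (j + 1 + 3) = 4 * 4 ^ (j + 3) := by ring
    nlinarith

theorem two_pow_gt' (j : ℕ) : 2 * (j + 7) ^ 2 < 2 ^ (j + 7) := by
  induction j with
  | zero => norm_num
  | succ j ih =>
    have e : 2 ^ (j + 1 + 7) = 2 * 2 ^ (j + 7) := by ring
    have h1 : (j + 1 + 7) ^ 2 ≤ 2 * (j + 7) ^ 2 := by nlinarith [Nat.zero_le (j * j)]
    omega

/-- the arithmetic of the imprimitive case in characteristic two -/
theorem num_two {n k m : ℕ} (hn : 2 ≤ n) (hodd : ¬ 2 ∣ n) (hk : 1 ≤ k) (h1 : n ∣ m)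
    (h2 : m ∣ n * (2 ^ k - 1)) (h3 : m ∣ 2 ^ (n * k) - 1) (h4 : 2 ^ (n * k) ≤ 2 * m ^ 2) :
    n = 3 ∧ k = 2 ∧ m = 9 := by
  obtain ⟨r, hr⟩ : ∃ r, 2 ^ k = r + 1 := ⟨2 ^ k - 1, by have := Nat.one_le_two_pow (n := k); omega⟩
  have hr1 : 1 ≤ r := by
    have : 2 ^ 1 ≤ 2 ^ k := Nat.pow_le_pow_right (by norm_num) hk
    omega
  have e2 : 2 ^ k - 1 = r := by omega
  rw [e2] at h2
  have hpos : 0 < n * r := by positivity
  have hm := Nat.le_of_dvd hpos h2
  have h5 : (r + 1) ^ n ≤ 2 * (n * r) ^ 2 := by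
    calc (r + 1) ^ n = 2 ^ (n * k) := by rw [← hr, ← pow_mul, mul_comm]
      _ ≤ 2 * m ^ 2 := h4
      _ ≤ 2 * (n * r) ^ 2 := Nat.mul_le_mul_left _ (Nat.pow_le_pow_left hm 2)
  have hn3 : 3 ≤ n := by
    rcases Nat.lt_or_ge n 3 with h | h
    · exfalso
      have : n = 2 := by omega
      subst this
      exact hodd (dvd_refl 2)
    · exact h
  rcases Nat.lt_or_ge n 5 with hn5 | hn5
  · -- n = 3
    have hn3' : n = 3 := by
      rcases Nat.lt_or_ge n 4 with h | h
      · omega
      · exfalso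
        have : n = 4 := by omega
        subst this
        exact hodd (by norm_num)
    subst hn3'
    rcases Nat.lt_or_ge k 5 with hk5 | hk5
    · interval_cases k
      · exfalso
        have hr' : r = 1 := by omega
        subst hr'
        have h6 := h1.trans h3
        norm_num at h6
      · have hr' : r = 3 := by omega
        subst hr'
        have hmle : m ≤ 9 := by omega
        interval_cases m <;> simp_all
      · exfalso
        have h6 := h1.trans h3
        norm_num at h6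
      · exfalso
        have hr' : r = 15 := by omega
        subst hr'
        nlinarith
    · exfalso
      have h6 : 2 ^ 5 ≤ 2 ^ k := Nat.pow_le_pow_right (by norm_num) hk5
      have h7 : 31 ≤ r := by omega
      nlinarith
  · exfalso
    rcases Nat.lt_or_ge k 2 with hk2 | hk2
    · have : k = 1 := by omega
      subst this
      have hr' : r = 1 := by omega
      subst hr'
      rcases Nat.lt_or_ge n 7 with hn7 | hn7
      · interval_cases n
        · have h6 := h1.trans h3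
          norm_num at h6
        · exact hodd (by norm_num)
      · obtain ⟨j, rfl⟩ := Nat.exists_eq_add_of_le hn7
        have h6 := two_pow_gt' j
        rw [Nat.add_comm 7 j] at h5
        norm_num at h5
        omega
    · have h6 : 2 ^ 2 ≤ 2 ^ k := Nat.pow_le_pow_right (by norm_num) hk2
      have h7 : 3 ≤ r := by omega
      obtain ⟨j, rfl⟩ := Nat.exists_eq_add_of_le hn5
      rw [Nat.add_comm 5 j] at h5
      have h8 := four_pow_gt j
      have h9 : (4 : ℕ) ^ (j + 3) ≤ (r + 1) ^ (j + 3) := Nat.pow_le_pow_left (by omega) _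
      have h10 : 2 * ((j + 5) * r) ^ 2 < (r + 1) ^ (j + 5) := by
        calc 2 * ((j + 5) * r) ^ 2 = (2 * (j + 5) ^ 2) * r ^ 2 := by ring
          _ < (r + 1) ^ (j + 3) * r ^ 2 :=
              Nat.mul_lt_mul_of_pos_right (lt_of_lt_of_le h8 h9) (pow_pos (by omega) 2)
          _ ≤ (r + 1) ^ (j + 3) * (r + 1) ^ 2 :=
              Nat.mul_le_mul_left _ (Nat.pow_le_pow_left (by omega) 2)
          _ = (r + 1) ^ (j + 5) := by rw [← pow_add]
      omega

/-- if `|V| = (m - 1)²`, a semiregular subgroup of order `m` is normal -/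
theorem normal_of_card (hh : Half G h) (h0 : 0 < h) {m : ℕ} (hm2 : 3 ≤ m)
    (hm : m * h = Nat.card G) (hV : Nat.card V = (m - 1) ^ 2) (R : Subgroup G)
    (hR : Nat.card R = m) (hsr : ∀ g ∈ R, g ≠ 1 → fx (g : V ≃ₗ[ZMod p] V) = ⊥) : R.Normal := by
  have h1 := sum_fx_half hh
  rw [← Finset.add_sum_erase _ _ (Finset.mem_univ (1 : G))] at h1
  have e1 : Nat.card (fx ((1 : G) : V ≃ₗ[ZMod p] V)) = Nat.card V := by
    rw [Subgroup.coe_one, fx_one]
    exact Nat.card_congr Submodule.topEquiv.toEquiv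
  rw [e1] at h1
  have hle : ∀ g : G, g ≠ 1 → Nat.card (fx (g : V ≃ₗ[ZMod p] V)) ≤ m - 1 := fun g hg => by
    have := fx_lt hh h0 hm (g₀ := g) hg
    omega
  have hbot : ∀ g ∈ R, g ≠ 1 → Nat.card (fx (g : V ≃ₗ[ZMod p] V)) = 1 := by
    intro g hg hg1
    rw [hsr g hg hg1]
    simp
  -- the elements with exactly one fixed vector
  by_contra hcon
  obtain ⟨g, hg, k, hk⟩ : ∃ g ∈ R, ∃ k : G, k * g * k⁻¹ ∉ R := by
    by_contra hc
    push Not at hc
    exact hcon ⟨fun g hg k => hc g hg k⟩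
  have hg1 : g ≠ 1 := by
    rintro rfl
    apply hk
    rw [mul_one, mul_inv_cancel]
    exact R.one_mem
  set g' := k * g * k⁻¹ with hg'
  have hg'1 : g' ≠ 1 := by
    intro hc
    apply hg1
    rw [hg', mul_inv_eq_one] at hc
    exact mul_eq_left.1 hc
  have hfx' : Nat.card (fx (g' : V ≃ₗ[ZMod p] V)) = 1 := by
    have h2 : fx (g' : V ≃ₗ[ZMod p] V) = ⊥ := by
      rw [eq_bot_iff]
      intro v hv
      rw [mem_fx] at hv
      have h3 : ((k⁻¹ : G) : V ≃ₗ[ZMod p] V) v ∈ fx (g : V ≃ₗ[ZMod p] V) := by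
        rw [mem_fx]
        have e : g * k⁻¹ = k⁻¹ * g' := by rw [hg']; group
        change ((g * k⁻¹ : G) : V ≃ₗ[ZMod p] V) v = _
        rw [e]
        change ((k⁻¹ : G) : V ≃ₗ[ZMod p] V) ((g' : V ≃ₗ[ZMod p] V) v) = _
        rw [hv]
      rw [hsr g hg hg1, Submodule.mem_bot] at h3
      exact (Submodule.mem_bot _).2 ((map_eq_zero_iff _ (LinearEquiv.injective _)).1 h3)
    rw [h2]
    simp
  -- split the sum
  let E : Finset G := Finset.univ.filter (fun x => x ∈ R ∧ x ≠ 1)
  have hEcard : E.card + 1 = m := by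
    rw [← hR, Nat.card_eq_fintype_card, Fintype.card_subtype]
    have : E = (Finset.univ.filter (fun x : G => x ∈ R)).erase 1 := by
      ext x
      simp only [E, Finset.mem_filter, Finset.mem_univ, true_and, Finset.mem_erase]
      tauto
    rw [this, Finset.card_erase_of_mem (by simp [R.one_mem])]
    have : 0 < (Finset.univ.filter (fun x : G => x ∈ R)).card :=
      Finset.card_pos.2 ⟨1, by simp [R.one_mem]⟩
    omega
  have hgE : g' ∉ E := by
    intro hc
    exact hk (Finset.mem_filter.1 hc).2.1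
  let E' := insert g' E
  have hE'sub : E' ⊆ Finset.univ.erase (1 : G) := by
    intro x hx
    rw [Finset.mem_erase]
    refine ⟨?_, Finset.mem_univ _⟩
    rcases Finset.mem_insert.1 hx with rfl | hx
    · exact hg'1
    · exact (Finset.mem_filter.1 hx).2.2
  have hE'card : E'.card = m := by
    rw [Finset.card_insert_of_notMem hgE, hEcard]
  have hsum1 : ∑ x ∈ E', Nat.card (fx (x : V ≃ₗ[ZMod p] V)) = m := by
    rw [Finset.sum_congr rfl (g := fun _ => 1), Finset.sum_const, hE'card, smul_eq_mul, mul_one]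
    intro x hx
    rcases Finset.mem_insert.1 hx with rfl | hx
    · exact hfx'
    · exact hbot x (Finset.mem_filter.1 hx).2.1 (Finset.mem_filter.1 hx).2.2
  have hsum2 : ∑ x ∈ (Finset.univ.erase (1 : G)) \ E', Nat.card (fx (x : V ≃ₗ[ZMod p] V)) ≤
      ((Finset.univ.erase (1 : G)) \ E').card * (m - 1) := by
    rw [← smul_eq_mul, ← Finset.sum_const]
    refine Finset.sum_le_sum ?_
    intro x hx
    exact hle x (Finset.mem_erase.1 (Finset.mem_sdiff.1 hx).1).1
  have hcard3 : ((Finset.univ.erase (1 : G)) \ E').card + m + 1 = m * h := by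
    rw [hm]
    have h5 := Finset.card_sdiff_add_card_eq_card hE'sub
    rw [hE'card, Finset.card_erase_of_mem (Finset.mem_univ _), Finset.card_univ,
      Nat.card_eq_fintype_card] at *
    have : 0 < Fintype.card G := Fintype.card_pos
    omega
  have hsum3 := Finset.sum_sdiff (f := fun x : G => Nat.card (fx (x : V ≃ₗ[ZMod p] V))) hE'sub
  rw [hsum1] at hsum3
  rw [← hsum3, hV, ← hm] at h1
  set S := ∑ x ∈ (Finset.univ.erase (1 : G)) \ E', Nat.card (fx (x : V ≃ₗ[ZMod p] V))
  set c := ((Finset.univ.erase (1 : G)) \ E').card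
  obtain ⟨a, rfl⟩ : ∃ a, m = a + 3 := ⟨m - 3, by omega⟩
  have e3 : a + 3 - 1 = a + 2 := by omega
  rw [e3] at h1 hsum2
  -- `(a+2)^2 + (S + (a+3)) + h = (a+3) h + h (a+2)^2`, `S ≤ c (a+2)`, `c + (a+3) + 1 = (a+3) h`
  have h6 : (c + (a + 3) + 1) * (a + 2) = (a + 3) * h * (a + 2) := by rw [hcard3]
  nlinarith [h1, hsum2, h6]

theorem card_nz' (W : Submodule (ZMod p) V) :
    Nat.card {w : V | w ∈ W ∧ w ≠ 0} + 1 = Nat.card W := by
  have e : Nat.card {w : V | w ∈ W ∧ w ≠ 0} =
      Nat.card {w : W // w ∈ Finset.univ.erase (0 : W)} := by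
    refine Nat.card_congr ⟨fun w => ⟨⟨w.1, w.2.1⟩, ?_⟩, fun w => ⟨w.1.1, w.1.2, ?_⟩, ?_, ?_⟩
    · rw [Finset.mem_erase]
      exact ⟨fun hc => w.2.2 (congrArg Subtype.val hc), Finset.mem_univ _⟩
    · intro hc
      exact (Finset.mem_erase.1 w.2).1 (Subtype.ext hc)
    · intro w; rfl
    · intro w; rfl
  rw [e, Nat.card_eq_fintype_card, Fintype.card_coe,
    Finset.card_erase_of_mem (Finset.mem_univ _), Finset.card_univ, Nat.card_eq_fintype_card]
  exact Nat.sub_add_cancel Fintype.card_pos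

/-- **R4.** An imprimitive half-transitive linear group of order divisible by `p` is semilinear. -/
theorem imp_semi (hh : Half G h) (hp : p ∣ Nat.card G) (H : Sys G B) : Semi G := by
  have hirr : Irr G := fun W hW => irred hh hp W hW
  obtain ⟨X, hX⟩ := H.nt.nonempty
  obtain ⟨v, hv, hv0⟩ := Submodule.exists_mem_ne_zero_of_ne_bot (H.ne X hX)
  haveI : Nontrivial V := ⟨⟨v, 0, hv0⟩⟩
  have h0 := h_pos hh hv0
  have hodd : ∀ r : ℕ, r.Prime → r ≠ 2 → ¬ r ∣ h := by
    intro r hr hr2 hd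
    haveI : Fact r.Prime := ⟨hr⟩
    rw [← hh v hv0] at hd
    obtain ⟨g, hg⟩ := exists_prime_orderOf_dvd_card' r hd
    have h1 : (g : G) = 1 := odd_trivial hh hirr H hX hv hv0 (g := g.1) g.2 (by
      rw [Subgroup.orderOf_coe, hg]
      exact hr.odd_of_ne_two hr2)
    have h2 : g = 1 := Subtype.ext h1
    rw [h2, orderOf_one] at hg
    exact hr.one_lt.ne hg
  have hp2 : p = 2 := by
    by_contra hne
    exact hodd p Fact.out hne (p_dvd_h hh hp)
  subst hp2
  obtain ⟨m, hm, hm0⟩ := exists_m hh ⟨v, hv0⟩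
  have hnm := ncard_dvd hh hirr H hm
  have hm2 : ¬ 2 ∣ m := p_not_dvd_m hh hm
  have hBf : B.Finite := Set.toFinite B
  have hn2 : 2 ≤ B.ncard := (Set.one_lt_ncard hBf).2 H.nt
  have hk : ∀ Y ∈ B, Module.finrank (ZMod 2) Y = Module.finrank (ZMod 2) X :=
    fun Y hY => H.card_block hirr hY hX
  have hk1 : 1 ≤ Module.finrank (ZMod 2) X := by
    haveI : Nontrivial X := Submodule.nontrivial_iff_ne_bot.2 (H.ne X hX)
    exact Module.finrank_pos
  have hVc : Nat.card V = 2 ^ (B.ncard * Module.finrank (ZMod 2) X) := by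
    rw [card_eq_pow (p := 2), H.finrank_eq hirr hk]
  have h2 : m ∣ B.ncard * (2 ^ Module.finrank (ZMod 2) X - 1) := by
    rw [← H.card_union hk]
    refine dvd_invariant hh h0 hm {v : V | v ≠ 0 ∧ ∃ X ∈ B, v ∈ X} (by simp) ?_
    rintro g hg w ⟨hw0, Y, hY, hw⟩
    exact ⟨fun hc => hw0 ((map_eq_zero_iff _ g.injective).1 hc), _, H.perm g hg Y hY, w, hw, rfl⟩
  have h3 := dvd_card_sub_one hh h0 hm
  have h2h : 2 ≤ h := Nat.le_of_dvd h0 (p_dvd_h hh hp)
  have h4 := card_le hh h2h hm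
  rw [hVc] at h3 h4
  obtain ⟨hn3, hk2, hm9⟩ := num_two hn2 (fun hd => hm2 (hd.trans hnm)) hk1 hnm h2 h3 h4
  subst hm9
  rw [hn3, hk2] at hVc
  -- a Sylow 3-subgroup
  haveI : Fact (Nat.Prime 3) := ⟨Nat.prime_three⟩
  obtain ⟨R⟩ : Nonempty (Sylow 3 G) := inferInstance
  have h3h : ¬ 3 ∣ h := hodd 3 Nat.prime_three (by norm_num)
  have hRc : Nat.card (R : Subgroup G) = 9 := by
    rw [R.card_eq_multiplicity, ← hm, Nat.factorization_mul (by norm_num) h0.ne',
      Finsupp.add_apply, Nat.factorization_eq_zero_of_not_dvd h3h]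
    have : (9 : ℕ).factorization 3 = 2 := by
      rw [show (9 : ℕ) = 3 ^ 2 by norm_num, Nat.prime_three.factorization_pow,
        Finsupp.single_eq_same]
    rw [this]
    norm_num
  have hsr : ∀ g ∈ (R : Subgroup G), g ≠ 1 → ∀ w : V, w ≠ 0 → (g : V ≃ₗ[ZMod 2] V) w ≠ w := by
    intro g hg hg1 w hw hgw
    have h5 : orderOf g ∣ h := by
      rw [← hh w hw]
      have h6 : g ∈ MulAction.stabilizer G w := hgw
      have h7 := orderOf_dvd_natCard (⟨g, h6⟩ : MulAction.stabilizer G w)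
      rwa [← Subgroup.orderOf_coe] at h7
    have h8 : orderOf g ∣ 3 ^ 2 := by
      have h7 := orderOf_dvd_natCard (⟨g, hg⟩ : (R : Subgroup G))
      rw [← Subgroup.orderOf_coe, hRc] at h7
      exact h7
    obtain ⟨j, -, hj⟩ := (Nat.dvd_prime_pow Nat.prime_three).1 h8
    have hj0 : j ≠ 0 := by
      rintro rfl
      rw [pow_zero, orderOf_eq_one_iff] at hj
      exact hg1 hj
    apply h3h
    refine dvd_trans ?_ h5
    rw [hj]
    exact dvd_pow_self 3 hj0
  have hRn : (R : Subgroup G).Normal := by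
    refine normal_of_card hh h0 (by norm_num) hm (by rw [hVc]; norm_num) _ hRc ?_
    intro g hg hg1
    rw [eq_bot_iff]
    intro w hw
    rw [mem_fx] at hw
    rw [Submodule.mem_bot]
    by_contra hw0
    exact hsr g hg hg1 w hw0 hw
  -- as a linear group
  let A : Subgroup (V ≃ₗ[ZMod 2] V) := (R : Subgroup G).map G.subtype
  have hAc : Nat.card A = 9 := by
    rw [← hRc]
    exact (Nat.card_congr ((R : Subgroup G).equivMapOfInjective _ G.subtype_injective).toEquiv).symm
  have hA1 : Half A 1 := by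
    intro w hw
    rw [Nat.card_eq_one_iff_unique]
    refine ⟨⟨fun a b => ?_⟩, ⟨1⟩⟩
    have hall : ∀ a : MulAction.stabilizer A w, a = 1 := by
      rintro ⟨⟨_, g, hg, rfl⟩, ha⟩
      have ha' : (g : V ≃ₗ[ZMod 2] V) w = w := ha
      have hg1 : g = 1 := by
        by_contra hg1
        exact hsr g hg hg1 w hw ha'
      subst hg1
      rfl
    rw [hall a, hall b]
  refine semi_of_irr_comm A ?_ ?_ ?_
  · have := IsPGroup.isMulCommutative_of_card_eq_prime_sq (p := 3) (G := A) (by rw [hAc]; norm_num)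
    intro a ha b hb
    have h5 := this.is_comm.comm (⟨a, ha⟩ : A) ⟨b, hb⟩
    exact congrArg Subtype.val h5
  · intro W hW
    have h5 := dvd_invariant hA1 (by norm_num) (m := 9) (by rw [hAc]) {w : V | w ∈ W ∧ w ≠ 0}
      (by simp) (by
        rintro g hg w ⟨hw, hw'⟩
        exact ⟨hW g hg w hw, fun hc => hw' ((map_eq_zero_iff _ g.injective).1 hc)⟩)
    have h6 := card_nz' W
    have h7 : Nat.card W = 2 ^ Module.finrank (ZMod 2) W := card_eq_pow (p := 2) W
    have h8 : Module.finrank (ZMod 2) V = 6 := by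
      rw [H.finrank_eq hirr hk, hn3, hk2]
    have h9 : Module.finrank (ZMod 2) W ≤ 6 := h8 ▸ Submodule.finrank_le W
    have h10 : 9 ∣ 2 ^ Module.finrank (ZMod 2) W - 1 := by
      rw [← h7, ← h6, Nat.add_sub_cancel]
      exact h5
    have h11 : Module.finrank (ZMod 2) W = 0 ∨ Module.finrank (ZMod 2) W = 6 := by
      revert h10
      generalize Module.finrank (ZMod 2) W = j at h9
      intro h10
      interval_cases j <;> simp_all
    rcases h11 with h11 | h11
    · left
      exact Submodule.finrank_eq_zero.1 h11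
    · right
      exact Submodule.eq_top_of_finrank_eq (h11.trans h8.symm)
  · rintro g hg _ ⟨a, ha, rfl⟩
    exact ⟨⟨g, hg⟩ * a * ⟨g, hg⟩⁻¹, hRn.conj_mem a ha ⟨g, hg⟩, rfl⟩

end Cfsg.Agent.H19.HT
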