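import Cfsg.Agent.H19.HT.Sub
import Cfsg.Agent.H19.HT.Blk
import Cfsg.Agent.H960.HT.Fin
import Cfsg.Agent.H65.CN.Grp

/-!
# S3512: the reduction (half-transitive linear groups of order divisible by `p`)

Inputs `ExtP`: the quasisimple rows with `p ∣ |L|` (`RowP`) and with `p ∤ |L|` (`RowQ`), several components of
order prime to `p` (`CompsP`), no components (`E1P`).  `mainP`: the theorem.
-/

set_option autoImplicit false
set_option linter.style.haveILetI false
set_option linter.unusedSectionVars false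
set_option linter.unusedVariables false

open scoped Classical commutatorElement
open Cfsg.Agent.H828.HT Cfsg.Agent.H960.HT
open Cfsg.Agent.SignalizersComponents.Components

namespace Cfsg.Agent.H19.HT

universe u w

/-- transitive on the non-zero vectors -/
def Tra {p : ℕ} [Fact p.Prime] {V : Type u} [AddCommGroup V] [Module (ZMod p) V]
    (G : Subgroup (V ≃ₗ[ZMod p] V)) : Prop :=
  ∀ v w : V, v ≠ 0 → w ≠ 0 → ∃ g ∈ G, g v = w

/-- the exceptional case of S3512 -/
def Exc {p : ℕ} [Fact p.Prime] {V : Type u} [AddCommGroup V] [Module (ZMod p) V]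
    (G : Subgroup (V ≃ₗ[ZMod p] V)) : Prop :=
  p = 3 ∧ Nat.card V = 81 ∧
    (∃ S ≤ G, (∀ g ∈ G, ∀ s ∈ S, g * s * g⁻¹ ∈ S) ∧
      Nonempty (S ≃* Matrix.SpecialLinearGroup (Fin 2) (ZMod 5))) ∧
    (∃ v w : V, v ≠ 0 ∧ w ≠ 0 ∧ (¬ ∃ g ∈ G, g v = w) ∧
      ∀ u : V, u ≠ 0 → ∃ g ∈ G, g v = u ∨ g w = u) ∧
    ∀ v : V, v ≠ 0 → Nat.card {u : V | ∃ g ∈ G, g v = u} = 40

/-- the setting of the quasisimple rows, `p ∣ |G|` -/
structure QSP (p : ℕ) [Fact p.Prime] (K : Type w) [Field K] (V : Type u) [AddCommGroup V]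
    [Module (ZMod p) V] [Module K V] (G L : Subgroup (V ≃ₗ[ZMod p] V)) (h : ℕ) : Prop where
  half : Half G h
  two_le : 2 ≤ h
  dvd : p ∣ Nat.card G
  le : L ≤ G
  nrm : ∀ g ∈ G, ∀ l ∈ L, g * l * g⁻¹ ∈ L
  perf : commutator L = ⊤
  simple : IsSimpleGroup (L ⧸ Subgroup.center L)
  nonab : ∃ a ∈ L, ∃ b ∈ L, a * b ≠ b * a
  lin : ∀ l ∈ L, ∀ (c : K) (v : V), l (c • v) = c • l v
  endo : ∀ f : V →ₗ[ZMod p] V, (∀ l ∈ L, ∀ v, f (l v) = l (f v)) → ∃ c : K, ∀ v, f v = c • v
  irr : ∀ W : Submodule (ZMod p) V, (∀ l ∈ L, ∀ v ∈ W, l v ∈ W) → W = ⊥ ∨ W = ⊤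

/-- quasisimple `L`, `p ∣ |L|` -/
def RowP : Prop := ∀ (p : ℕ) [Fact p.Prime] (V : Type u) [AddCommGroup V] [Module (ZMod p) V]
  [Finite V] (K : Type u) [Field K] [Module K V] (G L : Subgroup (V ≃ₗ[ZMod p] V)) (h : ℕ),
  QSP p K V G L h → p ∣ Nat.card L → Tra G ∨ Exc G

/-- quasisimple `L`, `p ∤ |L|` -/
def RowQ : Prop := ∀ (p : ℕ) [Fact p.Prime] (V : Type u) [AddCommGroup V] [Module (ZMod p) V]
  [Finite V] (K : Type u) [Field K] [Module K V] (G L : Subgroup (V ≃ₗ[ZMod p] V)) (h : ℕ),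
  QSP p K V G L h → ¬ p ∣ Nat.card L → False

/-- several components of order prime to `p` -/
def CompsP : Prop := ∀ (p : ℕ) [Fact p.Prime] (V : Type u) [AddCommGroup V] [Module (ZMod p) V]
  [Finite V] (G : Subgroup (V ≃ₗ[ZMod p] V)) (h : ℕ), Half G h → 2 ≤ h → p ∣ Nat.card G →
  ∀ (k : ℕ), 2 ≤ k → ∀ (L : Fin k → Subgroup (V ≃ₗ[ZMod p] V)), Function.Injective L →
  (∀ i, L i ≤ G) → (∀ i, Cfsg.IsQuasisimple (L i)) → (∀ i, ¬ p ∣ Nat.card (L i)) →
  (∀ i j, i ≠ j → ∀ x ∈ L i, ∀ y ∈ L j, x * y = y * x) →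
  (∀ g ∈ G, ∀ i, ∃ j, ∀ x ∈ L i, g * x * g⁻¹ ∈ L j) →
  (∀ i j, ∃ g ∈ G, ∀ x ∈ L i, g * x * g⁻¹ ∈ L j) →
  Irr (⨆ i, L i : Subgroup (V ≃ₗ[ZMod p] V)) → False

/-- no components -/
def E1P : Prop := ∀ (p : ℕ) [Fact p.Prime] (V : Type u) [AddCommGroup V] [Module (ZMod p) V]
  [Finite V] (G : Subgroup (V ≃ₗ[ZMod p] V)) (h : ℕ), Half G h → 2 ≤ h → p ∣ Nat.card G →
  Irr G → AllHomog G → (∀ L : Subgroup G, ¬ Cfsg.IsComponent L) → Tra G ∨ Semi G

/-- The inputs of the assembly. -/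
structure ExtP : Prop where
  rowP : RowP.{u}
  rowQ : RowQ.{u}
  comps : CompsP.{u}
  e1 : E1P.{u}

variable {p : ℕ} [Fact p.Prime] {V : Type u} [AddCommGroup V] [Module (ZMod p) V] [Finite V]

/-- one-dimensional semilinear groups are soluble -/
theorem Semi.solvable {G : Subgroup (V ≃ₗ[ZMod p] V)} (hS : Semi G) : Group.IsSolvable G := by
  obtain ⟨F, i1, i2, e, he⟩ := hS
  choose a s hs using fun g : G => he g g.2
  have ha : ∀ g : G, a g ≠ 0 := by
    intro g h0
    have h1 := hs g (e.symm 1)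
    rw [h0, zero_mul] at h1
    have h2 : (g : V ≃ₗ[ZMod p] V) (e.symm 1) = 0 := e.injective (by rw [h1, map_zero])
    have h3 : e.symm (1 : F) = 0 := (map_eq_zero_iff _ (LinearEquiv.injective _)).1 h2
    have h4 : (1 : F) = 0 := e.symm.injective (by rw [h3, map_zero])
    exact one_ne_zero h4
  have huniq : ∀ (g : G) (b : F) (t : F ≃+* F), (∀ v, e ((g : V ≃ₗ[ZMod p] V) v) = b * t (e v)) →
      b = a g ∧ s g = t := by
    intro g b t h
    have h1 := (h (e.symm 1)).symm.trans (hs g (e.symm 1))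
    rw [AddEquiv.apply_symm_apply, map_one, map_one, mul_one, mul_one] at h1
    refine ⟨h1, ?_⟩
    apply RingEquiv.ext
    intro x
    have h2 := (h (e.symm x)).symm.trans (hs g (e.symm x))
    rw [AddEquiv.apply_symm_apply, h1] at h2
    exact (mul_left_cancel₀ (ha g) h2).symm
  let Φ : G →* RingAut F :=
    { toFun := s
      map_one' := (huniq 1 1 1 (fun v => by rw [one_mul]; rfl)).2
      map_mul' := fun g k => (huniq (g * k) (a g * s g (a k)) (s g * s k) (fun v => by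
        change e ((g : V ≃ₗ[ZMod p] V) ((k : V ≃ₗ[ZMod p] V) v)) = _
        rw [hs g, hs k, map_mul, mul_assoc]
        rfl)).2 }
  have hker : ∀ x ∈ Φ.ker, ∀ y ∈ Φ.ker, x * y = y * x := by
    intro x hx y hy
    have hx' : s x = 1 := hx
    have hy' : s y = 1 := hy
    apply Subtype.ext
    apply LinearEquiv.ext
    intro v
    apply e.injective
    change e ((x : V ≃ₗ[ZMod p] V) ((y : V ≃ₗ[ZMod p] V) v)) =
      e ((y : V ≃ₗ[ZMod p] V) ((x : V ≃ₗ[ZMod p] V) v))
    rw [hs x, hs y, hs y, hs x, hx', hy']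
    change a x * (a y * e v) = a y * (a x * e v)
    ring
  have hc := isCyclic_ringAut' F
  have h1 : Group.IsSolvable Φ.ker :=
    Group.isSolvable_of_comm (fun a b => Subtype.ext (hker a.1 a.2 b.1 b.2))
  have h2 : Group.IsSolvable Φ.range := by
    have hcr : IsCyclic Φ.range := inferInstance
    obtain ⟨z, hz⟩ := hcr
    refine Group.isSolvable_of_comm (fun a b => ?_)
    obtain ⟨i, hi⟩ := hz a
    obtain ⟨j, hj⟩ := hz b
    rw [← hi, ← hj]
    exact (Commute.zpow_zpow_self z i j).eq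
  exact Group.isSolvable_of_ker_le_range Φ.ker.subtype Φ.rangeRestrict (by
    rw [MonoidHom.ker_rangeRestrict, Subgroup.range_subtype])

section grp

variable {Γ : Type u} [Group Γ]

/-- the normal closure of a component is `L₀ C(L₀)`-like -/
theorem fac {L₀ : Subgroup Γ} (hL₀ : Cfsg.IsComponent L₀) [Finite Γ] :
    ∀ x ∈ Subgroup.normalClosure (L₀ : Set Γ), ∃ l ∈ L₀,
      ∃ c ∈ Subgroup.normalClosure (L₀ : Set Γ), (∀ y ∈ L₀, c * y = y * c) ∧ x = l * c := by
  let C : Subgroup Γ := Subgroup.centralizer (L₀ : Set Γ) ⊓ Subgroup.normalClosure (L₀ : Set Γ)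
  let f := MonoidHom.noncommCoprod L₀.subtype C.subtype (fun m n => by
    have h1 : n.1 ∈ Subgroup.centralizer (L₀ : Set Γ) := n.2.1
    exact Subgroup.mem_centralizer_iff.1 h1 m m.2)
  have hf : ∀ (l : L₀) (c : C), f (l, c) = l.1 * c.1 := fun l c => rfl
  have hle : Subgroup.normalClosure (L₀ : Set Γ) ≤ f.range := by
    rw [Subgroup.normalClosure, Subgroup.closure_le]
    intro x hx
    have hxN : x ∈ Subgroup.normalClosure (L₀ : Set Γ) := Subgroup.subset_closure hx
    obtain ⟨l, hl, hconj⟩ := Group.mem_conjugatesOfSet_iff.1 hx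
    obtain ⟨g, hg⟩ := isConj_iff.1 hconj
    by_cases he : L₀.map (MulAut.conj g).toMonoidHom = L₀
    · have h1 : x ∈ L₀ := by
        rw [← he, ← hg]
        exact ⟨l, hl, rfl⟩
      exact ⟨(⟨x, h1⟩, 1), by rw [hf]; exact mul_one x⟩
    · have h1 := component_commutator_eq_bot_of_ne (isComponent_conj g hL₀) hL₀ he
      have h2 : x ∈ L₀.map (MulAut.conj g).toMonoidHom := by
        rw [← hg]
        exact ⟨l, hl, rfl⟩
      have h3 : x ∈ C := by
        refine ⟨?_, hxN⟩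
        change x ∈ Subgroup.centralizer (L₀ : Set Γ)
        rw [Subgroup.mem_centralizer_iff]
        intro y hy
        have h4 : ⁅x, y⁆ ∈ ⁅L₀.map (MulAut.conj g).toMonoidHom, L₀⁆ :=
          Subgroup.commutator_mem_commutator h2 hy
        rw [h1, Subgroup.mem_bot, commutatorElement_eq_one_iff_mul_comm] at h4
        exact h4.symm
      exact ⟨(1, ⟨x, h3⟩), by rw [hf]; exact one_mul x⟩
  intro x hx
  obtain ⟨⟨l, c⟩, hlc⟩ := hle hx
  refine ⟨l, l.2, c, c.2.2, ?_, ?_⟩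
  · intro y hy
    have h1 : c.1 ∈ Subgroup.centralizer (L₀ : Set Γ) := c.2.1
    exact (Subgroup.mem_centralizer_iff.1 h1 y hy).symm
  · rw [← hlc, hf]

/-- the normal closure of a component of order prime to `p` -/
theorem card_closure {L₀ : Subgroup Γ} (hL₀ : Cfsg.IsComponent L₀) [Finite Γ] {p : ℕ}
    (hp : p.Prime) (hL : ¬ p ∣ Nat.card L₀) :
    ¬ p ∣ Nat.card (Subgroup.normalClosure (L₀ : Set Γ)) := by
  let C : Set (Subgroup Γ) := {K | ∃ g : Γ, K = L₀.map (MulAut.conj g).toMonoidHom}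
  have hCfin : Finite C := inferInstance
  letI : Fintype C := Fintype.ofFinite C
  have hcomm : Pairwise fun i j : C => ∀ x y : Γ, x ∈ i.1 → y ∈ j.1 → Commute x y := by
    intro i j hij x y hx hy
    obtain ⟨a, ha⟩ := i.2
    obtain ⟨b, hb⟩ := j.2
    have h1 := component_commutator_eq_bot_of_ne (K := i.1) (L := j.1)
      (by rw [ha]; exact isComponent_conj a hL₀) (by rw [hb]; exact isComponent_conj b hL₀)
      (fun h => hij (Subtype.ext h))
    have h3 : ⁅x, y⁆ ∈ ⁅i.1, j.1⁆ := Subgroup.commutator_mem_commutator hx hy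
    rw [h1, Subgroup.mem_bot, commutatorElement_eq_one_iff_mul_comm] at h3
    exact h3
  have hle : Subgroup.normalClosure (L₀ : Set Γ) ≤ ⨆ i : C, i.1 := by
    rw [Subgroup.normalClosure, Subgroup.closure_le]
    intro x hx
    obtain ⟨l, hl, hconj⟩ := Group.mem_conjugatesOfSet_iff.1 hx
    obtain ⟨g, hg⟩ := isConj_iff.1 hconj
    have h3 : x ∈ (⟨L₀.map (MulAut.conj g).toMonoidHom, g, rfl⟩ : C).1 := by
      rw [← hg]
      exact ⟨l, hl, rfl⟩
    exact (le_iSup (fun i : C => i.1) _) h3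
  rw [← Subgroup.noncommPiCoprod_range (hcomm := hcomm)] at hle
  intro hd
  have h1 := (hd.trans (Subgroup.card_dvd_of_le hle)).trans (Subgroup.card_range_dvd _)
  rw [Nat.card_pi] at h1
  obtain ⟨i, -, hi⟩ := (Nat.Prime.prime hp).exists_mem_finset_dvd h1
  obtain ⟨a, ha⟩ := i.2
  apply hL
  have h2 : Nat.card (i.1 : Subgroup Γ) = Nat.card L₀ := by
    rw [ha]
    exact (Nat.card_congr (L₀.equivMapOfInjective _ (MulAut.conj a).injective).toEquiv).symm
  rwa [h2] at hi

end grp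

/-- normal subgroups are homogeneous unless `G` is semilinear -/
theorem allHomog_or {G : Subgroup (V ≃ₗ[ZMod p] V)} {h : ℕ} (hh : Half G h)
    (hp : p ∣ Nat.card G) [Nontrivial V] : AllHomog G ∨ Semi G := by
  by_cases hs : ∃ B, Sys G B
  · obtain ⟨B, hB⟩ := hs
    exact Or.inr (imp_semi hh hp hB)
  · left
    intro N hN hnorm
    rcases clifford (fun W hW => irred hh hp W hW) hnorm with h1 | h1
    · exact h1
    · exact absurd h1 hs

theorem nontrivial_of_dvd {G : Subgroup (V ≃ₗ[ZMod p] V)} (hp : p ∣ Nat.card G) :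
    Nontrivial V := by
  by_contra hn
  rw [not_nontrivial_iff_subsingleton] at hn
  have : Subsingleton G := ⟨fun a b => Subtype.ext (LinearEquiv.ext fun v => Subsingleton.elim _ _)⟩
  rw [Nat.card_eq_one_iff_unique.2 ⟨this, ⟨1⟩⟩] at hp
  exact (Fact.out : p.Prime).one_lt.ne' (Nat.dvd_one.1 hp)

theorem two_le_h {G : Subgroup (V ≃ₗ[ZMod p] V)} {h : ℕ} (hh : Half G h)
    (hp : p ∣ Nat.card G) : 2 ≤ h := by
  haveI := nontrivial_of_dvd hp
  obtain ⟨v, hv⟩ := exists_ne (0 : V)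
  exact (Fact.out : p.Prime).two_le.trans (Nat.le_of_dvd (h_pos hh hv) (p_dvd_h hh hp))

/-- the centraliser of a non-commutative normal subgroup has order prime to `p` -/
theorem cent_cop {G E : Subgroup (V ≃ₗ[ZMod p] V)} {h : ℕ} (hh : Half G h)
    (hp : p ∣ Nat.card G) (hhom : AllHomog G)
    (hEnorm : ∀ g ∈ G, ∀ s ∈ E, g * s * g⁻¹ ∈ E) (hEn : ∃ a ∈ E, ∃ b ∈ E, a * b ≠ b * a) :
    ¬ p ∣ Nat.card (G ⊓ Subgroup.centralizer (E : Set (V ≃ₗ[ZMod p] V)) :
      Subgroup (V ≃ₗ[ZMod p] V)) := by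
  haveI := nontrivial_of_dvd hp
  set C : Subgroup (V ≃ₗ[ZMod p] V) := G ⊓ Subgroup.centralizer (E : Set (V ≃ₗ[ZMod p] V)) with hC
  have hCG : C ≤ G := inf_le_left
  have hCc : ∀ c ∈ C, ∀ x ∈ E, c * x = x * c := by
    intro c hc x hx
    exact ((Subgroup.mem_centralizer_iff.1 hc.2) x hx).symm
  have hCn : ∀ g ∈ G, ∀ c ∈ C, g * c * g⁻¹ ∈ C := by
    intro g hg c hc
    refine ⟨G.mul_mem (G.mul_mem hg hc.1) (G.inv_mem hg), ?_⟩
    change g * c * g⁻¹ ∈ Subgroup.centralizer (E : Set (V ≃ₗ[ZMod p] V))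
    rw [Subgroup.mem_centralizer_iff]
    intro x hx
    have h1 := hEnorm g⁻¹ (G.inv_mem hg) x hx
    have h2 := hCc c hc _ h1
    calc x * (g * c * g⁻¹) = g * ((g⁻¹ * x * g⁻¹⁻¹) * c) * g⁻¹ := by group
      _ = g * (c * (g⁻¹ * x * g⁻¹⁻¹)) * g⁻¹ := by rw [h2]
      _ = (g * c * g⁻¹) * x := by group
  intro hd
  have hirr : Irr G := fun W hW => irred hh hp W hW
  have h1 : Irr C := irr_of_homog hirr hCn (hhom C hCG hCn) (pex_of_normal hh hCG hCn) hd
  obtain ⟨a, ha, b, hb, hab⟩ := hEn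
  exact hab (cent_comm h1 (fun l hl => (hCc l hl a ha).symm) (fun l hl => (hCc l hl b hb).symm))

/-- the setting of the quasisimple rows -/
theorem exists_QSP [Nontrivial V] {G E : Subgroup (V ≃ₗ[ZMod p] V)} {h : ℕ} (hh : Half G h)
    (h2 : 2 ≤ h) (hG : p ∣ Nat.card G) (hEG : E ≤ G)
    (hEnorm : ∀ g ∈ G, ∀ s ∈ E, g * s * g⁻¹ ∈ E)
    (hEq : Cfsg.IsQuasisimple E) (hEirr : Irr E) :
    ∃ (K : Type u) (_ : Field K) (_ : Module K V), QSP p K V G E h := by
  refine ⟨Module.End (env E) V, endField hEirr, endModule hEirr, ?_⟩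
  refine @QSP.mk p _ (Module.End (env E) V) (endField hEirr) V _ _ (endModule hEirr) G E h hh h2
    hG hEG hEnorm hEq.1.commutator_eq_top hEq.2 ?_ ?_ ?_ hEirr
  · by_contra hc
    push Not at hc
    apply quasisimple_not_isSolvable hEq
    exact Group.isSolvable_of_comm (fun a b => Subtype.ext (hc a.1 a.2 b.1 b.2))
  · intro l hl c v
    exact (c.map_smul (⟨(l : V →ₗ[ZMod p] V), Algebra.subset_adjoin ⟨l, hl, rfl⟩⟩ : env E) v).symm
  · intro f hf
    exact ⟨endOf f hf, fun v => rfl⟩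

/-- **No components of order prime to `p`.** -/
theorem pprime (X : ExtP.{u}) : ∀ (n : ℕ) (p : ℕ) [Fact p.Prime] (V : Type u) [AddCommGroup V]
    [Module (ZMod p) V] [Finite V], Nat.card V = n → ∀ (G : Subgroup (V ≃ₗ[ZMod p] V)) (h : ℕ),
    Half G h → p ∣ Nat.card G → ∀ L₀ : Subgroup G, Cfsg.IsComponent L₀ → p ∣ Nat.card L₀ := by
  intro n
  induction n using Nat.strong_induction_on with
  | _ n ih =>
  intro p _ V _ _ _ hV G h hh hG L₀ hL₀
  by_contra hL₀p'
  haveI hnt := nontrivial_of_dvd hG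
  have h2 := two_le_h hh hG
  have hirr : Irr G := fun W hW => irred hh hG W hW
  have hns : ¬ Group.IsSolvable G := by
    intro hs
    apply quasisimple_not_isSolvable hL₀.2
    infer_instance
  have hhom : AllHomog G := (allHomog_or hh hG).resolve_right (fun h => hns h.solvable)
  have hL₀n : L₀ ≠ ⊥ := by
    have := quasisimple_nontrivial hL₀.2
    exact (Subgroup.nontrivial_iff_ne_bot L₀).1 this
  set E₀ : Subgroup G := Subgroup.normalClosure (L₀ : Set G) with hE₀
  have hE₀n : E₀.Normal := Subgroup.normalClosure_normal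
  have hLE : L₀ ≤ E₀ := Subgroup.le_normalClosure
  set E : Subgroup (V ≃ₗ[ZMod p] V) := E₀.map G.subtype with hE
  have hEG : E ≤ G := Subgroup.map_subtype_le E₀
  have hEnorm : ∀ g ∈ G, ∀ s ∈ E, g * s * g⁻¹ ∈ E := by
    rintro g hg _ ⟨s, hs, rfl⟩
    refine ⟨(⟨g, hg⟩ : G) * s * (⟨g, hg⟩ : G)⁻¹, ?_, rfl⟩
    exact hE₀n.conj_mem s hs ⟨g, hg⟩
  set L₁ : Subgroup (V ≃ₗ[ZMod p] V) := L₀.map G.subtype with hL₁
  have hL₁E : L₁ ≤ E := Subgroup.map_mono hLE
  have hEnc : ∃ a ∈ E, ∃ b ∈ E, a * b ≠ b * a := by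
    by_contra hc
    push Not at hc
    apply quasisimple_not_isSolvable hL₀.2
    refine Group.isSolvable_of_comm (fun a b => ?_)
    have h1 := hc _ (hL₁E ⟨a.1, a.2, rfl⟩) _ (hL₁E ⟨b.1, b.2, rfl⟩)
    exact Subtype.ext (Subtype.ext h1)
  have hEhom : Homog E := hhom E hEG hEnorm
  have hEfaith : ∀ M : Submodule (ZMod p) V, NIrr E M → ∀ n ∈ E, (∀ v ∈ M, n v = v) → n = 1 :=
    fun M hM n hn h => hEhom.faithful hirr hEnorm hM hn h
  by_cases hEirr : Irr E
  · by_cases hLn : L₀.Normal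
    · -- one component
      have hEL : E₀ = L₀ := Subgroup.normalClosure_eq_self L₀
      have hEL' : E = L₀.map G.subtype := by rw [hE, hEL]
      have hEq : Cfsg.IsQuasisimple E := by
        rw [hEL']
        exact isQuasisimple_of_mulEquiv (L₀.equivMapOfInjective G.subtype G.subtype_injective) hL₀.2
      obtain ⟨K, hK1, hK2, hQS⟩ := exists_QSP hh h2 hG hEG hEnorm hEq hEirr
      refine X.rowQ p V K G E h hQS ?_
      intro hd
      apply hL₀p'
      rw [hEL', ← Nat.card_congr (L₀.equivMapOfInjective G.subtype G.subtype_injective).toEquiv] at hd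
      exact hd
    · -- several components
      let C : Set (Subgroup G) := {K | ∃ g : G, K = L₀.map (MulAut.conj g).toMonoidHom}
      have hCfin : Finite C := inferInstance
      let e : Fin (Nat.card C) ≃ C := (Finite.equivFin C).symm
      have hCcomp : ∀ K : C, Cfsg.IsComponent K.1 := by
        rintro ⟨_, g, rfl⟩
        exact isComponent_conj g hL₀
      have hL₀C : L₀ ∈ C := by
        refine ⟨1, ?_⟩
        rw [map_one]
        exact (Subgroup.map_id L₀).symm
      have hconjC : ∀ (g : G) (K : C), K.1.map (MulAut.conj g).toMonoidHom ∈ C := by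
        rintro g ⟨_, k, rfl⟩
        refine ⟨g * k, ?_⟩
        rw [Subgroup.map_map]
        congr 1
      have hk : 2 ≤ Nat.card C := by
        have : ∃ g : G, L₀.map (MulAut.conj g).toMonoidHom ≠ L₀ := by
          by_contra hc
          push Not at hc
          apply hLn
          constructor
          intro l hl g
          have : MulAut.conj g l ∈ L₀.map (MulAut.conj g).toMonoidHom := ⟨l, hl, rfl⟩
          rw [hc g] at this
          exact this
        obtain ⟨g, hg⟩ := this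
        have : Nontrivial C := ⟨⟨⟨_, g, rfl⟩, ⟨L₀, hL₀C⟩, fun h => hg (congrArg Subtype.val h)⟩⟩
        exact Finite.one_lt_card
      refine X.comps p V G h hh h2 hG (Nat.card C) hk (fun i => (e i).1.map G.subtype)
        ?_ ?_ ?_ ?_ ?_ ?_ ?_ ?_
      · intro i j hij
        have := Subgroup.map_injective G.subtype_injective hij
        exact e.injective (Subtype.ext this)
      · intro i
        exact Subgroup.map_subtype_le _
      · intro i
        exact isQuasisimple_of_mulEquiv ((e i).1.equivMapOfInjective G.subtype G.subtype_injective)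
          (hCcomp (e i)).2
      · intro i hd
        apply hL₀p'
        obtain ⟨g, hg⟩ := (e i).2
        rw [← Nat.card_congr ((e i).1.equivMapOfInjective G.subtype G.subtype_injective).toEquiv, hg,
          ← Nat.card_congr (L₀.equivMapOfInjective _ (MulAut.conj g).injective).toEquiv] at hd
        exact hd
      · rintro i j hij _ ⟨x, hx, rfl⟩ _ ⟨y, hy, rfl⟩
        have hne : (e i).1 ≠ (e j).1 := fun h => hij (e.injective (Subtype.ext h))
        have h1 := component_commutator_eq_bot_of_ne (hCcomp (e i)) (hCcomp (e j)) hne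
        have h3 : ⁅x, y⁆ ∈ ⁅(e i).1, (e j).1⁆ := Subgroup.commutator_mem_commutator hx hy
        rw [h1, Subgroup.mem_bot, commutatorElement_eq_one_iff_mul_comm] at h3
        exact congrArg Subtype.val h3
      · intro g hg i
        obtain ⟨j, hj⟩ := e.surjective ⟨_, hconjC ⟨g, hg⟩ (e i)⟩
        refine ⟨j, ?_⟩
        rintro _ ⟨x, hx, rfl⟩
        refine ⟨⟨g, hg⟩ * x * ⟨g, hg⟩⁻¹, ?_, rfl⟩
        have : (e j).1 = (e i).1.map (MulAut.conj (⟨g, hg⟩ : G)).toMonoidHom := congrArg Subtype.val hj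
        rw [SetLike.mem_coe, this]
        exact ⟨x, hx, rfl⟩
      · intro i j
        obtain ⟨a, ha⟩ := (e i).2
        obtain ⟨b, hb⟩ := (e j).2
        refine ⟨(b * a⁻¹ : G).1, (b * a⁻¹ : G).2, ?_⟩
        rintro _ ⟨x, hx, rfl⟩
        refine ⟨(b * a⁻¹) * x * (b * a⁻¹)⁻¹, ?_, rfl⟩
        rw [SetLike.mem_coe, ha] at hx
        obtain ⟨l, hl, rfl⟩ := hx
        rw [SetLike.mem_coe, hb]
        refine ⟨l, hl, ?_⟩
        change b * l * b⁻¹ = (b * a⁻¹) * (a * l * a⁻¹) * (b * a⁻¹)⁻¹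
        group
      · intro W hW
        refine hEirr W ?_
        have hle : E ≤ ⨆ i, (e i).1.map G.subtype := by
          rw [hE, Subgroup.map_le_iff_le_comap, hE₀, Subgroup.normalClosure, Subgroup.closure_le]
          intro x hx
          obtain ⟨l, hl, hconj⟩ := Group.mem_conjugatesOfSet_iff.1 hx
          obtain ⟨g, hg⟩ := isConj_iff.1 hconj
          obtain ⟨j, hj⟩ := e.surjective ⟨L₀.map (MulAut.conj g).toMonoidHom, g, rfl⟩
          have h1 : (e j).1 = L₀.map (MulAut.conj g).toMonoidHom := congrArg Subtype.val hj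
          have h3 : G.subtype x ∈ (e j).1.map G.subtype := by
            refine ⟨x, ?_, rfl⟩
            rw [SetLike.mem_coe, h1]
            exact ⟨l, hl, hg⟩
          exact (le_iSup (fun i => (e i).1.map G.subtype) j) h3
        exact fun g hg v hv => hW g (hle hg) v hv
  · -- reducible
    have hex : ∃ W : Submodule (ZMod p) V, (∀ g ∈ E, ∀ v ∈ W, g v ∈ W) ∧ W ≠ ⊥ ∧ W ≠ ⊤ := by
      by_contra hc
      push Not at hc
      apply hEirr
      intro W hW
      by_cases hb : W = ⊥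
      · exact Or.inl hb
      · exact Or.inr (hc W hW hb)
    obtain ⟨W, hW, hWb, hWt⟩ := hex
    obtain ⟨M, hMW, hM⟩ := exists_nirr E hWb hW
    have hMt : M ≠ ⊤ := fun h => hWt (top_le_iff.1 (h ▸ hMW))
    have hst := stab_of_irred (G := G) E hEnorm hM.inv hM.irr
    obtain ⟨h', hh'1, hh'2⟩ := half_rs hh hst hM.ne
    -- the kernel has order prime to `p`
    have hker : ¬ p ∣ Nat.card (res G M).ker := by
      have hC := cent_cop hh hG hhom hEnorm hEnc
      intro hd
      apply hC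
      have h1 : Nat.card ((res G M).ker.map (stb G M).subtype) = Nat.card (res G M).ker :=
        (Nat.card_congr ((res G M).ker.equivMapOfInjective _ (stb G M).subtype_injective).toEquiv).symm
      rw [← h1] at hd
      refine hd.trans (Subgroup.card_dvd_of_le ?_)
      rintro _ ⟨k, hk, rfl⟩
      have hkM : ∀ v ∈ M, (k : V ≃ₗ[ZMod p] V) v = v := by
        intro v hv
        have h3 := congrArg (fun e : M ≃ₗ[ZMod p] M => (e ⟨v, hv⟩ : V)) (MonoidHom.mem_ker.1 hk)
        exact h3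
      refine ⟨k.2.1, ?_⟩
      change (k : V ≃ₗ[ZMod p] V) ∈ Subgroup.centralizer (E : Set (V ≃ₗ[ZMod p] V))
      rw [Subgroup.mem_centralizer_iff]
      intro x hx
      -- `[k, x]` acts trivially on `M`
      have h3 : (k : V ≃ₗ[ZMod p] V) * x * (k : V ≃ₗ[ZMod p] V)⁻¹ * x⁻¹ = 1 := by
        refine hEfaith M hM _ (E.mul_mem (hEnorm _ k.2.1 x hx) (E.inv_mem hx)) ?_
        intro v hv
        have hxv : x⁻¹ v ∈ M := hM.inv _ (E.inv_mem hx) v hv
        have hkinv : ∀ w ∈ M, (k : V ≃ₗ[ZMod p] V)⁻¹ w = w := by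
          intro w hw
          conv_lhs => rw [← hkM w hw]
          change ((k : V ≃ₗ[ZMod p] V)⁻¹ * (k : V ≃ₗ[ZMod p] V)) w = w
          rw [inv_mul_cancel]; rfl
        change (k : V ≃ₗ[ZMod p] V) (x ((k : V ≃ₗ[ZMod p] V)⁻¹ (x⁻¹ v))) = v
        rw [hkinv _ hxv]
        have : x (x⁻¹ v) = v := by
          change (x * x⁻¹) v = v
          rw [mul_inv_cancel]; rfl
        rw [this, hkM v hv]
      have h4 : (k : V ≃ₗ[ZMod p] V) * x = x * (k : V ≃ₗ[ZMod p] V) := by
        rw [mul_inv_eq_one] at h3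
        exact mul_inv_eq_iff_eq_mul.1 h3
      exact h4.symm
    have hph' : p ∣ h' := by
      have h1 := p_dvd_h hh hG
      rw [← hh'1] at h1
      exact ((Fact.out : p.Prime).dvd_mul.1 h1).resolve_left hker
    haveI hMnt : Nontrivial M := Submodule.nontrivial_iff_ne_bot.2 hM.ne
    obtain ⟨v₀, hv₀⟩ := exists_ne (0 : M)
    have hPp : p ∣ Nat.card (rs G M) := hph'.trans (h_dvd hh'2 hv₀)
    have hcardM : Nat.card M < n := by
      rw [← hV, card_eq_pow (p := p), card_eq_pow (p := p) V]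
      exact Nat.pow_lt_pow_right (Fact.out : p.Prime).one_lt (Submodule.finrank_lt hMt)
    -- the image of `L₀`
    have hEst : E ≤ stb G M := by
      intro x hx
      refine ⟨hEG hx, fun v => ⟨fun hv => hM.inv x hx v hv, fun hv => ?_⟩⟩
      have := hM.inv x⁻¹ (E.inv_mem hx) _ hv
      have e : x⁻¹ (x v) = v := by
        change (x⁻¹ * x) v = v
        rw [inv_mul_cancel]; rfl
      rwa [e] at this
    have hL₁T : L₁ ≤ stb G M := hL₁E.trans hEst
    let f : stb G M →* rs G M := (res G M).rangeRestrict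
    have hfs : Function.Surjective f := (res G M).rangeRestrict_surjective
    let LT : Subgroup (stb G M) := L₁.subgroupOf (stb G M)
    have hLTc : Cfsg.IsComponent LT := by
      refine ⟨?_, ?_⟩
      · have h1 : LT = L₀.comap (Subgroup.inclusion (stb_le M) : stb G M →* G) := by
          ext x
          constructor
          · intro hx
            obtain ⟨y, hy, hxy⟩ := (Subgroup.mem_subgroupOf.1 hx)
            have : Subgroup.inclusion (stb_le M) x = y := Subtype.ext hxy.symm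
            rw [Subgroup.mem_comap, this]
            exact hy
          · intro hx
            exact Subgroup.mem_subgroupOf.2 ⟨_, hx, rfl⟩
        rw [h1]
        exact hL₀.1.comap _
      · exact isQuasisimple_of_mulEquiv ((L₀.equivMapOfInjective G.subtype G.subtype_injective).trans
          (Subgroup.subgroupOfEquivOfLe hL₁T).symm) hL₀.2
    have hLTcard : Nat.card LT = Nat.card L₀ := by
      rw [Nat.card_congr (Subgroup.subgroupOfEquivOfLe hL₁T).toEquiv,
        ← Nat.card_congr (L₀.equivMapOfInjective G.subtype G.subtype_injective).toEquiv]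
    have hinj : ∀ x ∈ LT, f x = 1 → x = 1 := by
      intro x hx hfx
      have hx' : (x : V ≃ₗ[ZMod p] V) ∈ E := hL₁E (Subgroup.mem_subgroupOf.1 hx)
      apply Subtype.ext
      refine hEfaith M hM _ hx' ?_
      intro v hv
      have h3 := congrArg (fun e : rs G M => ((e : M ≃ₗ[ZMod p] M) ⟨v, hv⟩ : V)) hfx
      exact h3
    have hinj2 : Function.Injective (f.subgroupMap LT) := by
      rw [injective_iff_map_eq_one]
      rintro ⟨x, hx⟩ h1
      exact Subtype.ext (hinj x hx (congrArg Subtype.val h1))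
    have hcard2 : Nat.card (LT.map f) = Nat.card L₀ := by
      rw [← hLTcard]
      exact (Nat.card_congr (Equiv.ofBijective _ ⟨hinj2, f.subgroupMap_surjective LT⟩)).symm
    have hne : LT.map f ≠ ⊥ := by
      intro hb
      rw [hb, Subgroup.card_bot] at hcard2
      exact hL₀n (Subgroup.card_eq_one.1 hcard2.symm)
    have hcomp := Cfsg.Agent.H65.CN.isComponent_map f hfs hLTc hne
    have h5 := ih (Nat.card M) hcardM p M rfl (rs G M) h' hh'2 hPp (LT.map f) hcomp
    rw [hcard2] at h5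
    exact hL₀p' h5

/-- **The theorem for linear groups.** -/
theorem mainP (X : ExtP.{u}) {G : Subgroup (V ≃ₗ[ZMod p] V)} {h : ℕ} (hh : Half G h)
    (hG : p ∣ Nat.card G) : Tra G ∨ Semi G ∨ Exc G := by
  haveI hnt := nontrivial_of_dvd hG
  have h2 := two_le_h hh hG
  have hirr : Irr G := fun W hW => irred hh hG W hW
  rcases allHomog_or hh hG with hhom | hs
  swap
  · exact Or.inr (Or.inl hs)
  by_cases hcomp : ∃ L : Subgroup G, Cfsg.IsComponent L
  swap
  · push Not at hcomp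
    rcases X.e1 p V G h hh h2 hG hirr hhom hcomp with h1 | h1
    · exact Or.inl h1
    · exact Or.inr (Or.inl h1)
  obtain ⟨L₀, hL₀⟩ := hcomp
  have hp0 : p ∣ Nat.card L₀ := pprime X (Nat.card V) p V rfl G h hh hG L₀ hL₀
  set E₀ : Subgroup G := Subgroup.normalClosure (L₀ : Set G) with hE₀
  have hE₀n : E₀.Normal := Subgroup.normalClosure_normal
  have hLE : L₀ ≤ E₀ := Subgroup.le_normalClosure
  set E : Subgroup (V ≃ₗ[ZMod p] V) := E₀.map G.subtype with hE
  have hEG : E ≤ G := Subgroup.map_subtype_le E₀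
  have hEnorm : ∀ g ∈ G, ∀ s ∈ E, g * s * g⁻¹ ∈ E := by
    rintro g hg _ ⟨s, hs, rfl⟩
    refine ⟨(⟨g, hg⟩ : G) * s * (⟨g, hg⟩ : G)⁻¹, ?_, rfl⟩
    exact hE₀n.conj_mem s hs ⟨g, hg⟩
  set L₁ : Subgroup (V ≃ₗ[ZMod p] V) := L₀.map G.subtype with hL₁
  have hL₁E : L₁ ≤ E := Subgroup.map_mono hLE
  have hpL₁ : p ∣ Nat.card L₁ := by
    rw [hL₁, ← Nat.card_congr (L₀.equivMapOfInjective G.subtype G.subtype_injective).toEquiv]
    exact hp0
  have hpE : p ∣ Nat.card E := hpL₁.trans (Subgroup.card_dvd_of_le hL₁E)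
  have hEirr : Irr E := irr_of_homog hirr hEnorm (hhom E hEG hEnorm) (pex_of_normal hh hEG hEnorm) hpE
  -- `E = L₁ C_E(L₁)`
  have hfac : ∀ e ∈ E, ∃ l ∈ L₁, ∃ c : V ≃ₗ[ZMod p] V, (∀ x ∈ L₁, c * x = x * c) ∧ e = l * c := by
    rintro _ ⟨e, he, rfl⟩
    obtain ⟨l, hl, c, -, hc, rfl⟩ := fac hL₀ e he
    refine ⟨l, ⟨l, hl, rfl⟩, c, ?_, rfl⟩
    rintro _ ⟨x, hx, rfl⟩
    exact congrArg Subtype.val (hc x hx)
  have hL₁n : ∀ g ∈ E, ∀ n ∈ L₁, g * n * g⁻¹ ∈ L₁ := by
    intro g hg n hn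
    obtain ⟨l, hl, c, hc, rfl⟩ := hfac g hg
    have e1 : l * c * n * (l * c)⁻¹ = l * n * l⁻¹ := by
      rw [mul_inv_rev]
      calc l * c * n * (c⁻¹ * l⁻¹) = l * (c * n) * (c⁻¹ * l⁻¹) := by group
        _ = l * (n * c) * (c⁻¹ * l⁻¹) := by rw [hc n hn]
        _ = l * n * l⁻¹ := by group
    rw [e1]
    exact L₁.mul_mem (L₁.mul_mem hl hn) (L₁.inv_mem hl)
  have hL₁hom : Homog L₁ := homog_of_central hEirr hfac
  have hL₁P : PEx L₁ := (pex_of_normal hh hEG hEnorm).sub hL₁E hL₁n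
  have hL₁irr : Irr L₁ := irr_of_homog hEirr hL₁n hL₁hom hL₁P hpL₁
  -- `L₀` is normal
  have hLn : L₀.Normal := by
    constructor
    by_contra hc
    push Not at hc
    obtain ⟨l, hl, g, hg⟩ := hc
    have hne : L₀.map (MulAut.conj g).toMonoidHom ≠ L₀ := by
      intro he
      apply hg
      rw [← he]
      exact ⟨l, hl, rfl⟩
    have h1 := component_commutator_eq_bot_of_ne (isComponent_conj g hL₀) hL₀ hne
    apply quasisimple_not_isSolvable (isComponent_conj g hL₀).2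
    refine Group.isSolvable_of_comm (fun a b => ?_)
    have hcomm : ∀ a ∈ L₀.map (MulAut.conj g).toMonoidHom, ∀ l ∈ L₁,
        (a : V ≃ₗ[ZMod p] V) * l = l * a := by
      rintro a ha _ ⟨y, hy, rfl⟩
      have h3 : ⁅a, y⁆ ∈ ⁅L₀.map (MulAut.conj g).toMonoidHom, L₀⁆ :=
        Subgroup.commutator_mem_commutator ha hy
      rw [h1, Subgroup.mem_bot, commutatorElement_eq_one_iff_mul_comm] at h3
      exact congrArg Subtype.val h3
    have h3 := cent_comm hL₁irr (hcomm a.1 a.2) (hcomm b.1 b.2)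
    exact Subtype.ext (Subtype.ext h3)
  have hEL : E₀ = L₀ := Subgroup.normalClosure_eq_self L₀
  have hEL' : E = L₁ := by rw [hE, hEL]
  have hEq : Cfsg.IsQuasisimple E := by
    rw [hEL']
    exact isQuasisimple_of_mulEquiv (L₀.equivMapOfInjective G.subtype G.subtype_injective) hL₀.2
  obtain ⟨K, hK1, hK2, hQS⟩ := exists_QSP hh h2 hG hEG hEnorm hEq hEirr
  rcases X.rowP p V K G E h hQS hpE with h1 | h1
  · exact Or.inl h1
  · exact Or.inr (Or.inr h1)

/-- **S3512 from the inputs.** -/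
theorem final (X : ExtP.{u}) (p : ℕ) [Fact p.Prime] {V : Type u} [AddCommGroup V]
    [Module (ZMod p) V] [Finite V] [Nontrivial V] {G : Type w} [Group G] [Finite G]
    (ρ : G →* (V ≃ₗ[ZMod p] V)) (hρ : Function.Injective ρ) (hdiv : p ∣ Nat.card G)
    (hhalf : ∀ v w : V, v ≠ 0 → w ≠ 0 →
      Nat.card {u : V | ∃ g : G, ρ g v = u} = Nat.card {u : V | ∃ g : G, ρ g w = u}) :
    (∀ v w : V, v ≠ 0 → w ≠ 0 → ∃ g : G, ρ g v = w) ∨
    (∃ (F : Type) (_ : Field F) (_ : Fintype F) (e : V ≃+ F), ∀ g : G, ∃ (a : F) (φ : F ≃+* F),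
      ∀ v : V, e (ρ g v) = a * φ (e v)) ∨
    (p = 3 ∧ Nat.card V = 81 ∧
      (∃ (F : Type) (_ : Field F) (_ : Fintype F), Fintype.card F = 5 ∧ ∃ S : Subgroup G,
        S.Normal ∧ Nonempty (S ≃* Matrix.SpecialLinearGroup (Fin 2) F)) ∧
      (∃ v w : V, v ≠ 0 ∧ w ≠ 0 ∧ (¬ ∃ g : G, ρ g v = w) ∧
        ∀ u : V, u ≠ 0 → ∃ g : G, ρ g v = u ∨ ρ g w = u) ∧
      ∀ v : V, v ≠ 0 → Nat.card {u : V | ∃ g : G, ρ g v = u} = 40) := by
  obtain ⟨h, h1, hh⟩ := exists_half ρ hhalf
  have e : G ≃* ρ.range := MonoidHom.ofInjective hρ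
  have hcard : Nat.card ρ.range = Nat.card G := (Nat.card_congr e.toEquiv).symm
  have hG : p ∣ Nat.card ρ.range := by rw [hcard]; exact hdiv
  rcases mainP X hh hG with ht | ⟨F, i1, i2, e1, he1⟩ | ⟨h3, h81, ⟨S, hSG, hSn, ⟨eS⟩⟩, ⟨v, w, hv, hw, hvw, hu⟩, h40⟩
  · left
    intro v w hv hw
    obtain ⟨_, ⟨g, rfl⟩, hg⟩ := ht v w hv hw
    exact ⟨g, hg⟩
  · right; left
    exact ⟨F, i1, i2, e1, fun g => he1 (ρ g) ⟨g, rfl⟩⟩
  · right; right
    refine ⟨h3, h81, ?_, ?_, ?_⟩
    · haveI : Fact (Nat.Prime 5) := ⟨by norm_num⟩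
      refine ⟨ZMod 5, inferInstance, inferInstance, ZMod.card 5, S.comap ρ, ?_, ?_⟩
      · constructor
        intro n hn g
        change ρ (g * n * g⁻¹) ∈ S
        rw [map_mul, map_mul, map_inv]
        exact hSn (ρ g) ⟨g, rfl⟩ (ρ n) hn
      · have h3 : (S.comap ρ).map ρ = S := Subgroup.map_comap_eq_self hSG
        have e1 := (S.comap ρ).equivMapOfInjective ρ hρ
        rw [h3] at e1
        exact ⟨e1.trans eS⟩
    · refine ⟨v, w, hv, hw, ?_, ?_⟩
      · rintro ⟨g, hg⟩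
        exact hvw ⟨ρ g, ⟨g, rfl⟩, hg⟩
      · intro u hu0
        obtain ⟨_, ⟨g, rfl⟩, hg⟩ := hu u hu0
        exact ⟨g, hg⟩
    · intro v hv
      rw [← h40 v hv]
      congr 1
      have : {u : V | ∃ g : G, ρ g v = u} = {u : V | ∃ g ∈ ρ.range, g v = u} := by
        ext u
        constructor
        · rintro ⟨g, hg⟩
          exact ⟨ρ g, ⟨g, rfl⟩, hg⟩
        · rintro ⟨_, ⟨g, rfl⟩, hg⟩
          exact ⟨g, hg⟩
      rw [this]

end Cfsg.Agent.H19.HT
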