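import Cfsg.Agent.H19.HT.Asm
import Cfsg.Agent.H583.HT.Three

/-!
# Counting vectors by the fixed spaces of the elements of order `p` (S3512, E1P; helper19)
-/

set_option autoImplicit false
set_option linter.style.haveILetI false
set_option linter.unusedSectionVars false
set_option linter.unusedVariables false

open scoped Classical
open Cfsg.Agent.H828.HT Cfsg.Agent.H960.HT

namespace Cfsg.Agent.H19.HT

universe u

variable {p : ℕ} [Fact p.Prime] {V : Type u} [AddCommGroup V] [Module (ZMod p) V] [Finite V]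
  {G N A : Subgroup (V ≃ₗ[ZMod p] V)} {h : ℕ}

/-- every non-zero vector is fixed by an element of order `p` of `N` -/
theorem PEx.exists_fix (hP : PEx N) (hp : p ∣ Nat.card N) {v : V} (hv : v ≠ 0) :
    ∃ y ∈ N, orderOf y = p ∧ y v = v := by
  have h1 := Nat.card_congr (MulAction.orbitProdStabilizerEquivGroup N v)
  rw [Nat.card_prod] at h1
  have h2 : p ∣ Nat.card (MulAction.stabilizer N v) := by
    rw [← h1] at hp
    exact ((Fact.out : p.Prime).dvd_mul.1 hp).resolve_left (hP v hv)
  obtain ⟨y, hy⟩ := exists_prime_orderOf_dvd_card' (G := MulAction.stabilizer N v) p h2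
  refine ⟨y.1.1, y.1.2, ?_, y.2⟩
  rw [Subgroup.orderOf_coe, Subgroup.orderOf_coe, hy]

/-- an abelian group acting semiregularly has order prime to `p` -/
theorem cop_of_semi [Nontrivial V] (hA : ∀ a ∈ A, a ≠ 1 → ∀ v : V, a v = v → v = 0) :
    ¬ p ∣ Nat.card A := by
  intro hd
  obtain ⟨a, ha⟩ := exists_prime_orderOf_dvd_card' (G := A) p hd
  have hZ : IsPGroup p (Subgroup.zpowers a) := by
    refine IsPGroup.of_card (n := 1) ?_
    rw [Nat.card_zpowers, ha, pow_one]
  obtain ⟨v, hv, hfix⟩ := exists_fixed_pgroup (G := A) (Subgroup.zpowers a) hZ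
  refine hv (hA a a.2 ?_ v (hfix a (Subgroup.mem_zpowers a)))
  intro h1
  have h2 : a = 1 := Subtype.ext h1
  rw [h2, orderOf_one] at ha
  exact (Fact.out : p.Prime).one_lt.ne ha

/-- covering by fixed spaces -/
theorem cover {S : G → Prop} {B w : ℕ}
    (hcov : ∀ v : V, v ≠ 0 → ∃ y : G, S y ∧ (y : V ≃ₗ[ZMod p] V) v = v)
    (hB : Nat.card {y : G // S y} ≤ B)
    (hw : ∀ y : G, S y → Nat.card (fx (y : V ≃ₗ[ZMod p] V)) ≤ w) :
    Nat.card V ≤ B * (w - 1) + 1 := by
  haveI := Fintype.ofFinite V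
  haveI := Fintype.ofFinite G
  let T : Finset G := Finset.univ.filter S
  let X : G → Finset V := fun y => (Finset.univ.filter fun v : V => (y : V ≃ₗ[ZMod p] V) v = v).erase 0
  have hT : T.card ≤ B := by
    rw [Nat.card_eq_fintype_card, Fintype.card_subtype] at hB
    exact hB
  have hX : ∀ y ∈ T, (X y).card ≤ w - 1 := by
    intro y hy
    have h1 := hw y (Finset.mem_filter.1 hy).2
    have h2 : (Finset.univ.filter fun v : V => (y : V ≃ₗ[ZMod p] V) v = v).card =
        Nat.card (fx (y : V ≃ₗ[ZMod p] V)) := by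
      rw [← Fintype.card_subtype, ← Nat.card_eq_fintype_card]
      refine Nat.card_congr (Equiv.subtypeEquivRight fun v => ?_)
      exact mem_fx.symm
    rw [Finset.card_erase_of_mem (by simp), h2]
    exact Nat.sub_le_sub_right h1 1
  have hsub : (Finset.univ : Finset V).erase 0 ⊆ T.biUnion X := by
    intro v hv
    obtain ⟨y, hy, hyv⟩ := hcov v (Finset.ne_of_mem_erase hv)
    exact Finset.mem_biUnion.2 ⟨y, Finset.mem_filter.2 ⟨Finset.mem_univ _, hy⟩,
      Finset.mem_erase.2 ⟨Finset.ne_of_mem_erase hv, Finset.mem_filter.2 ⟨Finset.mem_univ _, hyv⟩⟩⟩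
  have h1 := (Finset.card_le_card hsub).trans (Finset.card_biUnion_le.trans (Finset.sum_le_card_nsmul T _ _ hX))
  rw [Finset.card_erase_of_mem (Finset.mem_univ _), Finset.card_univ, ← Nat.card_eq_fintype_card,
    smul_eq_mul] at h1
  have h2 : T.card * (w - 1) ≤ B * (w - 1) := Nat.mul_le_mul_right _ hT
  omega

/-- orbits of length `|V| - 1` -/
theorem tra_of_card (hh : Half G h) (h0 : 0 < h) {m : ℕ} (hm : m * h = Nat.card G)
    (hmV : Nat.card V ≤ m + 1) : Tra G := by
  intro v w hv hw
  have h1 := orbit_card hh h0 hm hv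
  haveI := Fintype.ofFinite V
  have h2 : (MulAction.orbit G v : Set V).toFinset ⊆ (Finset.univ : Finset V).erase 0 := by
    intro u hu
    rw [Set.mem_toFinset] at hu
    obtain ⟨g, rfl⟩ := hu
    refine Finset.mem_erase.2 ⟨fun h => hv ?_, Finset.mem_univ _⟩
    exact (g : V ≃ₗ[ZMod p] V).map_eq_zero_iff.1 h
  have h3 : ((Finset.univ : Finset V).erase 0).card ≤ ((MulAction.orbit G v : Set V).toFinset).card := by
    rw [Finset.card_erase_of_mem (Finset.mem_univ _), Finset.card_univ, ← Nat.card_eq_fintype_card,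
      Set.toFinset_card, ← Nat.card_eq_fintype_card, h1]
    omega
  have h4 := Finset.eq_of_subset_of_card_le h2 h3
  have h5 : w ∈ (MulAction.orbit G v : Set V).toFinset := by
    rw [h4]; exact Finset.mem_erase.2 ⟨hw, Finset.mem_univ _⟩
  rw [Set.mem_toFinset] at h5
  obtain ⟨g, hg⟩ := h5
  exact ⟨g, g.2, hg⟩

/-- the orbit of a vector moved by an element of order three has at least six elements -/
theorem six_le (hh : Half G h) (h0 : 0 < h) {m : ℕ} (hm : m * h = Nat.card G) (hp : 3 ≤ p)
    (hneg : Cfsg.Agent.H583.HT.ng p V ∈ G) {y : V ≃ₗ[ZMod p] V} (hy : y ∈ G) (hy3 : y ^ 3 = 1) {u : V}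
    (hu : y u ≠ u) : 6 ≤ m := by
  have hu0 : u ≠ 0 := by rintro rfl; exact hu (map_zero _)
  have h1 := orbit_card hh h0 hm hu0
  let z : G := ⟨Cfsg.Agent.H583.HT.ng p V * y, G.mul_mem hneg hy⟩
  have hne : -u ≠ u := by
    intro h
    have h2 : (2 : ZMod p) • u = 0 := by
      rw [two_smul]
      nth_rewrite 1 [← h]
      exact neg_add_cancel u
    rcases smul_eq_zero.1 h2 with h3 | h3
    · have h4 : ((2 : ℕ) : ZMod p) = 0 := by exact_mod_cast h3
      rw [ZMod.natCast_eq_zero_iff] at h4
      exact absurd (Nat.le_of_dvd (by norm_num) h4) (by omega)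
    · exact hu0 h3
  have hyyy : y (y (y u)) = u := by
    have : (y ^ 3) u = u := by rw [hy3]; rfl
    exact this
  have hz : ∀ v : V, z • v = -(y v) := fun v => rfl
  have hz2 : ∀ v : V, z • z • v = y (y v) := by
    intro v
    rw [hz, hz, map_neg, neg_neg]
  have h6 : Function.IsPeriodicPt (z • ·) 6 u := by
    change z • z • z • z • z • z • u = u
    rw [hz2, hz2, hz2, hyyy, hyyy]
  have h3 : ¬ Function.IsPeriodicPt (z • ·) 3 u := by
    intro h
    have h' : z • z • z • u = u := h
    rw [hz, hz2, hyyy] at h'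
    exact hne h'
  have h2 : ¬ Function.IsPeriodicPt (z • ·) 2 u := by
    intro h
    have h' : z • z • u = u := h
    rw [hz2] at h'
    apply hu
    have h7 := hyyy
    rw [h'] at h7
    exact h7
  have hmp : Function.minimalPeriod (z • ·) u = 6 := by
    have h7 := h6.minimalPeriod_dvd
    have h8 : ¬ Function.minimalPeriod (z • ·) u ∣ 3 := fun h => h3 (Function.isPeriodicPt_iff_minimalPeriod_dvd.2 h)
    have h9 : ¬ Function.minimalPeriod (z • ·) u ∣ 2 := fun h => h2 (Function.isPeriodicPt_iff_minimalPeriod_dvd.2 h)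
    have h10 := Nat.le_of_dvd (by norm_num) h7
    interval_cases Function.minimalPeriod (z • ·) u <;> omega
  have h7 := MulAction.minimalPeriod_eq_card (a := z) (b := u)
  rw [hmp, ← Nat.card_eq_fintype_card] at h7
  rw [h7, ← h1]
  refine Nat.card_mono (Set.toFinite _) ?_
  rintro _ ⟨g, rfl⟩
  exact ⟨g.1, rfl⟩

end Cfsg.Agent.H19.HT
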