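import Cfsg.Agent.H19.HT.Efour
import Cfsg.Agent.H662.HT.EFin
import Cfsg.Agent.H768.HT.Field
import Cfsg.Agent.H192.Ht.Sol

/-!
# S3512, no components (`E1P`; helper19)
-/

set_option autoImplicit false
set_option linter.style.haveILetI false
set_option linter.unusedSectionVars false
set_option linter.unusedVariables false

open scoped Classical
open Cfsg.Agent.H828.HT Cfsg.Agent.H960.HT Cfsg.Agent.H662.HT Cfsg.Agent.H583.HT Cfsg.Agent.H192.Ht

namespace Cfsg.Agent.H19.HT

universe u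

variable {p : ℕ} [Fact p.Prime] {V : Type u} [AddCommGroup V] [Module (ZMod p) V] [Finite V]
  {G : Subgroup (V ≃ₗ[ZMod p] V)} {h : ℕ}

theorem ge_three_of_sym {a : ℕ} {F : Subgroup G} (H : Sym 2 a F V) : 3 ≤ p := by
  haveI := H.nt
  have hp2 : p ≠ 2 := by
    rintro rfl
    apply H.cop
    rw [card_eq_pow (p := 2) V]
    exact dvd_pow_self 2 (Module.finrank_pos).ne'
  have := (Fact.out : p.Prime).two_le
  omega

theorem alg_eq_env (A : Subgroup (V ≃ₗ[ZMod p] V)) : alg A = env A := by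
  unfold alg env
  congr 1
  ext f
  constructor
  · rintro ⟨a, ha, rfl⟩; exact ⟨a, ha, rfl⟩
  · rintro ⟨a, ha, rfl⟩; exact ⟨a, ha, rfl⟩

/-- the symplectic type group of width two -/
theorem four_case [Nontrivial V] (hirr : Irr G) (hhom : AllHomog G) (hh : Half G h) (h2 : 2 ≤ h)
    (hG : p ∣ Nat.card G) {A F : Subgroup G} (hA : A.Normal) (hF : F.Normal) (hAF : A ≤ F)
    (hAc : ∀ x ∈ A, ∀ y ∈ A, x * y = y * x) (hcyc : IsCyclic A)
    (hsemi : ∀ z ∈ A, z ≠ 1 → ∀ v : V, z • v = v → v = 0)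
    (hcen : ∀ x ∈ F, ∀ y ∈ A, x * y = y * x)
    (hC : ∀ g : G, (∀ x ∈ F, g * x = x * g) → g ∈ A) (H : Sym 2 2 F V)
    (hZ : (Subgroup.center F).map F.subtype = A) (hcard : Nat.card F = Nat.card A * 2 ^ (2 * 2)) (hp3 : p = 3)
    (h4 : ¬ 4 ∣ Nat.card A) : Tra G := by
  have hp : 3 ≤ p := by omega
  obtain ⟨E, hE, hEN, HE, hzE⟩ := Cfsg.Agent.H583.HT.two_part hA hF H hZ h4
  have hcardE := HE.card
  rw [hzE] at hcardE
  have hAE : Nat.card (A ⊓ E : Subgroup G) ≤ 2 := by
    rw [← hzE]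
    refine Nat.card_le_card_of_injective
      (fun x : (A ⊓ E : Subgroup G) => (⟨⟨x.1, x.2.2⟩, Subgroup.mem_center_iff.2 fun y => Subtype.ext ?_⟩ :
        Subgroup.center E)) ?_
    · exact hcen y.1 (hEN y.2) x.1 x.2.1
    · intro x y hxy
      apply Subtype.ext
      exact congrArg (fun z : Subgroup.center E => ((z : E) : G)) hxy
  have hNE := mem_sup_of_card hA hAF hEN hcard hcardE hAE
  have HE' : Sym 2 2 (up E) V := sym_up HE
  have hzE' : Nat.card (Subgroup.center (up E)) = 2 := by rw [card_center_up, hzE]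
  obtain ⟨-, hsol, Q, m, hQ1, hVQ, hm, hm1, hm2, hm3, hm4⟩ := two_num' (up_le E) (up_normal hE) hh h2 HE' hzE' le_rfl
  obtain ⟨t, ht, htE, hcl, hinv⟩ := Cfsg.Agent.H669.HT.exists_frame hp HE' hzE' hsol
  have hEf : Ef G (up A) (up E) t :=
    { frame := ⟨ht.sq, ht.anti, ht.prod⟩
      mem := htE
      cl := hcl
      inv := hinv
      EG := up_le E
      AG := up_le A
      nE := up_normal hE
      nA := up_normal hA
      semi := by
        intro a ha ha1 v hv
        obtain ⟨y, hy, rfl⟩ := mem_up.1 ha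
        exact hsemi y hy (fun h => ha1 (by rw [h]; rfl)) v hv
      cenA := comm_up fun x hx y hy => (hcen y (hEN hy) x hx).symm
      cen := by
        intro g hg hgE hgA
        refine (coe_mem_up (x := ⟨g, hg⟩)).2 (hC _ fun x hx => ?_)
        obtain ⟨y, hy, c, hc', rfl⟩ := Subgroup.mem_sup_of_normal_right.1 (hNE hx)
        have c1 : Commute (⟨g, hg⟩ : G) y := Subtype.ext (hgE y (coe_mem_up.2 hy))
        have c2 : Commute (⟨g, hg⟩ : G) c := Subtype.ext (hgA c (coe_mem_up.2 hc'))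
        exact c1.mul_right c2 }
  obtain ⟨K, iK, iM, χ, σ, hK⟩ := Cfsg.Agent.H768.HT.exists_field hirr (up_le A) (up_normal hA) (comm_up hAc)
    (hhom _ (up_le A) (up_normal hA))
  have hQ' : Q = 9 ∨ 32 ∣ 10 * (Q - 1) := by
    rcases hm4 with h5 | h5
    · exact Or.inl h5
    · exact Or.inr (h5.trans hm1)
  by_cases hd : p ∣ Nat.card (G ⊓ Subgroup.centralizer ((up A : Subgroup (V ≃ₗ[ZMod p] V)) : Set (V ≃ₗ[ZMod p] V)) :
      Subgroup (V ≃ₗ[ZMod p] V))
  · have h6 := hEf.lin hK hh hp3 hd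
    have h7 : Q = 9 := by
      rcases hQ' with h5 | h5
      · exact h5
      · exfalso
        have hp3' : Nat.Prime 3 := by norm_num
        have hV3 : Nat.card V = 3 ^ Module.finrank (ZMod p) V := by
          rw [card_eq_pow (p := p) V]
          congr 1
        obtain ⟨b, -, hb⟩ := (Nat.dvd_prime_pow hp3').1 (show Q ∣ 3 ^ Module.finrank (ZMod p) V from by
          rw [← hV3, hVQ]; exact dvd_pow_self Q (by norm_num))
        rw [hb] at h5 hVQ hQ1
        have h8 := four_dvd_of h5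
        have hb0 : b ≠ 0 := by
          rintro rfl
          norm_num at hQ1
        have h9 : 4 ≤ b := by omega
        have h10 : 3 ^ 4 ≤ 3 ^ b := Nat.pow_le_pow_right (by norm_num) h9
        have h11 : (3 ^ 4) ^ 2 ≤ (3 ^ b) ^ 2 := Nat.pow_le_pow_left h10 2
        omega
    exact hEf.tra HE' hzE' hh hp3 hG hhom (by rw [hVQ, h7]; norm_num)
  · exact (hEf.semil hK hh hp3 hG hd hVQ hQ').elim

/-- **No components.** -/
theorem e1P : E1P.{u} := by
  intro p _ V _ _ _ G h hh h2 hG hirr hhom hcomp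
  haveI := nontrivial_of_dvd hG
  have hq : QPr G := qpr_of_hom hirr hhom
  obtain ⟨A, F, hA, hF, hAF, hAc, hmax, hcyc, hsemi, hor⟩ := structure_F' hq hh h2
  rcases hor with ⟨L, hL, hLb, hLp, hLK⟩ | ⟨hcen, hcomm, hsq, hC, hor⟩
  · obtain ⟨K, hK, -⟩ := exists_component hL hLb hLp hLK
    exact absurd hK (hcomp K)
  rcases hor with rfl | ⟨a, ha, H, hZ, hcard, rfl | ⟨rfl, hp3, h4⟩⟩
  · -- `F = A`
    right
    refine semi_of_self_cent hirr (up F) (comm_up hAc) (up_normal hA) ?_ ?_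
    · intro k hk hk0
      have h5 := Cfsg.Agent.H768.HT.ker_eq_bot hirr (up_normal hA) (comm_up hAc) (hhom _ (up_le F) (up_normal hA))
        (e := k) (by rw [← alg_eq_env]; exact hk) hk0
      exact LinearMap.ker_eq_bot.1 h5
    · intro g hg hgx
      refine (coe_mem_up (x := ⟨g, hg⟩)).2 (hC _ fun x hx => ?_)
      exact Subtype.ext (hgx x (coe_mem_up.2 hx))
  · -- `e = 2`
    left
    obtain ⟨K, iK, iM, χ, σ, hK⟩ := Cfsg.Agent.H768.HT.exists_field hirr (up_le A) (up_normal hA) (comm_up hAc)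
      (hhom _ (up_le A) (up_normal hA))
    have E : ETwo G (up A) (up F) := etwo_of hA hF hAF hAc hmax hcen hcomm hC hcyc hsemi hsq (by
      rw [hcard]; ring)
    exact etwo_tra E hK hh (ge_three_of_sym H) hG
  · left
    exact four_case hirr hhom hh h2 hG hA hF hAF hAc hcyc hsemi hcen hC H hZ hcard hp3 h4

end Cfsg.Agent.H19.HT
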