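import Cfsg.Agent.H19.HT.Etwo
import Cfsg.Agent.H662.HT.Restr

/-!
# The case `p = 3`, `|F / A| = 16` with `3 ∣ |G|` (S3512, E1P; helper19)

`E = ⟨t 0, …, t 4⟩` extraspecial of order 32 of minus type; an element `g` of `G` permutes the `± t k`:
`Rel t g c e`.  The elements of order three are counted by means of `(c, e)`.
-/

set_option autoImplicit false
set_option linter.style.haveILetI false
set_option linter.unusedSectionVars false
set_option linter.unusedVariables false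

open scoped Classical
open Cfsg.Agent.H828.HT Cfsg.Agent.H960.HT Cfsg.Agent.H662.HT Cfsg.Agent.H583.HT

namespace Cfsg.Agent.H19.HT

universe u

section dec

set_option maxRecDepth 100000

/-- the maps with `c³ = 1` -/
def T3 : Finset (Fin 5 → Fin 5) := Finset.univ.filter (fun c : Fin 5 → Fin 5 => ∀ k, c (c (c k)) = k)

/-- the signs -/
def T2 (c : Fin 5 → Fin 5) : Finset (Fin 5 → Bool) :=
  Finset.univ.filter (fun e : Fin 5 → Bool => ∀ k, xor (e k) (xor (e (c k)) (e (c (c k)))) = false)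

theorem dec1 : T3.card = 21 := by decide +kernel

theorem dec2 : ∀ c : Fin 5 → Fin 5, (∀ k, c (c (c k)) = k) → (T2 c).card ≤ 4 := by decide +kernel

end dec

theorem mem_T3 {c : Fin 5 → Fin 5} : c ∈ T3 ↔ ∀ k, c (c (c k)) = k := by
  rw [T3, Finset.mem_filter]; exact ⟨fun h => h.2, fun h => ⟨Finset.mem_univ _, h⟩⟩

theorem mem_T2 {c : Fin 5 → Fin 5} {e : Fin 5 → Bool} :
    e ∈ T2 c ↔ ∀ k, xor (e k) (xor (e (c k)) (e (c (c k)))) = false := by
  rw [T2, Finset.mem_filter]; exact ⟨fun h => h.2, fun h => ⟨Finset.mem_univ _, h⟩⟩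

attribute [irreducible] T3 T2

/-- the possible `(c, e)` for elements of order three -/
def P3 (ce : (Fin 5 → Fin 5) × (Fin 5 → Bool)) : Prop :=
  ∀ k, ce.1 (ce.1 (ce.1 k)) = k ∧ xor (ce.2 k) (xor (ce.2 (ce.1 k)) (ce.2 (ce.1 (ce.1 k)))) = false

theorem card_P3_aux (T : Finset (Fin 5 → Fin 5)) (S : Finset ((Fin 5 → Fin 5) × (Fin 5 → Bool)))
    (hS : ∀ ce ∈ S, P3 ce ∧ ce.1 ∈ T) : S.card ≤ 4 * T.card := by
  refine Finset.card_le_mul_card_image_of_maps_to (f := Prod.fst) (t := T)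
    (fun a ha => (hS a ha).2) 4 (fun c hc => ?_)
  by_cases hne : ∃ ce ∈ S, ce.1 = c
  · obtain ⟨ce₀, h1, h2⟩ := hne
    have h3 : ∀ k, c (c (c k)) = k := by
      intro k
      have := ((hS ce₀ h1).1 k).1
      rwa [h2] at this
    have h4 := dec2 c h3
    refine le_trans ?_ h4
    refine Finset.card_le_card_of_injOn (fun ce => ce.2) ?_ ?_
    · intro ce hce
      obtain ⟨h5, h6⟩ := Finset.mem_filter.1 (Finset.mem_coe.1 hce)
      refine Finset.mem_coe.2 (mem_T2.2 fun k => ?_)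
      have := ((hS ce h5).1 k).2
      rwa [h6] at this
    · intro a ha b hb hab
      have h5 := (Finset.mem_filter.1 (Finset.mem_coe.1 ha)).2
      have h6 := (Finset.mem_filter.1 (Finset.mem_coe.1 hb)).2
      exact Prod.ext (h5.trans h6.symm) hab
  · have h3 : S.filter (fun ce => ce.1 = c) = ∅ := by
      rw [Finset.filter_eq_empty_iff]
      intro ce h1 h2
      exact hne ⟨ce, h1, h2⟩
    rw [h3, Finset.card_empty]
    exact Nat.zero_le _

theorem card_P3 {S : Finset ((Fin 5 → Fin 5) × (Fin 5 → Bool))} (hS : ∀ ce ∈ S, P3 ce) : S.card ≤ 84 := by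
  have h1 := card_P3_aux T3 S (fun ce hce => ⟨hS ce hce, mem_T3.2 fun k => ((hS ce hce) k).1⟩)
  rw [dec1] at h1
  exact h1

theorem card_P3' {S : Finset ((Fin 5 → Fin 5) × (Fin 5 → Bool))} (hS : ∀ ce ∈ S, P3 ce ∧ ∃ k, ce.1 k ≠ k) :
    S.card ≤ 80 := by
  have h1 := card_P3_aux (T3.erase id) S (fun ce hce => ⟨(hS ce hce).1, Finset.mem_erase.2 ⟨?_,
    mem_T3.2 fun k => ((hS ce hce).1 k).1⟩⟩)
  · rw [Finset.card_erase_of_mem (mem_T3.2 fun k => rfl), dec1] at h1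
    exact h1
  · intro h3
    obtain ⟨k, hk⟩ := (hS ce hce).2
    apply hk
    rw [h3]; rfl

variable {p : ℕ} [Fact p.Prime] {V : Type u} [AddCommGroup V] [Module (ZMod p) V] [Finite V]
  {G A E : Subgroup (V ≃ₗ[ZMod p] V)} {h : ℕ} {t : Fin 5 → (V ≃ₗ[ZMod p] V)}

/-- `± 1` -/
def sgn (p : ℕ) [Fact p.Prime] (V : Type u) [AddCommGroup V] [Module (ZMod p) V] (b : Bool) : V ≃ₗ[ZMod p] V :=
  if b then ng p V else 1

theorem sgn_comm (b : Bool) (g : V ≃ₗ[ZMod p] V) : sgn p V b * g = g * sgn p V b := by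
  cases b
  · change (1 : V ≃ₗ[ZMod p] V) * g = g * 1
    rw [one_mul, mul_one]
  · exact ng_comm g

theorem sgn_mul (b b' : Bool) : sgn p V b * sgn p V b' = sgn p V (xor b b') := by
  cases b <;> cases b'
  · exact one_mul _
  · exact one_mul _
  · exact mul_one _
  · exact ng_mul_ng

theorem sgn_inv (b : Bool) : sgn p V b * sgn p V b = 1 := by
  rw [sgn_mul]; cases b <;> rfl

theorem sgn_apply_eq (b : Bool) (v : V) : sgn p V b v = v ∨ sgn p V b v = -v := by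
  cases b
  · exact Or.inl rfl
  · exact Or.inr rfl

/-- `v = -v` implies `v = 0` -/
theorem zero_of_neg (hp : 3 ≤ p) {v : V} (h : v = -v) : v = 0 := by
  have h8 : (2 : ZMod p) • v = 0 := by
    rw [two_smul]
    nth_rewrite 1 [h]
    exact neg_add_cancel _
  exact (smul_eq_zero.1 h8).resolve_left (two_ne' hp)

/-- a common eigenvector of `t j` and `t k` vanishes -/
theorem eig_zero (hp : 3 ≤ p) (ht : Frame5 t) {j k : Fin 5} (hjk : j ≠ k) {v : V} (b b' : Bool)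
    (h1 : t j v = sgn p V b v) (h2 : t k v = sgn p V b' v) : v = 0 := by
  have h3 := ht.anti j k hjk v
  change t j (t k v) = -(t k (t j v)) at h3
  have h4 : t j (sgn p V b' v) = sgn p V b' (t j v) := by
    have := LinearEquiv.congr_fun (sgn_comm (p := p) (V := V) b' (t j)) v
    exact this.symm
  have h5 : t k (sgn p V b v) = sgn p V b (t k v) := by
    have := LinearEquiv.congr_fun (sgn_comm (p := p) (V := V) b (t k)) v
    exact this.symm
  rw [h2, h4, h1, h5, h2] at h3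
  have h6 : sgn p V b' (sgn p V b v) = sgn p V b (sgn p V b' v) := by
    have := LinearEquiv.congr_fun (sgn_comm (p := p) (V := V) b' (sgn p V b)) v
    exact this
  rw [h6] at h3
  have h7 := zero_of_neg hp h3
  have h8 : sgn p V b' v = 0 := (LinearEquiv.map_eq_zero_iff _).1 h7
  exact (LinearEquiv.map_eq_zero_iff _).1 h8

/-- `g` permutes the `± t k` -/
def Rel (t : Fin 5 → (V ≃ₗ[ZMod p] V)) (g : V ≃ₗ[ZMod p] V) (c : Fin 5 → Fin 5) (e : Fin 5 → Bool) : Prop :=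
  ∀ k, g * t k = sgn p V (e k) * (t (c k) * g)

theorem Rel.one : Rel t 1 id (fun _ => false) := by
  intro k
  change 1 * t k = 1 * (t k * 1)
  rw [one_mul, mul_one, one_mul]

theorem Rel.mul {g g' : V ≃ₗ[ZMod p] V} {c c' : Fin 5 → Fin 5} {e e' : Fin 5 → Bool} (h : Rel t g c e)
    (h' : Rel t g' c' e') : Rel t (g * g') (fun k => c (c' k)) (fun k => xor (e' k) (e (c' k))) := by
  intro k
  change g * g' * t k = _
  rw [mul_assoc, h' k, ← mul_assoc g, ← sgn_comm, mul_assoc, ← mul_assoc g, h (c' k), ← sgn_mul]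
  simp only [mul_assoc]

theorem sgn_inj (hp : 3 ≤ p) [Nontrivial V] (ht : Frame5 t) {j k : Fin 5} {b b' : Bool}
    (h : sgn p V b * t j = sgn p V b' * t k) : j = k ∧ b = b' := by
  have h1 : j = k := by
    by_contra hjk
    obtain ⟨v, hv, hvt⟩ := Frame5.exists_fix hp ht k
    apply hv
    refine eig_zero hp ht hjk (xor b b') false ?_ hvt
    have h2 : t j = sgn p V (xor b b') * t k := by
      rw [← sgn_mul, mul_assoc, ← h, ← mul_assoc, sgn_inv, one_mul]
    have := LinearEquiv.congr_fun h2 v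
    rw [this]
    change sgn p V (xor b b') (t k v) = _
    rw [hvt]
  subst h1
  refine ⟨rfl, ?_⟩
  have h2 : sgn p V b = sgn p V b' := mul_right_cancel h
  obtain ⟨v, hv⟩ := exists_ne (0 : V)
  have h3 := LinearEquiv.congr_fun h2 v
  cases b <;> cases b'
  · rfl
  · exact absurd (zero_of_neg hp (show v = -v from h3)) hv
  · exact absurd (zero_of_neg hp (show v = -v from h3.symm)) hv
  · rfl

theorem Rel.unique (hp : 3 ≤ p) [Nontrivial V] (ht : Frame5 t) {g : V ≃ₗ[ZMod p] V} {c c' : Fin 5 → Fin 5}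
    {e e' : Fin 5 → Bool} (h : Rel t g c e) (h' : Rel t g c' e') (k : Fin 5) : c k = c' k ∧ e k = e' k := by
  have h1 := (h k).symm.trans (h' k)
  rw [← mul_assoc, ← mul_assoc] at h1
  exact sgn_inj hp ht (mul_right_cancel h1)

theorem Rel.p3 (hp : 3 ≤ p) [Nontrivial V] (ht : Frame5 t) {g : V ≃ₗ[ZMod p] V} {c : Fin 5 → Fin 5}
    {e : Fin 5 → Bool} (h : Rel t g c e) (h3 : g ^ 3 = 1) : P3 (c, e) := by
  intro k
  have h1 := h.mul (h.mul h)
  rw [show g * (g * g) = 1 by rw [← h3, pow_succ, pow_two, mul_assoc]] at h1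
  obtain ⟨h4, h5⟩ := h1.unique hp ht Rel.one k
  refine ⟨h4, ?_⟩
  simp only at h5 ⊢
  rw [← h5]
  cases e k <;> cases e (c k) <;> cases e (c (c k)) <;> rfl

theorem p3_of (hp : 3 ≤ p) [Nontrivial V] (ht : Frame5 t) {g : V ≃ₗ[ZMod p] V}
    {ce : (Fin 5 → Fin 5) × (Fin 5 → Bool)} (h : Rel t g ce.1 ce.2) (h3 : g ^ 3 = 1) : P3 ce := by
  obtain ⟨c, e⟩ := ce
  exact Rel.p3 hp ht h h3

/-- two elements with the same data -/
theorem Rel.comm {g g' : V ≃ₗ[ZMod p] V} {c : Fin 5 → Fin 5} {e : Fin 5 → Bool} (h : Rel t g c e)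
    (h' : Rel t g' c e) (k : Fin 5) : (g⁻¹ * g') * t k = t k * (g⁻¹ * g') := by
  have h1 := h' k
  have h2 : sgn p V (e k) * t (c k) = g * t k * g⁻¹ := by rw [h k]; group
  rw [← mul_assoc, h2] at h1
  calc (g⁻¹ * g') * t k = g⁻¹ * (g' * t k) := by group
    _ = g⁻¹ * (g * t k * g⁻¹ * g') := by rw [h1]
    _ = t k * (g⁻¹ * g') := by group

/-- the setting -/
structure Ef (G A E : Subgroup (V ≃ₗ[ZMod p] V)) (t : Fin 5 → (V ≃ₗ[ZMod p] V)) : Prop where
  frame : Frame5 t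
  mem : ∀ k, t k ∈ E
  cl : E = Subgroup.closure (Set.range t)
  inv : ∀ x ∈ E, x * x = 1 → (∀ v : V, x v = v) ∨ (∀ v : V, x v = -v) ∨ ∃ k, x = t k ∨ ∀ v : V, x v = -(t k v)
  EG : E ≤ G
  AG : A ≤ G
  nE : ∀ g ∈ G, ∀ x ∈ E, g * x * g⁻¹ ∈ E
  nA : ∀ g ∈ G, ∀ a ∈ A, g * a * g⁻¹ ∈ A
  semi : ∀ a ∈ A, a ≠ 1 → ∀ v : V, a v = v → v = 0
  cenA : ∀ a ∈ A, ∀ x ∈ E, a * x = x * a
  cen : ∀ g ∈ G, (∀ x ∈ E, g * x = x * g) → (∀ a ∈ A, g * a = a * g) → g ∈ A

theorem comm_E {E : Subgroup (V ≃ₗ[ZMod p] V)} (hcl : E = Subgroup.closure (Set.range t)) {g : V ≃ₗ[ZMod p] V}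
    (hg : ∀ k, g * t k = t k * g) : ∀ x ∈ E, g * x = x * g := by
  intro x hx
  rw [hcl] at hx
  have hle : Subgroup.closure (Set.range t) ≤ Subgroup.centralizer {g} := by
    rw [Subgroup.closure_le]
    rintro _ ⟨k, rfl⟩
    rw [SetLike.mem_coe, Subgroup.mem_centralizer_singleton_iff]
    exact (hg k).symm
  exact (Subgroup.mem_centralizer_singleton_iff.1 (hle hx)).symm

theorem Ef.exists_rel (H : Ef G A E t) (hp : 3 ≤ p) [Nontrivial V] {g : V ≃ₗ[ZMod p] V} (hg : g ∈ G) :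
    ∃ (c : Fin 5 → Fin 5) (e : Fin 5 → Bool), Rel t g c e := by
  have hk : ∀ k, ∃ (j : Fin 5) (b : Bool), g * t k = sgn p V b * (t j * g) := by
    intro k
    have ht := H.frame
    have h3 : g * t k * g⁻¹ ∈ E := H.nE g hg _ (H.mem k)
    have h4 : (g * t k * g⁻¹) * (g * t k * g⁻¹) = 1 := by
      have : (g * t k * g⁻¹) * (g * t k * g⁻¹) = g * (t k * t k) * g⁻¹ := by group
      rw [this, ht.sq k, mul_one, mul_inv_cancel]
    have hne : ∀ b : Bool, g * t k * g⁻¹ ≠ sgn p V b := by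
      intro b hb
      have h5 : t k = sgn p V b := by
        have : t k = g⁻¹ * (g * t k * g⁻¹) * g := by group
        rw [this, hb, mul_assoc, sgn_comm, ← mul_assoc, inv_mul_cancel, one_mul]
      obtain ⟨j, hj⟩ : ∃ j : Fin 5, j ≠ k := exists_ne k
      obtain ⟨v, hv, hvt⟩ := Frame5.exists_fix hp ht j
      apply hv
      refine eig_zero hp ht hj false b hvt ?_
      rw [h5]
    rcases H.inv _ h3 h4 with h5 | h5 | ⟨j, h5 | h5⟩
    · exact absurd (LinearEquiv.ext h5) (hne false)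
    · exact absurd (LinearEquiv.ext h5) (hne true)
    · refine ⟨j, false, ?_⟩
      change g * t k = 1 * (t j * g)
      rw [one_mul, ← h5]; group
    · refine ⟨j, true, ?_⟩
      have h6 : g * t k * g⁻¹ = ng p V * t j := LinearEquiv.ext h5
      change g * t k = ng p V * (t j * g)
      rw [← mul_assoc, ← h6]; group
  choose c e hce using hk
  exact ⟨c, e, hce⟩

section ks

variable {K : Type u} [Field K] [Module K V] {χ : A →* Kˣ} {σ : G →* (K ≃+* K)}

/-- the data of an element -/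
noncomputable def dat (t : Fin 5 → (V ≃ₗ[ZMod p] V)) (g : V ≃ₗ[ZMod p] V) : (Fin 5 → Fin 5) × (Fin 5 → Bool) :=
  if h : ∃ ce : (Fin 5 → Fin 5) × (Fin 5 → Bool), Rel t g ce.1 ce.2 then h.choose else (id, fun _ => false)

theorem Ef.dat_spec (H : Ef G A E t) (hp : 3 ≤ p) [Nontrivial V] {g : V ≃ₗ[ZMod p] V} (hg : g ∈ G) :
    Rel t g (dat t g).1 (dat t g).2 := by
  obtain ⟨c, e, h⟩ := H.exists_rel hp hg
  have h1 : ∃ ce : (Fin 5 → Fin 5) × (Fin 5 → Bool), Rel t g ce.1 ce.2 := ⟨(c, e), h⟩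
  rw [dat, dif_pos h1]
  exact h1.choose_spec

attribute [irreducible] dat

/-- elements with the same data and the same action on `A` -/
theorem Ef.mem_A (H : Ef G A E t) (hK : KS G A K χ σ) (hp : 3 ≤ p) [Nontrivial V] {g g' : G} (h1 : σ g = σ g')
    (h2 : dat t (g : V ≃ₗ[ZMod p] V) = dat t (g' : V ≃ₗ[ZMod p] V)) :
    (g : V ≃ₗ[ZMod p] V)⁻¹ * (g' : V ≃ₗ[ZMod p] V) ∈ A := by
  have h3 := H.dat_spec hp g.2
  have h4 := H.dat_spec hp g'.2
  rw [← h2] at h4
  refine H.cen _ (G.mul_mem (G.inv_mem g.2) g'.2) (comm_E H.cl (h3.comm h4)) ?_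
  intro a ha
  have h5 : σ (g⁻¹ * g') = 1 := by rw [map_mul, map_inv, h1, inv_mul_cancel]
  exact (hK.cen _).1 h5 a ha

/-- fixed spaces of elements of order three moving the frame -/
theorem card_fx_lin (hp : 3 ≤ p) (ht : Frame5 t) {y : V ≃ₗ[ZMod p] V} {c : Fin 5 → Fin 5} {e : Fin 5 → Bool}
    (h : Rel t y c e) {k : Fin 5} (hk : c k ≠ k) : Nat.card (fx y) ^ 2 ≤ Nat.card V := by
  apply card_sq_le (n := t k)
  intro w hw hnw
  rw [mem_fx] at hw hnw
  -- `t k w = ± t (c k) w`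
  have h1 : y (t k w) = sgn p V (e k) (t (c k) (y w)) := LinearEquiv.congr_fun (h k) w
  rw [hnw, hw] at h1
  -- `u = t k w`: `t k u = w`, `t (c k) u = ± w`
  obtain ⟨b, hb⟩ : ∃ b, b = e k := ⟨_, rfl⟩
  rw [← hb] at h1
  have h2 : t (c k) (t k w) = sgn p V b w := by
    rw [h1]
    have h3 := LinearEquiv.congr_fun (sgn_comm (p := p) (V := V) b (t (c k))) (t (c k) w)
    have h4 : t (c k) (sgn p V b (t (c k) w)) = sgn p V b (t (c k) (t (c k) w)) := h3.symm
    rw [h4]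
    have h5 : t (c k) (t (c k) w) = w := LinearEquiv.congr_fun (ht.sq (c k)) w
    rw [h5]
  have h3 : t k (t k w) = w := LinearEquiv.congr_fun (ht.sq k) w
  have h4 := ht.anti (c k) k hk w
  change t (c k) (t k w) = -(t k (t (c k) w)) at h4
  have h5 : t k (t (c k) w) = sgn p V b w := by
    have h6 : t (c k) w = sgn p V b (t k w) := by
      rw [h1]
      have := LinearEquiv.congr_fun (sgn_inv (p := p) (V := V) b) (t (c k) w)
      exact this.symm
    rw [h6]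
    have h7 : t k (sgn p V b (t k w)) = sgn p V b (t k (t k w)) :=
      (LinearEquiv.congr_fun (sgn_comm (p := p) (V := V) b (t k)) (t k w)).symm
    rw [h7, h3]
  rw [h2, h5] at h4
  exact (LinearEquiv.map_eq_zero_iff _).1 (zero_of_neg hp h4)

theorem pow_eq_of {Γ : Type*} [Group Γ] {y : Γ} {r s : ℕ} (h : y ^ r = 1) (e : r = s) : y ^ s = 1 := by
  subst e; exact h

theorem xor3 : ∀ b : Bool, xor b (xor b b) = false → b = false := by decide

/-- the data, on `G` -/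
noncomputable def datG (t : Fin 5 → (V ≃ₗ[ZMod p] V)) (G : Subgroup (V ≃ₗ[ZMod p] V)) (y : G) :
    (Fin 5 → Fin 5) × (Fin 5 → Bool) := dat t (y : V ≃ₗ[ZMod p] V)

/-- elements of order three of `C_G(A)` move the frame -/
theorem Ef.moves (H : Ef G A E t) (hK : KS G A K χ σ) (hp3 : p = 3) [Nontrivial V] {y : G} (hy : orderOf y = 3)
    (hσ : σ y = 1) : P3 (dat t (y : V ≃ₗ[ZMod p] V)) ∧ ∃ k, (dat t (y : V ≃ₗ[ZMod p] V)).1 k ≠ k := by
  have hp : 3 ≤ p := by omega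
  have h1 := H.dat_spec hp y.2
  have h2 : P3 (dat t (y : V ≃ₗ[ZMod p] V)) := p3_of hp H.frame h1 (powo' hy)
  refine ⟨h2, ?_⟩
  by_contra hc
  push Not at hc
  have h3 : ∀ k, (dat t (y : V ≃ₗ[ZMod p] V)).2 k = false := by
    intro k
    have h4 := (h2 k).2
    rw [hc, hc] at h4
    exact xor3 _ h4
  have h4 : ∀ k, (y : V ≃ₗ[ZMod p] V) * t k = t k * (y : V ≃ₗ[ZMod p] V) := by
    intro k
    have h5 := h1 k
    rw [hc, h3] at h5
    rw [h5]
    exact one_mul _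
  have h5 : (y : V ≃ₗ[ZMod p] V) ∈ A := H.cen _ y.2 (comm_E H.cl h4) ((hK.cen y).1 hσ)
  have h6 := eq_one_of_pow (cop_of_semi H.semi) h5 (powo' (hy.trans hp3.symm))
  have h7 : y = 1 := Subtype.ext h6
  rw [h7, orderOf_one] at hy
  omega

/-- **the linear case** -/
theorem Ef.lin (H : Ef G A E t) (hK : KS G A K χ σ) (hh : Half G h) (hp3 : p = 3) [Nontrivial V]
    (hd : p ∣ Nat.card (G ⊓ Subgroup.centralizer (A : Set (V ≃ₗ[ZMod p] V)) :
      Subgroup (V ≃ₗ[ZMod p] V))) : Nat.card V < 6561 := by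
  have hp : 3 ≤ p := by omega
  haveI := Fintype.ofFinite G
  have hAcop : ¬ p ∣ Nat.card A := cop_of_semi H.semi
  have hP := pex_of_normal hh (inf_le_left : G ⊓ Subgroup.centralizer (A : Set (V ≃ₗ[ZMod p] V)) ≤ G)
    (cent_normal H.nA)
  have hcov : ∀ v : V, v ≠ 0 → ∃ y : G, (orderOf y = 3 ∧ σ y = 1) ∧ (y : V ≃ₗ[ZMod p] V) v = v := by
    intro v hv
    obtain ⟨y, hy, hyo, hyv⟩ := hP.exists_fix hd hv
    exact ⟨⟨y, hy.1⟩, ⟨by rw [Subgroup.orderOf_mk, hyo, hp3], sigma_one hK hy⟩, hyv⟩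
  have hB : Nat.card {y : G // orderOf y = 3 ∧ σ y = 1} ≤ 80 := by
    rw [Nat.card_eq_fintype_card, Fintype.card_subtype]
    have h1 : ((Finset.univ.filter (fun y : G => orderOf y = 3 ∧ σ y = 1)).image
        (datG t G)).card ≤ 80 := by
      refine card_P3' ?_
      intro ce hce
      obtain ⟨y, hy, rfl⟩ := Finset.mem_image.1 hce
      have h2 := (Finset.mem_filter.1 hy).2
      exact H.moves hK hp3 h2.1 h2.2
    rw [Finset.card_image_of_injOn] at h1
    · exact h1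
    · intro a ha b hb hab
      have h2 := (Finset.mem_filter.1 (Finset.mem_coe.1 ha)).2
      have h3 := (Finset.mem_filter.1 (Finset.mem_coe.1 hb)).2
      have h4 := H.mem_A hK hp (h2.2.trans h3.2.symm) hab
      have hc : Commute (a : V ≃ₗ[ZMod p] V) ((a : V ≃ₗ[ZMod p] V)⁻¹ * (b : V ≃ₗ[ZMod p] V)) :=
        (hK.cen a).1 h2.2 _ h4
      have e1 : (b : V ≃ₗ[ZMod p] V) = (a : V ≃ₗ[ZMod p] V) * ((a : V ≃ₗ[ZMod p] V)⁻¹ *
        (b : V ≃ₗ[ZMod p] V)) := by group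
      have e2 : (b : V ≃ₗ[ZMod p] V) ^ p = 1 := powo' (h3.1.trans hp3.symm)
      have e3 : (a : V ≃ₗ[ZMod p] V) ^ p = 1 := powo' (h2.1.trans hp3.symm)
      rw [e1, hc.mul_pow, e3, one_mul] at e2
      have e4 := eq_one_of_pow hAcop h4 e2
      have e5 : (b : V ≃ₗ[ZMod p] V) = a := by rw [e1, e4, mul_one]
      exact Subtype.ext e5.symm
  have hw : ∀ y : G, (orderOf y = 3 ∧ σ y = 1) →
      Nat.card (fx (y : V ≃ₗ[ZMod p] V)) ≤ Nat.sqrt (Nat.card V) := by
    intro y hy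
    obtain ⟨h1, k, hk⟩ := H.moves hK hp3 hy.1 hy.2
    have h2 := card_fx_lin hp H.frame (H.dat_spec hp y.2) hk
    rw [pow_two] at h2
    exact Nat.le_sqrt.2 h2
  have h1 := cover hcov hB hw
  have h2 := Nat.sqrt_le (Nat.card V)
  have h3 : Nat.sqrt (Nat.card V) ≤ 79 := by
    by_contra hc
    push Not at hc
    obtain ⟨k, hk⟩ := Nat.exists_eq_add_of_le hc
    rw [hk] at h1 h2
    have h4 : 80 * (79 + 1 + k - 1) + 1 = 80 * k + 6321 := by omega
    rw [h4] at h1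
    nlinarith
  have h4 : 80 * (Nat.sqrt (Nat.card V) - 1) ≤ 80 * 78 := Nat.mul_le_mul_left _ (by omega)
  omega

/-- one coset of `A`, semilinear elements -/
theorem coset_sm [Nontrivial V] (hnA : ∀ g ∈ G, ∀ a ∈ A, g * a * g⁻¹ ∈ A) (hK : KS G A K χ σ) {r : ℕ}
    (hr : r.Prime) {q₀ : ℕ} (hq : Nat.card K = q₀ ^ r) {y₁ : G} (h1 : y₁ ^ r = 1) (h2 : σ y₁ ≠ 1) :
    Nat.card {y : G // y ^ r = 1 ∧ (y₁ : V ≃ₗ[ZMod p] V)⁻¹ * (y : V ≃ₗ[ZMod p] V) ∈ A} ≤
      (q₀ ^ r - 1) / (q₀ - 1) := by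
  haveI := hK.fin
  have hit : ∀ (g : V ≃ₗ[ZMod p] V) (k : ℕ) (v : V), (fun w : V => g w)^[k] v = (g ^ k) v := by
    intro g k v
    induction k with
    | zero => rfl
    | succ k ih =>
      rw [Function.iterate_succ', Function.comp_apply, ih, pow_succ']
      rfl
  have h1' : (y₁ : V ≃ₗ[ZMod p] V) ^ r = 1 := congrArg Subtype.val h1
  obtain ⟨q, hq1, hq2, hq3⟩ := Cfsg.Agent.H528.HT.card_norm_semi' (K := K) (W := V) (σ y₁) h2 hr
    (y₁ : V ≃ₗ[ZMod p] V).toAddEquiv (fun k w => hK.semi y₁ k w) (fun w => by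
      have := hit (y₁ : V ≃ₗ[ZMod p] V) r w
      rw [h1'] at this
      exact this)
  have e : q = q₀ := by
    rw [hq] at hq2
    exact (Nat.pow_left_injective hr.ne_zero hq2).symm
  rw [e] at hq3 hq1
  rw [Nat.le_div_iff_mul_le (by omega), mul_comm]
  refine le_trans (Nat.mul_le_mul_left _ ?_) hq3
  have hkf : Finite Kˣ := inferInstance
  have hmem : ∀ y : {y : G // y ^ r = 1 ∧ (y₁ : V ≃ₗ[ZMod p] V)⁻¹ * (y : V ≃ₗ[ZMod p] V) ∈ A},
      (y.1 : V ≃ₗ[ZMod p] V) * (y₁ : V ≃ₗ[ZMod p] V)⁻¹ ∈ A := by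
    intro y
    have h3 := hnA y₁ y₁.2 _ y.2.2
    have h4 : (y₁ : V ≃ₗ[ZMod p] V) * ((y₁ : V ≃ₗ[ZMod p] V)⁻¹ * (y.1 : V ≃ₗ[ZMod p] V)) *
      (y₁ : V ≃ₗ[ZMod p] V)⁻¹ = (y.1 : V ≃ₗ[ZMod p] V) * (y₁ : V ≃ₗ[ZMod p] V)⁻¹ := by group
    rwa [h4] at h3
  refine Nat.card_le_card_of_injective
    (fun y => ⟨χ ⟨(y.1 : V ≃ₗ[ZMod p] V) * (y₁ : V ≃ₗ[ZMod p] V)⁻¹, hmem y⟩, ?_⟩) ?_
  · intro w
    have h3 : (fun w : V => ((χ ⟨(y.1 : V ≃ₗ[ZMod p] V) * (y₁ : V ≃ₗ[ZMod p] V)⁻¹, hmem y⟩ : Kˣ) : K) •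
        (y₁ : V ≃ₗ[ZMod p] V).toAddEquiv w) = fun w : V => (y.1 : V ≃ₗ[ZMod p] V) w := by
      funext w
      have h4 := hK.act ⟨(y.1 : V ≃ₗ[ZMod p] V) * (y₁ : V ≃ₗ[ZMod p] V)⁻¹, hmem y⟩ ((y₁ : V ≃ₗ[ZMod p] V) w)
      have h5 : ((y.1 : V ≃ₗ[ZMod p] V) * (y₁ : V ≃ₗ[ZMod p] V)⁻¹) ((y₁ : V ≃ₗ[ZMod p] V) w) =
          (y.1 : V ≃ₗ[ZMod p] V) w := by
        rw [← LinearEquiv.mul_apply, inv_mul_cancel_right]
      exact h4.symm.trans h5
    have h6 : (y.1 : V ≃ₗ[ZMod p] V) ^ r = 1 := congrArg Subtype.val y.2.1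
    rw [h3, hit, h6]
    rfl
  · intro a b h
    have h5 := hK.inj (congrArg Subtype.val h)
    have h6 := congrArg Subtype.val h5
    have h7 : (a.1 : V ≃ₗ[ZMod p] V) = b.1 := mul_right_cancel h6
    exact Subtype.ext (Subtype.ext h7)

/-- `3 ^ b ≡ 1 mod 16` -/
theorem four_dvd_of {b : ℕ} (h : 32 ∣ 10 * (3 ^ b - 1)) : 4 ∣ b := by
  have h1 : 3 ^ b % 16 = 1 := by
    have h2 : 1 ≤ 3 ^ b := Nat.one_le_pow _ _ (by norm_num)
    omega
  rcases Nat.eq_zero_or_pos b with rfl | hb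
  · exact dvd_zero 4
  · have key : ∀ k : ℕ, 3 ^ (4 * k) % 16 = 1 := by
      intro k
      induction k with
      | zero => rfl
      | succ k ih =>
        rw [Nat.mul_succ, pow_add, Nat.mul_mod, ih]
        norm_num
    obtain ⟨k, r, hr, rfl⟩ : ∃ k r, r < 4 ∧ b = 4 * k + r := ⟨b / 4, b % 4, Nat.mod_lt _ (by norm_num), by omega⟩
    rw [pow_add, Nat.mul_mod, key] at h1
    interval_cases r
    · exact ⟨k, by omega⟩
    · norm_num at h1
    · norm_num at h1
    · norm_num at h1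

/-- **the semilinear case** -/
theorem Ef.semil (H : Ef G A E t) (hK : KS G A K χ σ) (hh : Half G h) (hp3 : p = 3) [Nontrivial V]
    (hG : p ∣ Nat.card G)
    (hd : ¬ p ∣ Nat.card (G ⊓ Subgroup.centralizer (A : Set (V ≃ₗ[ZMod p] V)) :
      Subgroup (V ≃ₗ[ZMod p] V))) {Q : ℕ} (hQ : Nat.card V = Q ^ 2) (hQ' : Q = 9 ∨ 32 ∣ 10 * (Q - 1)) : False := by
  have hp : 3 ≤ p := by omega
  haveI := Fintype.ofFinite G
  haveI := hK.fin
  haveI : Module.Finite K V := Module.Finite.of_finite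
  obtain ⟨s, hs, hcov⟩ := exists_semi hK hh hG hd
  have hpp : p.Prime := Fact.out
  obtain ⟨v₀, hv₀⟩ := exists_ne (0 : V)
  obtain ⟨y₀, ⟨hy1, hy2⟩, -⟩ := hcov v₀ hv₀
  obtain ⟨q₀, hq2, hqK⟩ := exists_q0 hK hpp hy1 (by rw [hy2]; exact hs)
  have hσt : ∀ k, σ ⟨t k, H.EG (H.mem k)⟩ = 1 := by
    intro k
    rw [hK.cen]
    intro x hx
    exact (H.cenA x hx _ (H.mem k)).symm
  have hd2 : 2 ≤ Module.finrank K V := by
    refine K_sq_le hK (hσt 0) (hσt 1) ?_
    intro h2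
    have h2' : t 0 * t 1 = t 1 * t 0 := h2
    have h3 := H.frame.anti 0 1 (by decide) v₀
    rw [h2'] at h3
    have h4 := zero_of_neg hp h3
    exact hv₀ ((LinearEquiv.map_eq_zero_iff _).1 h4)
  obtain ⟨X, hX⟩ : ∃ X, X = q₀ ^ Module.finrank K V := ⟨_, rfl⟩
  have hVX : Nat.card V = X ^ p := by
    have h1 : Nat.card V = Nat.card K ^ Module.finrank K V := Module.natCard_eq_pow_finrank
    rw [h1, hqK, hX, ← pow_mul, ← pow_mul, mul_comm]
  have hXq : q₀ ^ 2 ≤ X := by rw [hX]; exact Nat.pow_le_pow_right (by omega) hd2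
  have hw : ∀ y : G, (y ^ p = 1 ∧ σ y = s) → Nat.card (fx (y : V ≃ₗ[ZMod p] V)) ≤ X := by
    intro y hy
    have h1 := card_fx_semi hK hpp hy.1 (by rw [hy.2]; exact hs)
    rw [hVX] at h1
    exact (Nat.pow_le_pow_iff_left hpp.ne_zero).1 h1
  have hB : Nat.card {y : G // y ^ p = 1 ∧ σ y = s} ≤ (q₀ ^ p - 1) / (q₀ - 1) * 84 := by
    have h1 : ((Finset.univ.filter (fun y : G => y ^ p = 1 ∧ σ y = s)).image
        (datG t G)).card ≤ 84 := by
      refine card_P3 ?_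
      intro ce hce
      obtain ⟨y, hy, rfl⟩ := Finset.mem_image.1 hce
      have h2 := (Finset.mem_filter.1 hy).2
      refine p3_of hp H.frame (H.dat_spec hp y.2) ?_
      have h3 : y ^ 3 = 1 := pow_eq_of h2.1 hp3
      exact congrArg Subtype.val h3
    have h2 := card_le_mul_of (S := fun y : G => y ^ p = 1 ∧ σ y = s) (datG t G)
      ((Finset.univ.filter (fun y : G => y ^ p = 1 ∧ σ y = s)).image (datG t G))
      (fun y hy => Finset.mem_image.2 ⟨y, Finset.mem_filter.2 ⟨Finset.mem_univ _, hy⟩, rfl⟩)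
      ((q₀ ^ p - 1) / (q₀ - 1)) (fun b hb => by
        obtain ⟨y₁, hy₁, rfl⟩ := Finset.mem_image.1 hb
        have h3 := (Finset.mem_filter.1 hy₁).2
        refine le_trans (Nat.card_le_card_of_injective (fun y : {y : G // (y ^ p = 1 ∧ σ y = s) ∧
          dat t (y : V ≃ₗ[ZMod p] V) = dat t (y₁ : V ≃ₗ[ZMod p] V)} =>
          (⟨y.1, y.2.1.1, H.mem_A hK hp (h3.2.trans y.2.1.2.symm) y.2.2.symm⟩ :
          {y : G // y ^ p = 1 ∧ (y₁ : V ≃ₗ[ZMod p] V)⁻¹ * (y : V ≃ₗ[ZMod p] V) ∈ A})) ?_)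
          (coset_sm H.nA hK hpp hqK h3.1 (by rw [h3.2]; exact hs))
        intro a b hab
        have := congrArg (fun z : {y : G // y ^ p = 1 ∧ (y₁ : V ≃ₗ[ZMod p] V)⁻¹ * (y : V ≃ₗ[ZMod p] V) ∈ A} =>
          z.1) hab
        exact Subtype.ext this)
    exact h2.trans (Nat.mul_le_mul_left _ h1)
  have h1 := cover hcov hB hw
  -- numbers
  have hX3 : Nat.card V = X ^ 3 := by rw [hVX, hp3]
  have hdiv : (q₀ ^ p - 1) / (q₀ - 1) = q₀ ^ 2 + q₀ + 1 := by
    rw [hp3]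
    obtain ⟨k, rfl⟩ := Nat.exists_eq_add_of_le' (show 1 ≤ q₀ by omega)
    have h1 : (k + 1) ^ 3 - 1 = k * ((k + 1) ^ 2 + (k + 1) + 1) := by
      rw [show (k + 1) ^ 3 = k * ((k + 1) ^ 2 + (k + 1) + 1) + 1 by ring]
      rfl
    rw [h1, Nat.add_sub_cancel, Nat.mul_div_cancel_left _ (by omega)]
  rw [hX3, hdiv] at h1
  have hX1 : 1 ≤ X := le_trans (by nlinarith) hXq
  have h2 : q₀ ^ 2 + q₀ + 1 ≤ 2 * X := by nlinarith
  have h3 : X ^ 3 ≤ 168 * (X * X) := by
    calc X ^ 3 ≤ (q₀ ^ 2 + q₀ + 1) * 84 * (X - 1) + 1 := h1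
      _ ≤ 2 * X * 84 * (X - 1) + 1 := by
        have := Nat.mul_le_mul_right (84 * (X - 1)) h2
        nlinarith
      _ ≤ 2 * X * 84 * X := by
        obtain ⟨Y, rfl⟩ := Nat.exists_eq_add_of_le' hX1
        rw [Nat.add_sub_cancel]
        nlinarith
      _ = 168 * (X * X) := by ring
  have h4 : X ≤ 168 := by
    have : X * (X * X) ≤ 168 * (X * X) := by
      calc X * (X * X) = X ^ 3 := by ring
        _ ≤ _ := h3
    exact Nat.le_of_mul_le_mul_right this (by positivity)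
  -- powers of three
  have hp3' : Nat.Prime 3 := by norm_num
  have hV3 : Nat.card V = 3 ^ Module.finrank (ZMod p) V := by
    rw [card_eq_pow (p := p) V]
    congr 1
  obtain ⟨b, -, hb⟩ := (Nat.dvd_prime_pow hp3').1 (show Q ∣ 3 ^ Module.finrank (ZMod p) V from by
    rw [← hV3, hQ]; exact dvd_pow_self Q (by norm_num))
  obtain ⟨a, -, ha⟩ := (Nat.dvd_prime_pow hp3').1 (show X ∣ 3 ^ Module.finrank (ZMod p) V from by
    rw [← hV3, hX3]; exact dvd_pow_self X (by norm_num))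
  have hab : 3 ^ (a * 3) = 3 ^ (b * 2) := by
    rw [pow_mul, pow_mul, ← ha, ← hb, ← hX3, hQ]
  have hab' : a * 3 = b * 2 := Nat.pow_right_injective (le_refl 2 |> fun _ => by norm_num) hab
  have hV1 : 1 < Nat.card V := Finite.one_lt_card
  have hb0 : b ≠ 0 := by
    rintro rfl
    rw [pow_zero] at hb
    rw [hQ, hb] at hV1
    omega
  have h4b : 4 ∣ b ∨ b = 2 := by
    rcases hQ' with h5 | h5
    · right
      have h6 : 3 ^ b = 3 ^ 2 := by rw [← hb, h5]; norm_num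
      exact Nat.pow_right_injective (by norm_num) h6
    · left
      rw [hb] at h5
      exact four_dvd_of h5
  have ha8 : 8 ≤ a := by omega
  have h5 : 3 ^ 8 ≤ X := by rw [ha]; exact Nat.pow_le_pow_right (by norm_num) ha8
  omega

end ks

/-- the elements of `E` commute with `t k` up to sign -/
theorem E_sign {E : Subgroup (V ≃ₗ[ZMod p] V)} (hcl : E = Subgroup.closure (Set.range t)) (ht : Frame5 t) {x : V ≃ₗ[ZMod p] V}
    (hx : x ∈ E) (k : Fin 5) : ∃ b, t k * x = sgn p V b * (x * t k) := by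
  rw [hcl] at hx
  induction hx using Subgroup.closure_induction with
  | mem x hx =>
    obtain ⟨j, rfl⟩ := hx
    by_cases hjk : j = k
    · subst hjk
      exact ⟨false, (one_mul _).symm⟩
    · refine ⟨true, LinearEquiv.ext fun v => ?_⟩
      exact ht.anti k j (Ne.symm hjk) v
  | one => exact ⟨false, by rw [mul_one, one_mul]; exact (one_mul _).symm⟩
  | mul x y _ _ hx hy =>
    obtain ⟨b, hb⟩ := hx
    obtain ⟨b', hb'⟩ := hy
    refine ⟨xor b b', ?_⟩
    rw [← mul_assoc, hb, mul_assoc (sgn p V b), mul_assoc x, hb', ← sgn_mul, mul_assoc (sgn p V b)]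
    congr 1
    rw [← mul_assoc x, ← sgn_comm]
    simp only [mul_assoc]
  | inv x _ hx =>
    obtain ⟨b, hb⟩ := hx
    refine ⟨b, ?_⟩
    have h1 : x * t k = sgn p V b * (t k * x) := by
      rw [hb, ← mul_assoc, sgn_inv, one_mul]
    have h2 : t k * x⁻¹ = x⁻¹ * (x * t k) * x⁻¹ := by group
    rw [h2, h1]
    calc x⁻¹ * (sgn p V b * (t k * x)) * x⁻¹ = (x⁻¹ * sgn p V b) * t k := by group
      _ = sgn p V b * x⁻¹ * t k := by rw [sgn_comm]
      _ = sgn p V b * (x⁻¹ * t k) := by rw [mul_assoc]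

/-- the stabiliser in `E` of a non-zero vector has at most two elements -/
theorem stab_le_two {E : Subgroup (V ≃ₗ[ZMod p] V)} (hp : 3 ≤ p) (ht : Frame5 t) (Hs : Sym 2 2 E V)
    (hinv : ∀ x ∈ E, x * x = 1 → (∀ v : V, x v = v) ∨ (∀ v : V, x v = -v) ∨ ∃ k, x = t k ∨ ∀ v : V, x v = -(t k v))
    {v : V} (hv : v ≠ 0) : Nat.card (MulAction.stabilizer E v) ≤ 2 := by
  have h1 := Hs.stab_inf hv
  -- every non-trivial element of the stabiliser is `± t k`
  have key : ∀ x : E, x ∈ MulAction.stabilizer E v → x ≠ 1 → ∃ k b, (x : V ≃ₗ[ZMod p] V) = sgn p V b * t k := by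
    intro x hx hx1
    have h2 : x ^ 2 = 1 := Hs.expS h1 hx
    have h3 : (x : V ≃ₗ[ZMod p] V) * x = 1 := by
      rw [pow_two] at h2
      exact congrArg Subtype.val h2
    have hxv : (x : V ≃ₗ[ZMod p] V) v = v := hx
    rcases hinv x x.2 h3 with h4 | h4 | ⟨k, h4 | h4⟩
    · exact absurd (Subtype.ext (LinearEquiv.ext h4) : x = 1) hx1
    · exact absurd (zero_of_neg hp (hxv.symm.trans (h4 v))) hv
    · exact ⟨k, false, by rw [h4]; exact (one_mul _).symm⟩
    · exact ⟨k, true, LinearEquiv.ext h4⟩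
  have key2 : ∀ x y : E, x ∈ MulAction.stabilizer E v → y ∈ MulAction.stabilizer E v → x ≠ 1 → y ≠ 1 → x = y := by
    intro x y hx hy hx1 hy1
    obtain ⟨j, b, hj⟩ := key x hx hx1
    obtain ⟨k, b', hk⟩ := key y hy hy1
    have hxv : (x : V ≃ₗ[ZMod p] V) v = v := hx
    have hyv : (y : V ≃ₗ[ZMod p] V) v = v := hy
    have e1 : t j v = sgn p V b v := by
      have h2 : t j = sgn p V b * (x : V ≃ₗ[ZMod p] V) := by rw [hj, ← mul_assoc, sgn_inv, one_mul]
      rw [h2]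
      change sgn p V b ((x : V ≃ₗ[ZMod p] V) v) = _
      rw [hxv]
    have e2 : t k v = sgn p V b' v := by
      have h2 : t k = sgn p V b' * (y : V ≃ₗ[ZMod p] V) := by rw [hk, ← mul_assoc, sgn_inv, one_mul]
      rw [h2]
      change sgn p V b' ((y : V ≃ₗ[ZMod p] V) v) = _
      rw [hyv]
    have hjk : j = k := by
      by_contra hne
      exact hv (eig_zero hp ht hne b b' e1 e2)
    subst hjk
    have e3 : sgn p V b v = sgn p V b' v := e1.symm.trans e2
    have hbb : b = b' := by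
      cases b <;> cases b'
      · rfl
      · exact absurd (zero_of_neg hp (show v = -v from e3)) hv
      · exact absurd (zero_of_neg hp (show v = -v from e3.symm)) hv
      · rfl
    subst hbb
    exact Subtype.ext (hj.trans hk.symm)
  by_contra hc
  push Not at hc
  haveI := Fintype.ofFinite (MulAction.stabilizer E v)
  rw [Nat.card_eq_fintype_card, Fintype.two_lt_card_iff] at hc
  obtain ⟨a, b, c, hab, hac, hbc⟩ := hc
  have hE : ∀ x : MulAction.stabilizer E v, (x : E) = 1 → x = 1 := fun x hx => Subtype.ext hx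
  by_cases ha : a = 1
  · subst ha
    exact hbc (Subtype.ext (key2 b c b.2 c.2 (fun h => hab (hE b h).symm) (fun h => hac (hE c h).symm)))
  · by_cases hb : b = 1
    · subst hb
      exact hac (Subtype.ext (key2 a c a.2 c.2 (fun h => ha (hE a h)) (fun h => hbc (hE c h).symm)))
    · exact hab (Subtype.ext (key2 a b a.2 b.2 (fun h => ha (hE a h)) (fun h => hb (hE b h))))

/-- **the case `|V| = 81`** -/
theorem Ef.tra (H : Ef G A E t) (Hs : Sym 2 2 E V) (hz : Nat.card (Subgroup.center E) = 2) (hh : Half G h)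
    (hp3 : p = 3) [Nontrivial V] (hG : p ∣ Nat.card G) (hhom : AllHomog G) (hV : Nat.card V = 81) : Tra G := by
  have hp : 3 ≤ p := by omega
  have ht := H.frame
  obtain ⟨v₀, hv₀⟩ := exists_ne (0 : V)
  obtain ⟨m, hm, hm0⟩ := exists_m hh ⟨v₀, hv₀⟩
  have h0 := h_pos hh hv₀
  have hE32 : Nat.card E = 32 := by rw [Hs.card, hz]; norm_num
  have horb : ∀ v : V, v ≠ 0 → 16 ≤ Nat.card (MulAction.orbit E v) ∧ Nat.card (MulAction.orbit E v) ∣ 32 := by
    intro v hv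
    have h1 := Nat.card_congr (MulAction.orbitProdStabilizerEquivGroup E v)
    rw [Nat.card_prod, hE32] at h1
    have h2 := stab_le_two hp ht Hs H.inv hv
    refine ⟨?_, Dvd.intro _ h1⟩
    by_contra hc
    push Not at hc
    have : Nat.card (MulAction.orbit E v) * Nat.card (MulAction.stabilizer E v) ≤ 15 * 2 :=
      Nat.mul_le_mul (by omega) h2
    omega
  have h16 : 16 ∣ m := by
    obtain ⟨h1, h2⟩ := horb v₀ hv₀
    have h3 : 16 ∣ Nat.card (MulAction.orbit E v₀) := by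
      have h4 := Nat.le_of_dvd (by norm_num) h2
      obtain ⟨k, hk⟩ := h2
      have h5 : k ≤ 2 := by
        by_contra hc
        push Not at hc
        have : 16 * 3 ≤ Nat.card (MulAction.orbit E v₀) * k := Nat.mul_le_mul h1 hc
        omega
      interval_cases k
      · omega
      · exact ⟨2, by omega⟩
      · exact ⟨1, by omega⟩
    exact h3.trans (orbit_normal_dvd_m hh h0 hm E H.EG H.nE hv₀)
  have h80 : m ∣ 80 := by
    have := dvd_card_sub_one hh h0 hm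
    rwa [hV] at this
  have hcases : m = 16 ∨ m = 80 := by
    obtain ⟨k, rfl⟩ := h16
    obtain ⟨j, hj⟩ := h80
    have h5 : k * j = 5 := by
      have : 16 * (k * j) = 16 * 5 := by rw [← mul_assoc]; omega
      omega
    have h6 : k ∣ 5 := Dvd.intro _ h5
    rcases (Nat.dvd_prime (by norm_num)).1 h6 with h7 | h7
    · left; omega
    · right; omega
  rcases hcases with h1 | h1
  swap
  · exact tra_of_card hh h0 hm (by omega)
  exfalso
  -- an element of order three moving the frame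
  have hP : PEx G := pex_of_normal hh le_rfl (fun g hg n hn => G.mul_mem (G.mul_mem hg hn) (G.inv_mem hg))
  obtain ⟨y, hy, hyo, -⟩ := hP.exists_fix hG hv₀
  obtain ⟨c, e, hce⟩ := H.exists_rel hp hy
  have hy3 : y ^ 3 = 1 := pow_eq_of (powo hyo) hp3
  have h3 : P3 (c, e) := hce.p3 hp ht hy3
  obtain ⟨k, hk⟩ : ∃ k, c k ≠ k := by
    by_contra hcon
    push Not at hcon
    have h4 : ∀ k, y * t k = t k * y := by
      intro k
      have h5 := hce k
      have h6 : e k = false := by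
        have h7 := (h3 k).2
        simp only [hcon] at h7
        exact xor3 _ h7
      rw [hcon, h6] at h5
      rw [h5]; exact one_mul _
    have h5 := comm_E H.cl h4
    have hnc : ∃ a ∈ E, ∃ b ∈ E, a * b ≠ b * a := by
      refine ⟨t 0, H.mem 0, t 1, H.mem 1, fun h2 => ?_⟩
      have h3 := H.frame.anti 0 1 (by decide) v₀
      rw [h2] at h3
      have h4 := zero_of_neg hp h3
      exact hv₀ ((LinearEquiv.map_eq_zero_iff _).1 h4)
    apply cent_cop hh hG hhom H.nE hnc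
    have h6 : y ∈ G ⊓ Subgroup.centralizer (E : Set (V ≃ₗ[ZMod p] V)) := by
      refine ⟨hy, ?_⟩
      change y ∈ Subgroup.centralizer (E : Set (V ≃ₗ[ZMod p] V))
      rw [Subgroup.mem_centralizer_iff]
      intro x hx
      exact (h5 x hx).symm
    have h7 := orderOf_dvd_natCard (⟨y, h6⟩ : (G ⊓ Subgroup.centralizer (E : Set (V ≃ₗ[ZMod p] V)) :
      Subgroup (V ≃ₗ[ZMod p] V)))
    rwa [Subgroup.orderOf_mk, hyo] at h7
  -- a vector fixed by `t k`
  obtain ⟨v, hv, hvt⟩ := Frame5.exists_fix hp ht k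
  have h5 : (MulAction.orbit E v : Set V) ⊆ MulAction.orbit G v := by
    rintro _ ⟨x, rfl⟩
    exact ⟨⟨x, H.EG x.2⟩, rfl⟩
  have h6 : (MulAction.orbit E v : Set V) = MulAction.orbit G v := by
    apply Set.eq_of_subset_of_ncard_le h5 ?_ (Set.toFinite _)
    have h7 := orbit_card hh h0 hm hv
    have h8 := (horb v hv).1
    rw [← Nat.card_coe_set_eq, ← Nat.card_coe_set_eq, h7]
    omega
  have h7 : y v ∈ (MulAction.orbit E v : Set V) := by
    rw [h6]
    exact ⟨⟨y, hy⟩, rfl⟩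
  obtain ⟨x, hx⟩ := h7
  have hx' : (x : V ≃ₗ[ZMod p] V) v = y v := hx
  obtain ⟨b, hb⟩ := E_sign H.cl ht x.2 k
  -- `t k (y v) = ± y v`
  have e1 : t k (y v) = sgn p V b (y v) := by
    rw [← hx']
    have := LinearEquiv.congr_fun hb v
    change t k ((x : V ≃ₗ[ZMod p] V) v) = sgn p V b ((x : V ≃ₗ[ZMod p] V) (t k v)) at this
    rw [this, hvt]
  have e2 : t (c k) (y v) = sgn p V (e k) (y v) := by
    have h8 : t (c k) * y = sgn p V (e k) * (y * t k) := by
      rw [hce k, ← mul_assoc, sgn_inv, one_mul]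
    have := LinearEquiv.congr_fun h8 v
    change t (c k) (y v) = sgn p V (e k) (y (t k v)) at this
    rw [this, hvt]
  have h8 := eig_zero hp ht (Ne.symm hk) b (e k) e1 e2
  exact hv ((LinearEquiv.map_eq_zero_iff _).1 h8)

end Cfsg.Agent.H19.HT
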