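import Cfsg.Agent.H19.HT.Cnt

/-!
# The case `|F / A| = 4` with `p ∣ |G|` (S3512, E1P; helper19)

`etwo_tra`: `ETwo G A F`, `Half G h`, `3 ≤ p`, `p ∣ |G|`: `G` is transitive (then `|V| = 9`).
-/

set_option autoImplicit false
set_option linter.style.haveILetI false
set_option linter.unusedSectionVars false
set_option linter.unusedVariables false

open scoped Classical
open Cfsg.Agent.H828.HT Cfsg.Agent.H960.HT Cfsg.Agent.H662.HT Cfsg.Agent.H583.HT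

namespace Cfsg.Agent.H19.HT

universe u

variable {p : ℕ} [Fact p.Prime] {V : Type u} [AddCommGroup V] [Module (ZMod p) V] [Finite V]
  {G A F : Subgroup (V ≃ₗ[ZMod p] V)} {h : ℕ}

theorem two_ne' (hp : 3 ≤ p) : (2 : ZMod p) ≠ 0 := by
  intro h9
  have h10 : ((2 : ℕ) : ZMod p) = 0 := by exact_mod_cast h9
  rw [ZMod.natCast_eq_zero_iff] at h10
  exact absurd (Nat.le_of_dvd (by norm_num) h10) (by omega)

theorem powo {Γ : Type*} [Group Γ] {y : Γ} {r : ℕ} (h : orderOf y = r) : y ^ r = 1 := by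
  subst h; exact pow_orderOf_eq_one y

theorem powo' {y : G} {r : ℕ} (h : orderOf y = r) : (y : V ≃ₗ[ZMod p] V) ^ r = 1 :=
  congrArg Subtype.val (powo h)

section ks

variable {K : Type u} [Field K] [Module K V] {χ : A →* Kˣ} {σ : G →* (K ≃+* K)}

/-- fixed spaces of linear elements of order three -/
theorem card_three' [Nontrivial V] (E : ETwo G A F) (hK : KS G A K χ σ) (hp : 3 ≤ p)
    {y : G} (hy : orderOf y = 3) (hfix : ∃ v : V, v ≠ 0 ∧ (y : V ≃ₗ[ZMod p] V) v = v) (hσ : σ y = 1) :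
    Nat.card (fx (y : V ≃ₗ[ZMod p] V)) ^ 2 ≤ Nat.card V := by
  obtain ⟨ρ, n, R⟩ := exists_rho E
  have hy3 : y ^ 3 = 1 := by rw [← hy]; exact pow_orderOf_eq_one y
  have h1 := rho_ne_one R E hK Nat.prime_three (by norm_num) hy hfix hσ
  have h2 : (ρ y) ^ 3 = 1 := by rw [← map_pow, hy3, map_one]
  have h3 := no_fix_of_perm _ h2 h1
  obtain ⟨j, hj⟩ : ∃ j, ρ y 0 = j := ⟨_, rfl⟩
  rw [hj] at h3
  have h4 := (R.act y 0 j).1 hj
  -- the anticommuting elements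
  obtain ⟨m, hm⟩ : ∃ m, m = (y : V ≃ₗ[ZMod p] V) * n 0 * (y : V ≃ₗ[ZMod p] V)⁻¹ := ⟨_, rfl⟩
  rw [← hm] at h4
  have hmF : m ∈ F := by rw [hm]; exact E.nF _ y.2 _ (R.memF 0)
  have hmA : m ∉ A := by
    intro h
    apply R.notA 0
    have h5 := E.nA _ (inv_mem y.2) _ h
    have h6 : (y : V ≃ₗ[ZMod p] V)⁻¹ * m * (y : V ≃ₗ[ZMod p] V)⁻¹⁻¹ = n 0 := by rw [hm]; group
    rwa [h6] at h5
  have h0m : (n 0)⁻¹ * m ∉ A := by
    intro h
    apply h3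
    apply R.inj
    have h5 : (n j)⁻¹ * n 0 = ((n j)⁻¹ * m) * ((n 0)⁻¹ * m)⁻¹ := by group
    rw [h5]
    exact mul_mem h4 (inv_mem h)
  have hanti := Cfsg.Agent.H583.HT.anti E (R.memF 0) hmF (R.notA 0) hmA h0m
  have hsq : m * m = n 0 * n 0 := by
    have h5 := (hK.cen y).1 hσ _ (E.sq _ (R.memF 0))
    calc m * m = ((y : V ≃ₗ[ZMod p] V) * (n 0 * n 0)) * (y : V ≃ₗ[ZMod p] V)⁻¹ := by rw [hm]; group
      _ = n 0 * n 0 := by rw [h5]; group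
  -- `u = m n⁻¹`
  have hu : (m * (n 0)⁻¹) * (m * (n 0)⁻¹) = ng p V := by
    have h5 : (n 0)⁻¹ * m = ng p V * (m * (n 0)⁻¹) := by
      have h6 : (n 0)⁻¹ * (n 0 * m) * (n 0)⁻¹ = (n 0)⁻¹ * (ng p V * (m * n 0)) * (n 0)⁻¹ := by rw [hanti]
      have h7 : (n 0)⁻¹ * (n 0 * m) * (n 0)⁻¹ = m * (n 0)⁻¹ := by group
      have h8 : (n 0)⁻¹ * (ng p V * (m * n 0)) * (n 0)⁻¹ = ((n 0)⁻¹ * ng p V) * m := by group
      rw [h7, h8, ← ng_comm, mul_assoc] at h6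
      rw [h6, ← mul_assoc, ng_mul_ng, one_mul]
    calc (m * (n 0)⁻¹) * (m * (n 0)⁻¹) = m * ((n 0)⁻¹ * m) * (n 0)⁻¹ := by group
      _ = (m * ng p V) * (m * (n 0)⁻¹) * (n 0)⁻¹ := by rw [h5]; group
      _ = ng p V * (m * m) * (n 0 * n 0)⁻¹ := by rw [← ng_comm]; group
      _ = ng p V := by rw [hsq]; group
  apply card_sq_le (n := n 0)
  intro w hw hnw
  rw [mem_fx] at hw hnw
  have h5 : (m * (n 0)⁻¹) (n 0 w) = n 0 w := by
    have h6 : (m * (n 0)⁻¹) (n 0 w) = m w := by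
      rw [← LinearEquiv.mul_apply, inv_mul_cancel_right]
    have h7 : m w = (y : V ≃ₗ[ZMod p] V) (n 0 ((y : V ≃ₗ[ZMod p] V)⁻¹ w)) := by rw [hm]; rfl
    have h8 : (y : V ≃ₗ[ZMod p] V)⁻¹ w = w := by
      have h9 : (y : V ≃ₗ[ZMod p] V)⁻¹ ((y : V ≃ₗ[ZMod p] V) w) = w := by
        rw [← LinearEquiv.mul_apply, inv_mul_cancel]; rfl
      rwa [hw] at h9
    rw [h6, h7, h8, hnw]
  have h6 : n 0 w = -(n 0 w) := by
    have h7 : ((m * (n 0)⁻¹) * (m * (n 0)⁻¹)) (n 0 w) = n 0 w := by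
      rw [LinearEquiv.mul_apply, h5, h5]
    rw [hu, ng_apply] at h7
    exact h7.symm
  have h7 : n 0 w = 0 := by
    have h8 : (2 : ZMod p) • n 0 w = 0 := by
      rw [two_smul]
      nth_rewrite 1 [h6]
      exact neg_add_cancel _
    exact (smul_eq_zero.1 h8).resolve_left (two_ne' hp)
  exact (LinearEquiv.map_eq_zero_iff (n 0)).1 h7

/-- `σ y = 1` for elements of `C_G(A)` -/
theorem sigma_one (hK : KS G A K χ σ) {y : V ≃ₗ[ZMod p] V}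
    (hy : y ∈ G ⊓ Subgroup.centralizer (A : Set (V ≃ₗ[ZMod p] V))) : σ ⟨y, hy.1⟩ = 1 := by
  rw [hK.cen]
  intro x hx
  exact (Subgroup.mem_centralizer_iff.1 hy.2 x hx).symm

theorem cent_normal (hnA : ∀ g ∈ G, ∀ a ∈ A, g * a * g⁻¹ ∈ A) : ∀ g ∈ G,
    ∀ c ∈ G ⊓ Subgroup.centralizer (A : Set (V ≃ₗ[ZMod p] V)),
    g * c * g⁻¹ ∈ G ⊓ Subgroup.centralizer (A : Set (V ≃ₗ[ZMod p] V)) := by
  intro g hg c hc
  refine ⟨G.mul_mem (G.mul_mem hg hc.1) (G.inv_mem hg), ?_⟩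
  change g * c * g⁻¹ ∈ Subgroup.centralizer (A : Set (V ≃ₗ[ZMod p] V))
  rw [Subgroup.mem_centralizer_iff]
  intro x hx
  have h1 := hnA g⁻¹ (G.inv_mem hg) x hx
  have h2 := Subgroup.mem_centralizer_iff.1 hc.2 _ h1
  calc x * (g * c * g⁻¹) = g * ((g⁻¹ * x * g⁻¹⁻¹) * c) * g⁻¹ := by group
    _ = g * (c * (g⁻¹ * x * g⁻¹⁻¹)) * g⁻¹ := by rw [h2]
    _ = (g * c * g⁻¹) * x := by group

theorem three_cycle : ∀ t : Equiv.Perm (Fin 3), t ^ 3 = 1 → t ≠ 1 →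
    t = finRotate 3 ∨ t⁻¹ = finRotate 3 := by decide

/-- an element of `A` whose `p`-th power is `1` -/
theorem eq_one_of_pow (hA : ¬ p ∣ Nat.card A) {a : V ≃ₗ[ZMod p] V} (ha : a ∈ A) (h1 : a ^ p = 1) : a = 1 := by
  have h2 : orderOf (⟨a, ha⟩ : A) ∣ p := orderOf_dvd_of_pow_eq_one (Subtype.ext h1)
  rcases (Nat.dvd_prime (Fact.out : p.Prime)).1 h2 with h3 | h3
  · exact congrArg Subtype.val (orderOf_eq_one_iff.1 h3)
  · have h4 := orderOf_dvd_natCard (⟨a, ha⟩ : A)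
    rw [h3] at h4
    exact absurd h4 hA

/-- **the linear case** -/
theorem etwo_lin [Nontrivial V] (E : ETwo G A F) (hK : KS G A K χ σ) (hh : Half G h) (hp : 3 ≤ p)
    (hd : p ∣ Nat.card (G ⊓ Subgroup.centralizer (A : Set (V ≃ₗ[ZMod p] V)) :
      Subgroup (V ≃ₗ[ZMod p] V))) : Tra G := by
  obtain ⟨ρ, n, R⟩ := exists_rho E
  have hAcop : ¬ p ∣ Nat.card A := cop_of_semi E.semi
  have hP := pex_of_normal hh (inf_le_left : G ⊓ Subgroup.centralizer (A : Set (V ≃ₗ[ZMod p] V)) ≤ G)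
    (cent_normal E.nA)
  have hfix : ∀ v : V, v ≠ 0 → ∃ y : G, orderOf y = p ∧ σ y = 1 ∧ (y : V ≃ₗ[ZMod p] V) v = v := by
    intro v hv
    obtain ⟨y, hy, hyo, hyv⟩ := hP.exists_fix hd hv
    exact ⟨⟨y, hy.1⟩, by rw [Subgroup.orderOf_mk, hyo], sigma_one hK hy, hyv⟩
  -- `p = 3`
  have hρ : ∀ y : G, orderOf y = p → σ y = 1 → (∃ v : V, v ≠ 0 ∧ (y : V ≃ₗ[ZMod p] V) v = v) → ρ y ≠ 1 :=
    fun y h1 h2 h3 => rho_ne_one R E hK Fact.out (by omega) h1 h3 h2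
  obtain ⟨v₀, hv₀⟩ := exists_ne (0 : V)
  have hp3 : p = 3 := by
    obtain ⟨y, hyo, hys, hyv⟩ := hfix v₀ hv₀
    have h1 := hρ y hyo hys ⟨v₀, hv₀, hyv⟩
    have h2 : (ρ y) ^ p = 1 := by rw [← map_pow, powo hyo, map_one]
    have h3 : (ρ y) ^ 6 = 1 := by
      have : (ρ y) ^ Nat.card (Equiv.Perm (Fin 3)) = 1 := pow_card_eq_one'
      rwa [Nat.card_perm, Nat.card_fin] at this
    have h4 : orderOf (ρ y) ∣ p := orderOf_dvd_of_pow_eq_one h2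
    rcases (Nat.dvd_prime (Fact.out : p.Prime)).1 h4 with h5 | h5
    · exact absurd (orderOf_eq_one_iff.1 h5) h1
    · have h6 : p ∣ 6 := h5 ▸ orderOf_dvd_of_pow_eq_one h3
      have h7 : p ≤ 6 := Nat.le_of_dvd (by norm_num) h6
      interval_cases p
      · rfl
      · omega
      · omega
      · exact absurd (Fact.out : Nat.Prime 6) (by norm_num)
  -- `ρ y` is a fixed three-cycle
  have hcov : ∀ v : V, v ≠ 0 → ∃ y : G, (orderOf y = 3 ∧ σ y = 1 ∧ ρ y = finRotate 3 ∧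
      ∃ v : V, v ≠ 0 ∧ (y : V ≃ₗ[ZMod p] V) v = v) ∧ (y : V ≃ₗ[ZMod p] V) v = v := by
    intro v hv
    obtain ⟨y, hyo, hys, hyv⟩ := hfix v hv
    have h1 := hρ y hyo hys ⟨v, hv, hyv⟩
    have h2 : (ρ y) ^ 3 = 1 := by rw [← map_pow, powo (hyo.trans hp3), map_one]
    rcases three_cycle _ h2 h1 with h3 | h3
    · exact ⟨y, ⟨by rw [hyo, hp3], hys, h3, v, hv, hyv⟩, hyv⟩
    · have hyv' : ((y⁻¹ : G) : V ≃ₗ[ZMod p] V) v = v := by
        conv_lhs => rw [← hyv]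
        change ((y : V ≃ₗ[ZMod p] V)⁻¹ * (y : V ≃ₗ[ZMod p] V)) v = v
        rw [inv_mul_cancel]; rfl
      exact ⟨y⁻¹, ⟨by rw [orderOf_inv, hyo, hp3], by rw [map_inv, hys, inv_one], by rw [map_inv, h3], v, hv, hyv'⟩,
        hyv'⟩
  -- at most four elements
  have hB : Nat.card {y : G // orderOf y = 3 ∧ σ y = 1 ∧ ρ y = finRotate 3 ∧
      ∃ v : V, v ≠ 0 ∧ (y : V ≃ₗ[ZMod p] V) v = v} ≤ 4 := by
    obtain ⟨y₀, ⟨hy1, hy2, hy3, hy4⟩, -⟩ := hcov v₀ hv₀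
    have h1 := R.card_le_four E (S := fun y : G => orderOf y = 3 ∧ σ y = 1 ∧ ρ y = finRotate 3 ∧
      ∃ v : V, v ≠ 0 ∧ (y : V ≃ₗ[ZMod p] V) v = v) y₀ (fun y hy => R.inv_mul_mem E hK (hy3.trans hy.2.2.1.symm)
        (hy2.trans hy.2.1.symm)) 1 (fun y₁ hy₁ => by
      rw [Finite.card_le_one_iff_subsingleton]
      refine ⟨fun a b => ?_⟩
      have key : ∀ y : G, orderOf y = 3 → (y₁ : V ≃ₗ[ZMod p] V)⁻¹ * (y : V ≃ₗ[ZMod p] V) ∈ A → y = y₁ := by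
        intro y hyo hyA
        have hc : Commute (y₁ : V ≃ₗ[ZMod p] V) ((y₁ : V ≃ₗ[ZMod p] V)⁻¹ * (y : V ≃ₗ[ZMod p] V)) :=
          (hK.cen y₁).1 hy₁.2.1 _ hyA
        have e1 : (y : V ≃ₗ[ZMod p] V) = (y₁ : V ≃ₗ[ZMod p] V) * ((y₁ : V ≃ₗ[ZMod p] V)⁻¹ *
          (y : V ≃ₗ[ZMod p] V)) := by group
        have e2 : (y : V ≃ₗ[ZMod p] V) ^ p = 1 := powo' (hyo.trans hp3.symm)
        have e3 : (y₁ : V ≃ₗ[ZMod p] V) ^ p = 1 := powo' (hy₁.1.trans hp3.symm)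
        rw [e1, hc.mul_pow, e3, one_mul] at e2
        have e4 := eq_one_of_pow hAcop hyA e2
        have e5 : (y : V ≃ₗ[ZMod p] V) = y₁ := by rw [e1, e4, mul_one]
        exact Subtype.ext e5
      exact Subtype.ext ((key a.1 a.2.1.1 a.2.2).trans (key b.1 b.2.1.1 b.2.2).symm))
    exact h1
  have hw : ∀ y : G, (orderOf y = 3 ∧ σ y = 1 ∧ ρ y = finRotate 3 ∧
      ∃ v : V, v ≠ 0 ∧ (y : V ≃ₗ[ZMod p] V) v = v) →
      Nat.card (fx (y : V ≃ₗ[ZMod p] V)) ≤ Nat.sqrt (Nat.card V) := by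
    intro y hy
    have h1 := card_three' E hK hp hy.1 hy.2.2.2 hy.2.1
    rw [pow_two] at h1
    exact Nat.le_sqrt.2 h1
  have h9 : Nat.card V ≤ 9 := by
    have h1 := cover hcov hB hw
    have h2 := Nat.sqrt_le (Nat.card V)
    have h3 : Nat.sqrt (Nat.card V) ≤ 3 := by
      by_contra hc
      push Not at hc
      obtain ⟨k, hk⟩ := Nat.exists_eq_add_of_le hc
      rw [hk] at h1 h2
      have h4 : 4 * (3 + 1 + k - 1) + 1 = 4 * k + 13 := by omega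
      rw [h4] at h1
      nlinarith
    have h4 : 4 * (Nat.sqrt (Nat.card V) - 1) ≤ 8 := by omega
    omega
  -- conclusion
  obtain ⟨m, hm, hm0⟩ := exists_m hh ⟨v₀, hv₀⟩
  have h0 := h_pos hh hv₀
  obtain ⟨y, ⟨hyo, -, -, -⟩, -⟩ := hcov v₀ hv₀
  obtain ⟨u, hu⟩ : ∃ u : V, (y : V ≃ₗ[ZMod p] V) u ≠ u := by
    by_contra hc
    push Not at hc
    have h1 : y = 1 := Subtype.ext (LinearEquiv.ext hc)
    rw [h1, orderOf_one] at hyo
    omega
  have h6 := six_le hh h0 hm hp (E.FG (E.AF (ng_mem E))) y.2 (powo' hyo) hu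
  refine tra_of_card hh h0 hm ?_
  obtain ⟨k, hk⟩ := dvd_card_sub_one hh h0 hm
  have hk1 : k ≤ 1 := by
    by_contra hc
    push Not at hc
    have : m * 2 ≤ m * k := Nat.mul_le_mul_left m hc
    omega
  have : m * k ≤ m * 1 := Nat.mul_le_mul_left m hk1
  omega

/-- an element of `C_G(A)` has order dividing `|C_G(A)|` -/
theorem order_dvd (hK : KS G A K χ σ) {y : G} (hy : σ y = 1) :
    orderOf y ∣ Nat.card (G ⊓ Subgroup.centralizer (A : Set (V ≃ₗ[ZMod p] V)) :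
      Subgroup (V ≃ₗ[ZMod p] V)) := by
  have h1 : (y : V ≃ₗ[ZMod p] V) ∈ G ⊓ Subgroup.centralizer (A : Set (V ≃ₗ[ZMod p] V)) := by
    refine ⟨y.2, ?_⟩
    change (y : V ≃ₗ[ZMod p] V) ∈ Subgroup.centralizer (A : Set (V ≃ₗ[ZMod p] V))
    rw [Subgroup.mem_centralizer_iff]
    intro x hx
    exact ((hK.cen y).1 hy x hx).symm
  have h2 := orderOf_dvd_natCard (⟨y, h1⟩ : (G ⊓ Subgroup.centralizer (A : Set (V ≃ₗ[ZMod p] V)) :
      Subgroup (V ≃ₗ[ZMod p] V)))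
  rwa [Subgroup.orderOf_mk, Subgroup.orderOf_coe] at h2

set_option maxRecDepth 100000 in
theorem transp : ∀ c : Equiv.Perm (Fin 3), c ≠ 1 → c ^ 3 ≠ 1 → ∃ i, ∀ g : Equiv.Perm (Fin 3), g i ≠ i →
    (c * (g * c * g⁻¹)) ^ 3 = 1 ∧ c * (g * c * g⁻¹) ≠ 1 := by decide

/-- if `3 ∤ |C_G(A)|` then `C_G(A)` acts trivially on `F / A` -/
theorem rho_triv {ρ : G →* Equiv.Perm (Fin 3)} {n : Fin 3 → (V ≃ₗ[ZMod p] V)} (R : Rho G A F ρ n)
    (hK : KS G A K χ σ)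
    (hd : ¬ 3 ∣ Nat.card (G ⊓ Subgroup.centralizer (A : Set (V ≃ₗ[ZMod p] V)) :
      Subgroup (V ≃ₗ[ZMod p] V))) {c : G} (hc : σ c = 1) : ρ c = 1 := by
  have key : ∀ z : G, σ z = 1 → (ρ z) ^ 3 = 1 → ρ z = 1 := by
    intro z hz h3
    by_contra h1
    apply hd
    have h4 : orderOf (ρ z) = 3 := orderOf_eq_prime h3 h1
    rw [← h4]
    exact (orderOf_map_dvd ρ z).trans (order_dvd hK hz)
  by_contra h1
  have h3 : (ρ c) ^ 3 ≠ 1 := fun h => h1 (key c hc h)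
  obtain ⟨i, hi⟩ := transp _ h1 h3
  obtain ⟨g, hg⟩ := R.fpf i
  obtain ⟨h4, h5⟩ := hi _ hg
  apply h5
  have h6 : ρ (c * (g * c * g⁻¹)) = ρ c * (ρ g * ρ c * (ρ g)⁻¹) := by
    rw [map_mul, map_mul, map_mul, map_inv]
  rw [← h6]
  refine key _ ?_ ?_
  · rw [map_mul, map_mul, map_mul, map_inv, hc, mul_one, mul_inv_cancel, mul_one]
  · rw [h6]; exact h4

theorem pow_mem_of_cyclic {Γ : Type*} [Group Γ] [Finite Γ] [IsCyclic Γ] {r : ℕ} (hr : r.Prime) {s t : Γ}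
    (hs : s ^ r = 1) (ht : t ^ r = 1) (ht1 : t ≠ 1) : ∃ i : ℕ, t ^ i = s := by
  haveI := Fintype.ofFinite Γ
  have h1 := IsCyclic.card_pow_eq_one_le (α := Γ) hr.pos
  have ho : orderOf t = r := by
    haveI := Fact.mk hr
    exact orderOf_eq_prime ht ht1
  let T : Finset Γ := (Finset.range r).image (fun i => t ^ i)
  have hT : T.card = r := by
    rw [Finset.card_image_of_injOn, Finset.card_range]
    intro i hi j hj hij
    have hi' := Finset.mem_range.1 (Finset.mem_coe.1 hi)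
    have hj' := Finset.mem_range.1 (Finset.mem_coe.1 hj)
    exact pow_injOn_Iio_orderOf (by rw [ho]; exact hi') (by rw [ho]; exact hj') hij
  have hsub : T ⊆ Finset.univ.filter (fun x : Γ => x ^ r = 1) := by
    intro x hx
    obtain ⟨i, -, rfl⟩ := Finset.mem_image.1 hx
    refine Finset.mem_filter.2 ⟨Finset.mem_univ _, ?_⟩
    rw [← pow_mul, mul_comm, pow_mul, ht, one_pow]
  have h2 := Finset.eq_of_subset_of_card_le hsub (by rw [hT]; exact h1)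
  have h3 : s ∈ T := by
    rw [h2]
    exact Finset.mem_filter.2 ⟨Finset.mem_univ _, hs⟩
  obtain ⟨i, -, hi⟩ := Finset.mem_image.1 h3
  exact ⟨i, hi⟩

/-- all elements of order `p` are semilinear: after a choice of the image in `Aut K` -/
theorem exists_semi [Nontrivial V] (hK : KS G A K χ σ) (hh : Half G h) (hG : p ∣ Nat.card G)
    (hd : ¬ p ∣ Nat.card (G ⊓ Subgroup.centralizer (A : Set (V ≃ₗ[ZMod p] V)) :
      Subgroup (V ≃ₗ[ZMod p] V))) : ∃ s : K ≃+* K, s ≠ 1 ∧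
      ∀ v : V, v ≠ 0 → ∃ y : G, (y ^ p = 1 ∧ σ y = s) ∧ (y : V ≃ₗ[ZMod p] V) v = v := by
  haveI := finite_aut hK
  haveI := hK.fin
  haveI hc : IsCyclic (K ≃+* K) := isCyclic_ringAut' K
  have hP : PEx G := pex_of_normal hh le_rfl (fun g hg n hn => G.mul_mem (G.mul_mem hg hn) (G.inv_mem hg))
  have hfix : ∀ v : V, v ≠ 0 → ∃ y : G, y ^ p = 1 ∧ σ y ≠ 1 ∧ (y : V ≃ₗ[ZMod p] V) v = v := by
    intro v hv
    obtain ⟨y, hy, hyo, hyv⟩ := hP.exists_fix hG hv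
    have ho : orderOf (⟨y, hy⟩ : G) = p := by rw [Subgroup.orderOf_mk, hyo]
    refine ⟨⟨y, hy⟩, powo ho, fun h1 => ?_, hyv⟩
    apply hd
    have := order_dvd hK h1
    rwa [ho] at this
  obtain ⟨v₀, hv₀⟩ := exists_ne (0 : V)
  obtain ⟨y₀, hy1, hy2, hy3⟩ := hfix v₀ hv₀
  refine ⟨σ y₀, hy2, ?_⟩
  intro v hv
  obtain ⟨y, h1, h2, h3⟩ := hfix v hv
  obtain ⟨i, hi⟩ := pow_mem_of_cyclic (Fact.out : p.Prime) (s := σ y₀) (t := σ y)
    (by rw [← map_pow, hy1, map_one]) (by rw [← map_pow, h1, map_one]) h2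
  refine ⟨y ^ i, ⟨by rw [← pow_mul, mul_comm, pow_mul, h1, one_pow], by rw [map_pow, hi]⟩, ?_⟩
  have : ∀ j : ℕ, ((y : V ≃ₗ[ZMod p] V) ^ j) v = v := by
    intro j
    induction j with
    | zero => rfl
    | succ j ih =>
      rw [pow_succ]
      change ((y : V ≃ₗ[ZMod p] V) ^ j) ((y : V ≃ₗ[ZMod p] V) v) = v
      rw [h3, ih]
  exact this i

/-- fixed spaces of the semilinear elements -/
theorem card_fx_semi [Nontrivial V] (hK : KS G A K χ σ) {r : ℕ} (hr : r.Prime) {y : G} (h1 : y ^ r = 1)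
    (h2 : σ y ≠ 1) : Nat.card (fx (y : V ≃ₗ[ZMod p] V)) ^ r ≤ Nat.card V := by
  haveI := hK.fin
  have hit : ∀ (g : V ≃ₗ[ZMod p] V) (k : ℕ) (v : V), (fun w : V => g w)^[k] v = (g ^ k) v := by
    intro g k v
    induction k with
    | zero => rfl
    | succ k ih =>
      rw [Function.iterate_succ', Function.comp_apply, ih, pow_succ']
      rfl
  have h3 := Cfsg.Agent.H528.HT.card_fix_semi' (K := K) (W := V) (σ y) h2 hr
    (y : V ≃ₗ[ZMod p] V).toAddEquiv (fun k w => hK.semi y k w) (fun w => by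
      have := hit (y : V ≃ₗ[ZMod p] V) r w
      rw [show (y : V ≃ₗ[ZMod p] V) ^ r = 1 from congrArg Subtype.val h1] at this
      exact this)
  have h4 : Nat.card {w : V // (y : V ≃ₗ[ZMod p] V).toAddEquiv w = w} =
      Nat.card (fx (y : V ≃ₗ[ZMod p] V)) :=
    Nat.card_congr (Equiv.subtypeEquivRight fun v => mem_fx.symm)
  rwa [h4] at h3

/-- `|K|` is a `p`-th power -/
theorem exists_q0 [Nontrivial V] (hK : KS G A K χ σ) {r : ℕ} (hr : r.Prime) {y : G} (h1 : y ^ r = 1)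
    (h2 : σ y ≠ 1) : ∃ q₀ : ℕ, 2 ≤ q₀ ∧ Nat.card K = q₀ ^ r := by
  haveI := hK.fin
  have hit : ∀ (g : V ≃ₗ[ZMod p] V) (k : ℕ) (v : V), (fun w : V => g w)^[k] v = (g ^ k) v := by
    intro g k v
    induction k with
    | zero => rfl
    | succ k ih =>
      rw [Function.iterate_succ', Function.comp_apply, ih, pow_succ']
      rfl
  obtain ⟨q₀, hq1, hq2, -⟩ := Cfsg.Agent.H528.HT.card_norm_semi' (K := K) (W := V) (σ y) h2 hr
    (y : V ≃ₗ[ZMod p] V).toAddEquiv (fun k w => hK.semi y k w) (fun w => by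
      have := hit (y : V ≃ₗ[ZMod p] V) r w
      rw [show (y : V ≃ₗ[ZMod p] V) ^ r = 1 from congrArg Subtype.val h1] at this
      exact this)
  exact ⟨q₀, hq1, hq2⟩

/-- `p ∣ |K|` -/
theorem p_dvd_K [Nontrivial V] (hK : KS G A K χ σ) : p ∣ Nat.card K := by
  haveI := hK.fin
  haveI : Module.Finite K V := Module.Finite.of_finite
  have h1 : Nat.card V = Nat.card K ^ Module.finrank K V := Module.natCard_eq_pow_finrank
  have h2 : p ∣ Nat.card V := by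
    rw [card_eq_pow (p := p) V]
    exact dvd_pow_self p (Module.finrank_pos (R := ZMod p) (M := V)).ne'
  rw [h1] at h2
  exact (Fact.out : p.Prime).dvd_of_dvd_pow h2

/-- two linear maps which do not commute: `|K|² ≤ |V|` -/
theorem K_sq_le [Nontrivial V] (hK : KS G A K χ σ) {x y : G} (hx : σ x = 1) (hy : σ y = 1)
    (hxy : (x : V ≃ₗ[ZMod p] V) * y ≠ y * x) : 2 ≤ Module.finrank K V := by
  haveI := hK.fin
  haveI : Module.Finite K V := Module.Finite.of_finite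
  by_contra hc
  have h0 : 0 < Module.finrank K V := Module.finrank_pos
  have h1 : Module.finrank K V = 1 := by omega
  obtain ⟨v₀, hv₀⟩ := exists_ne (0 : V)
  have hsp := (finrank_eq_one_iff_of_nonzero' v₀ hv₀).1 h1
  apply hxy
  obtain ⟨a, ha⟩ := hsp ((x : V ≃ₗ[ZMod p] V) v₀)
  obtain ⟨b, hb⟩ := hsp ((y : V ≃ₗ[ZMod p] V) v₀)
  have hlx : ∀ (k : K) (v : V), (x : V ≃ₗ[ZMod p] V) (k • v) = k • (x : V ≃ₗ[ZMod p] V) v := by
    intro k v; rw [hK.semi, hx]; rfl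
  have hly : ∀ (k : K) (v : V), (y : V ≃ₗ[ZMod p] V) (k • v) = k • (y : V ≃ₗ[ZMod p] V) v := by
    intro k v; rw [hK.semi, hy]; rfl
  apply LinearEquiv.ext
  intro v
  obtain ⟨c, rfl⟩ := hsp v
  change (x : V ≃ₗ[ZMod p] V) ((y : V ≃ₗ[ZMod p] V) (c • v₀)) = (y : V ≃ₗ[ZMod p] V) ((x : V ≃ₗ[ZMod p] V) (c • v₀))
  rw [hly, hlx, hlx, hly, ← ha, ← hb, hlx, hly, ← ha, ← hb, smul_comm a b v₀]

theorem num3 {q X : ℕ} (hq : 3 ≤ q) (hX : q ^ 2 ≤ X) (h : X ^ 3 ≤ (q ^ 2 + q + 1) * 4 * (X - 1) + 1) : False := by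
  obtain ⟨a, rfl⟩ := Nat.exists_eq_add_of_le hq
  have h9 : 9 ≤ X := le_trans (by nlinarith) hX
  obtain ⟨Y, rfl⟩ := Nat.exists_eq_add_of_le h9
  have e : 9 + Y - 1 = 8 + Y := by omega
  rw [e] at h
  have h1 : ((3 + a) ^ 2 + (3 + a) + 1) * 4 ≤ 6 * (9 + Y) := by nlinarith
  have h2 : ((3 + a) ^ 2 + (3 + a) + 1) * 4 * (8 + Y) ≤ 6 * (9 + Y) * (8 + Y) := Nat.mul_le_mul_right _ h1
  nlinarith [sq_nonneg Y]

theorem num5 {p q X : ℕ} (hp : 5 ≤ p) (hq : 5 ≤ q) (hX : q ^ 2 ≤ X) (h : X ^ p ≤ q ^ p * 24 * (X - 1) + 1) :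
    False := by
  obtain ⟨r, rfl⟩ := Nat.exists_eq_add_of_le hp
  have hX1 : 1 ≤ X := le_trans (by nlinarith) hX
  -- `X ^ (p - 1) ≤ 24 q ^ p`
  have h1 : q ^ (5 + r) * 24 * (X - 1) + 1 ≤ q ^ (5 + r) * 24 * X := by
    have h2 : 1 ≤ q ^ (5 + r) * 24 := by
      have : 0 < q ^ (5 + r) := pow_pos (by omega) _
      omega
    have h3 : q ^ (5 + r) * 24 * X = q ^ (5 + r) * 24 * (X - 1) + q ^ (5 + r) * 24 := by
      rw [← Nat.mul_succ]; congr 1; omega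
    omega
  have h2 : X ^ (4 + r) * X ≤ q ^ (5 + r) * 24 * X := by
    rw [← pow_succ, show 4 + r + 1 = 5 + r by ring]
    exact h.trans h1
  have h3 : X ^ (4 + r) ≤ q ^ (5 + r) * 24 := Nat.le_of_mul_le_mul_right h2 hX1
  have h4 : (q ^ 2) ^ (4 + r) ≤ X ^ (4 + r) := Nat.pow_le_pow_left hX _
  have h5 : (q ^ 2) ^ (4 + r) = q ^ (5 + r) * q ^ (3 + r) := by rw [← pow_mul, ← pow_add]; congr 1; ring
  have h6 : q ^ (3 + r) ≤ 24 := by
    have h7 : q ^ (5 + r) * q ^ (3 + r) ≤ q ^ (5 + r) * 24 := by rw [← h5]; exact h4.trans h3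
    exact Nat.le_of_mul_le_mul_left h7 (pow_pos (by omega) _)
  have h7 : 5 ^ 3 ≤ q ^ 3 := Nat.pow_le_pow_left hq 3
  have h8 : q ^ 3 ≤ q ^ (3 + r) := Nat.pow_le_pow_right (by omega) (by omega)
  omega

/-- **the semilinear case** -/
theorem etwo_semi [Nontrivial V] (E : ETwo G A F) (hK : KS G A K χ σ) (hh : Half G h) (hp : 3 ≤ p)
    (hG : p ∣ Nat.card G)
    (hd : ¬ p ∣ Nat.card (G ⊓ Subgroup.centralizer (A : Set (V ≃ₗ[ZMod p] V)) :
      Subgroup (V ≃ₗ[ZMod p] V))) : False := by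
  obtain ⟨ρ, n, R⟩ := exists_rho E
  haveI := hK.fin
  haveI : Module.Finite K V := Module.Finite.of_finite
  obtain ⟨s, hs, hcov⟩ := exists_semi hK hh hG hd
  have hpp : p.Prime := Fact.out
  obtain ⟨v₀, hv₀⟩ := exists_ne (0 : V)
  obtain ⟨y₀, ⟨hy1, hy2⟩, -⟩ := hcov v₀ hv₀
  obtain ⟨q₀, hq2, hqK⟩ := exists_q0 hK hpp hy1 (by rw [hy2]; exact hs)
  have hpq : p ≤ q₀ := by
    have h1 := p_dvd_K hK
    rw [hqK] at h1
    exact Nat.le_of_dvd (by omega) (hpp.dvd_of_dvd_pow h1)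
  -- `|V| = X ^ p` with `X ≥ q₀²`
  have hd2 : 2 ≤ Module.finrank K V := by
    obtain ⟨x, hx, y, hy, hxA, hyA, hxy⟩ := exists_pair E
    have h1 := Cfsg.Agent.H583.HT.anti E hx hy hxA hyA hxy
    refine K_sq_le hK (x := ⟨x, E.FG hx⟩) (y := ⟨y, E.FG hy⟩) (sigma_of_mem E hK hx) (sigma_of_mem E hK hy) ?_
    intro h2
    have h2' : x * y = y * x := h2
    rw [h2'] at h1
    have h3 : ng p V = 1 := by
      have := h1.symm
      exact mul_eq_right.1 this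
    have h4 : -v₀ = v₀ := by
      have := LinearEquiv.congr_fun h3 v₀
      exact this
    have h5 : (2 : ZMod p) • v₀ = 0 := by
      rw [two_smul]
      nth_rewrite 1 [← h4]
      exact neg_add_cancel v₀
    exact ((smul_eq_zero.1 h5).resolve_left (two_ne' hp)) |> hv₀
  set X := q₀ ^ Module.finrank K V with hX
  have hVX : Nat.card V = X ^ p := by
    have h1 : Nat.card V = Nat.card K ^ Module.finrank K V := Module.natCard_eq_pow_finrank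
    rw [h1, hqK, hX, ← pow_mul, ← pow_mul, mul_comm]
  have hXq : q₀ ^ 2 ≤ X := Nat.pow_le_pow_right (by omega) hd2
  have hw : ∀ y : G, (y ^ p = 1 ∧ σ y = s) → Nat.card (fx (y : V ≃ₗ[ZMod p] V)) ≤ X := by
    intro y hy
    have h1 := card_fx_semi hK hpp hy.1 (by rw [hy.2]; exact hs)
    rw [hVX] at h1
    exact (Nat.pow_le_pow_iff_left hpp.ne_zero).1 h1
  -- one class
  have hfib : ∀ t : Equiv.Perm (Fin 3), Nat.card {y : G // (y ^ p = 1 ∧ σ y = s) ∧ ρ y = t} ≤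
      (q₀ ^ p - 1) / (q₀ - 1) * 4 := by
    intro t
    by_cases hne : ∃ y₁ : G, (y₁ ^ p = 1 ∧ σ y₁ = s) ∧ ρ y₁ = t
    · obtain ⟨y₁, h3, h4⟩ := hne
      refine R.card_le_four E (S := fun y : G => (y ^ p = 1 ∧ σ y = s) ∧ ρ y = t) y₁ ?_ _ ?_
      · intro y hy
        exact R.inv_mul_mem E hK (h4.trans hy.2.symm) (h3.2.trans hy.1.2.symm)
      · intro y₂ hy₂
        exact coset_semi' E hK hpp hqK (S := fun y : G => (y ^ p = 1 ∧ σ y = s) ∧ ρ y = t)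
          (fun y hy => ⟨hy.1.1, by rw [hy.1.2]; exact hs⟩) hy₂
    · have : IsEmpty {y : G // (y ^ p = 1 ∧ σ y = s) ∧ ρ y = t} := ⟨fun y => hne ⟨y.1, y.2⟩⟩
      rw [Nat.card_of_isEmpty]
      exact Nat.zero_le _
  rcases Nat.lt_or_ge p 5 with hp5 | hp5
  · -- `p = 3`
    have hp3 : p = 3 := by
      interval_cases p
      · rfl
      · exact absurd hpp (by norm_num)
    have hρ : ∀ y : G, (y ^ p = 1 ∧ σ y = s) → ρ y = ρ y₀ := by
      intro y hy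
      have h1 := rho_triv R hK (c := y₀⁻¹ * y) (by rw [← hp3]; exact hd) (by
        rw [map_mul, map_inv, hy.2, hy2, inv_mul_cancel])
      rw [map_mul, map_inv] at h1
      exact (inv_mul_eq_one.1 h1).symm
    have hB : Nat.card {y : G // y ^ p = 1 ∧ σ y = s} ≤ (q₀ ^ p - 1) / (q₀ - 1) * 4 := by
      refine le_trans (Nat.card_le_card_of_injective (fun y : {y : G // y ^ p = 1 ∧ σ y = s} =>
        (⟨y.1, y.2, hρ y.1 y.2⟩ : {y : G // (y ^ p = 1 ∧ σ y = s) ∧ ρ y = ρ y₀})) ?_) (hfib (ρ y₀))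
      intro a b hab
      have := congrArg (fun z : {y : G // (y ^ p = 1 ∧ σ y = s) ∧ ρ y = ρ y₀} => z.1) hab
      exact Subtype.ext this
    have h1 := cover hcov hB hw
    have hdiv : (q₀ ^ p - 1) / (q₀ - 1) = q₀ ^ 2 + q₀ + 1 := by
      rw [hp3]
      obtain ⟨k, rfl⟩ := Nat.exists_eq_add_of_le' (show 1 ≤ q₀ by omega)
      have h1 : (k + 1) ^ 3 - 1 = k * ((k + 1) ^ 2 + (k + 1) + 1) := by
        rw [show (k + 1) ^ 3 = k * ((k + 1) ^ 2 + (k + 1) + 1) + 1 by ring]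
        rfl
      rw [h1, Nat.add_sub_cancel, Nat.mul_div_cancel_left _ (by omega)]
    rw [hVX, hdiv] at h1
    have h1' : X ^ 3 ≤ (q₀ ^ 2 + q₀ + 1) * 4 * (X - 1) + 1 := by rw [hp3] at h1; exact h1
    exact num3 (hp.trans hpq) hXq h1'
  · have h2 : Nat.card {y : G // y ^ p = 1 ∧ σ y = s} ≤ (q₀ ^ p - 1) / (q₀ - 1) * 4 *
        (Finset.univ : Finset (Equiv.Perm (Fin 3))).card :=
      card_le_mul_of (S := fun y : G => y ^ p = 1 ∧ σ y = s) (fun y => ρ y) Finset.univ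
        (fun y hy => Finset.mem_univ _) _ (fun b _ => hfib b)
    have h3 : (Finset.univ : Finset (Equiv.Perm (Fin 3))).card = 6 := by decide
    rw [h3] at h2
    have h4 : (q₀ ^ p - 1) / (q₀ - 1) * 4 * 6 ≤ q₀ ^ p * 24 := by
      have h5 : (q₀ ^ p - 1) / (q₀ - 1) ≤ q₀ ^ p := (Nat.div_le_self _ _).trans (Nat.sub_le _ _)
      calc (q₀ ^ p - 1) / (q₀ - 1) * 4 * 6 = (q₀ ^ p - 1) / (q₀ - 1) * 24 := by ring
        _ ≤ q₀ ^ p * 24 := Nat.mul_le_mul_right _ h5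
    have h1 := cover hcov (h2.trans h4) hw
    rw [hVX] at h1
    exact num5 hp5 (hp5.trans hpq) hXq h1

/-- **the case `e = 2`** -/
theorem etwo_tra [Nontrivial V] (E : ETwo G A F) (hK : KS G A K χ σ) (hh : Half G h) (hp : 3 ≤ p)
    (hG : p ∣ Nat.card G) : Tra G := by
  by_cases hd : p ∣ Nat.card (G ⊓ Subgroup.centralizer (A : Set (V ≃ₗ[ZMod p] V)) :
      Subgroup (V ≃ₗ[ZMod p] V))
  · exact etwo_lin E hK hh hp hd
  · exact (etwo_semi E hK hh hp hG hd).elim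

end ks

end Cfsg.Agent.H19.HT
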