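import Cfsg.Agent.H19.HT.Gen
import Cfsg.Agent.H828.HT.Basic

/-!
# Half-transitive linear groups of order divisible by `p` are irreducible (S3512)
-/

set_option autoImplicit false

open scoped Classical
open Cfsg.Agent.H828.HT

namespace Cfsg.Agent.H19.HT

universe u

variable {p : ℕ} [Fact p.Prime] {V : Type u} [AddCommGroup V] [Module (ZMod p) V] [Finite V]
  {G : Subgroup (V ≃ₗ[ZMod p] V)} {h : ℕ}

theorem h_pos (hh : Half G h) {v : V} (hv : v ≠ 0) : 0 < h := by
  rw [← hh v hv]; exact Nat.card_pos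

theorem h_dvd (hh : Half G h) {v : V} (hv : v ≠ 0) : h ∣ Nat.card G := by
  rw [← hh v hv]; exact Subgroup.card_subgroup_dvd_card _

/-- `p ∣ |G|` implies `p ∣ h` -/
theorem p_dvd_h (hh : Half G h) [Nontrivial V] (hp : p ∣ Nat.card G) : p ∣ h := by
  obtain ⟨v, hv⟩ := exists_ne (0 : V)
  have h1 := factorization_eq hh
  have h2 : 0 < (Nat.card G).factorization p :=
    (Fact.out : p.Prime).factorization_pos_of_dvd Nat.card_pos.ne' hp
  exact Nat.dvd_of_factorization_pos (by omega)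

/-- `m` is prime to `p` -/
theorem p_not_dvd_m (hh : Half G h) [Nontrivial V] {m : ℕ} (hm : m * h = Nat.card G) :
    ¬ p ∣ m := by
  obtain ⟨v, hv⟩ := exists_ne (0 : V)
  have h0 := h_pos hh hv
  have hm0 : m ≠ 0 := by
    rintro rfl
    rw [zero_mul] at hm
    exact Nat.card_pos.ne' hm.symm
  have h1 := factorization_eq hh
  rw [← hm, Nat.factorization_mul hm0 h0.ne', Finsupp.add_apply] at h1
  intro hd
  have := (Fact.out : p.Prime).factorization_pos_of_dvd hm0 hd
  omega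

/-- a subgroup `S` of `G` all of whose stabilisers on a set of `p`-power size have order `h` has order `h` -/
theorem card_eq_of_orbits (hh : Half G h) [Nontrivial V] (S : Subgroup G) {X : Type*} [Finite X]
    [MulAction S X] {k : ℕ} (hX : Nat.card X = p ^ k)
    (hst : ∀ x : X, Nat.card (MulAction.stabilizer S x) = h) : Nat.card S = h := by
  obtain ⟨v, hv⟩ := exists_ne (0 : V)
  have h0 := h_pos hh hv
  haveI : Nonempty X := by
    by_contra hc
    rw [not_nonempty_iff] at hc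
    rw [Nat.card_of_isEmpty] at hX
    exact (pow_pos (Fact.out : p.Prime).pos k).ne hX
  obtain ⟨x0⟩ := this
  set c := Nat.card (MulAction.orbit S x0) with hc
  have hor : ∀ x : X, Nat.card (MulAction.orbit S x) * h = Nat.card S := by
    intro x
    rw [← hst x]
    exact Nat.card_congr (MulAction.orbitProdStabilizerEquivGroup S x) ▸
      (Nat.card_prod _ _).symm
  have hc1 : c * h = Nat.card S := hor x0
  have hcX : c ∣ Nat.card X := by
    refine dvd_card_of_orbits (K := S) ?_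
    intro x
    exact Nat.eq_of_mul_eq_mul_right h0 ((hor x).trans hc1.symm)
  rw [hX] at hcX
  obtain ⟨j, -, hj⟩ := (Nat.dvd_prime_pow (Fact.out : p.Prime)).1 hcX
  have hSG : Nat.card S ∣ Nat.card G := Subgroup.card_subgroup_dvd_card _
  have h3 := (Nat.factorization_le_iff_dvd Nat.card_pos.ne' Nat.card_pos.ne').2 hSG p
  have hc0 : c ≠ 0 := by rw [hj]; exact (pow_pos (Fact.out : p.Prime).pos j).ne'
  rw [← hc1, Nat.factorization_mul hc0 h0.ne', Finsupp.add_apply, factorization_eq hh, hj,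
    (Fact.out : p.Prime).factorization_pow, Finsupp.single_eq_same] at h3
  have hj0 : j = 0 := by omega
  rw [← hc1, hj, hj0, pow_zero, one_mul]

/-- **R1.** A half-transitive linear group of order divisible by `p` is irreducible. -/
theorem irred (hh : Half G h) (hp : p ∣ Nat.card G) (W : Submodule (ZMod p) V)
    (hW : ∀ g ∈ G, ∀ w ∈ W, g w ∈ W) : W = ⊥ ∨ W = ⊤ := by
  by_contra hcon
  push Not at hcon
  obtain ⟨hb, ht⟩ := hcon
  obtain ⟨v, hv⟩ : ∃ v, v ∉ W := by
    by_contra hc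
    push Not at hc
    exact ht (eq_top_iff.2 fun v _ => hc v)
  obtain ⟨w0, hw0, hw0'⟩ := Submodule.exists_mem_ne_zero_of_ne_bot hb
  haveI : Nontrivial V := ⟨⟨w0, 0, hw0'⟩⟩
  have hv0 : v ≠ 0 := fun h => hv (h ▸ W.zero_mem)
  have h0 := h_pos hh hv0
  let S : Subgroup G :=
    { carrier := {g | (g : V ≃ₗ[ZMod p] V) v - v ∈ W}
      one_mem' := by
        change (1 : V ≃ₗ[ZMod p] V) v - v ∈ W
        rw [LinearEquiv.coe_one, id, sub_self]
        exact W.zero_mem
      mul_mem' := by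
        intro a b ha hb
        change (a : V ≃ₗ[ZMod p] V) ((b : V ≃ₗ[ZMod p] V) v) - v ∈ W
        have e : (a : V ≃ₗ[ZMod p] V) ((b : V ≃ₗ[ZMod p] V) v) - v =
            (a : V ≃ₗ[ZMod p] V) ((b : V ≃ₗ[ZMod p] V) v - v) +
              ((a : V ≃ₗ[ZMod p] V) v - v) := by
          rw [map_sub]; abel
        rw [e]
        exact W.add_mem (hW _ a.2 _ hb) ha
      inv_mem' := by
        intro a ha
        change ((a⁻¹ : G) : V ≃ₗ[ZMod p] V) v - v ∈ W
        have e : ((a⁻¹ : G) : V ≃ₗ[ZMod p] V) v - v =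
            - ((a⁻¹ : G) : V ≃ₗ[ZMod p] V) ((a : V ≃ₗ[ZMod p] V) v - v) := by
          rw [map_sub]
          have : ((a⁻¹ : G) : V ≃ₗ[ZMod p] V) ((a : V ≃ₗ[ZMod p] V) v) = v := by
            change ((a⁻¹ * a : G) : V ≃ₗ[ZMod p] V) v = v
            rw [inv_mul_cancel]; rfl
          rw [this]; abel
        rw [e]
        exact W.neg_mem (hW _ (a⁻¹ : G).2 _ ha) }
  have hS : ∀ g : G, g ∈ S ↔ (g : V ≃ₗ[ZMod p] V) v - v ∈ W := fun g => Iff.rfl
  let X := {u : V // u - v ∈ W}
  letI : MulAction S X :=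
    { smul := fun g u => ⟨((g : G) : V ≃ₗ[ZMod p] V) u.1, by
        have e : ((g : G) : V ≃ₗ[ZMod p] V) u.1 - v =
            ((g : G) : V ≃ₗ[ZMod p] V) (u.1 - v) + (((g : G) : V ≃ₗ[ZMod p] V) v - v) := by
          rw [map_sub]; abel
        rw [e]
        exact W.add_mem (hW _ (g : G).2 _ u.2) g.2⟩
      one_smul := fun u => Subtype.ext rfl
      mul_smul := fun a b u => Subtype.ext rfl }
  have hne : ∀ u : X, u.1 ≠ 0 := by
    intro u hu
    have := u.2
    rw [hu, zero_sub] at this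
    exact hv ((neg_mem_iff).1 this)
  have hle : ∀ u : X, MulAction.stabilizer G u.1 ≤ S := by
    intro u g hg
    rw [hS]
    have hg' : (g : V ≃ₗ[ZMod p] V) u.1 = u.1 := hg
    have e : (g : V ≃ₗ[ZMod p] V) v - v =
        (u.1 - v) - (g : V ≃ₗ[ZMod p] V) (u.1 - v) := by
      rw [map_sub, hg']; abel
    rw [e]
    exact W.sub_mem u.2 (hW _ g.2 _ u.2)
  have hst : ∀ u : X, Nat.card (MulAction.stabilizer S u) = h := by
    intro u
    rw [← hh u.1 (hne u)]
    refine Nat.card_congr ⟨fun g => ⟨g.1.1, ?_⟩, fun g => ⟨⟨g.1, hle u g.2⟩, ?_⟩, ?_, ?_⟩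
    · exact congrArg Subtype.val g.2
    · exact Subtype.ext g.2
    · intro g; rfl
    · intro g; rfl
  have hXc : Nat.card X = p ^ Module.finrank (ZMod p) W := by
    rw [← card_eq_pow (p := p) W]
    refine Nat.card_congr ⟨fun u => ⟨u.1 - v, u.2⟩, fun w => ⟨w.1 + v, by
      rw [add_sub_cancel_right]; exact w.2⟩, ?_, ?_⟩
    · intro u; exact Subtype.ext (sub_add_cancel _ _)
    · intro w; exact Subtype.ext (add_sub_cancel_right _ _)
  have hSh := card_eq_of_orbits hh S hXc hst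
  -- all stabilisers of vectors in `v + W` are `S`
  have hall : ∀ u : X, MulAction.stabilizer G u.1 = S :=
    fun u => Subgroup.eq_of_le_of_card_ge (hle u) (by rw [hSh, hh u.1 (hne u)])
  have h2 : 2 ≤ h := (Fact.out : p.Prime).two_le.trans (Nat.le_of_dvd h0 (p_dvd_h hh hp))
  obtain ⟨g0, hg0⟩ : ∃ g0 : S, g0 ≠ 1 := by
    haveI : Nontrivial S := by
      rw [← Finite.one_lt_card_iff_nontrivial, hSh]; omega
    exact exists_ne 1
  have hfix : W ≤ fx ((g0 : G) : V ≃ₗ[ZMod p] V) := by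
    intro w hw
    rw [mem_fx]
    have h3 : (g0 : G) ∈ MulAction.stabilizer G (v + w) := by
      rw [hall ⟨v + w, by rw [add_sub_cancel_left]; exact hw⟩]; exact g0.2
    have h4 : (g0 : G) ∈ MulAction.stabilizer G v := by
      rw [hall ⟨v, by rw [sub_self]; exact W.zero_mem⟩]; exact g0.2
    have h3' : ((g0 : G) : V ≃ₗ[ZMod p] V) (v + w) = v + w := h3
    have h4' : ((g0 : G) : V ≃ₗ[ZMod p] V) v = v := h4
    rw [map_add, h4'] at h3'
    exact add_left_cancel h3'
  obtain ⟨m, hm, hm0⟩ := exists_m hh ⟨v, hv0⟩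
  have h5 := fx_lt hh h0 hm (g₀ := (g0 : G)) (fun hc => hg0 (Subtype.ext hc))
  have h6 : Nat.card W ≤ Nat.card (fx ((g0 : G) : V ≃ₗ[ZMod p] V)) :=
    Nat.card_le_card_of_injective _ (Submodule.inclusion_injective hfix)
  have h7 := dvd_invariant hh h0 hm {w : V | w ∈ W ∧ w ≠ 0} (by simp) (by
    rintro g hg w ⟨hw, hw'⟩
    exact ⟨hW g hg w hw, by simpa using hw'⟩)
  have h8 : Nat.card {w : V | w ∈ W ∧ w ≠ 0} + 1 = Nat.card W := by
    have e : Nat.card {w : V | w ∈ W ∧ w ≠ 0} =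
        Nat.card {w : W // w ∈ Finset.univ.erase (0 : W)} := by
      refine Nat.card_congr ⟨fun w => ⟨⟨w.1, w.2.1⟩, ?_⟩, fun w => ⟨w.1.1, w.1.2, ?_⟩, ?_, ?_⟩
      · rw [Finset.mem_erase]
        exact ⟨fun hc => w.2.2 (congrArg Subtype.val hc), Finset.mem_univ _⟩
      · intro hc
        exact (Finset.mem_erase.1 w.2).1 (Subtype.ext hc)
      · intro w; rfl
      · intro w; rfl
    rw [e, Nat.card_eq_fintype_card, Fintype.card_coe,
      Finset.card_erase_of_mem (Finset.mem_univ _), Finset.card_univ, Nat.card_eq_fintype_card]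
    exact Nat.sub_add_cancel Fintype.card_pos
  have h9 : 0 < Nat.card {w : V | w ∈ W ∧ w ≠ 0} := by
    haveI : Nonempty {w : V | w ∈ W ∧ w ≠ 0} := ⟨⟨w0, hw0, hw0'⟩⟩
    exact Nat.card_pos
  have h10 := Nat.le_of_dvd h9 h7
  omega

end Cfsg.Agent.H19.HT
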