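import Cfsg.Agent.H19.HT.Irr
import Cfsg.Agent.H960.HT.Clif

/-!
# [T1]: subgroups of order divisible by `p` all of whose orbits have length prime to `p` (S3512)

If all orbits of `N` on non-zero vectors have length prime to `p` (e.g. `N` subnormal in a half-transitive
group) then elements of order `p` of `N` act trivially on an `N`-submodule `U` of which `V` contains a
second independent copy.  Hence homogeneous subnormal subgroups of order divisible by `p` are irreducible.
-/

set_option autoImplicit false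
set_option linter.style.haveILetI false
set_option linter.unusedSectionVars false

open scoped Classical
open Cfsg.Agent.H828.HT Cfsg.Agent.H960.HT

namespace Cfsg.Agent.H19.HT

universe u

variable {p : ℕ} [Fact p.Prime] {V : Type u} [AddCommGroup V] [Module (ZMod p) V] [Finite V]

/-- all orbits on non-zero vectors have length prime to `p` -/
def PEx (N : Subgroup (V ≃ₗ[ZMod p] V)) : Prop :=
  ∀ v : V, v ≠ 0 → ¬ p ∣ Nat.card (MulAction.orbit N v)

/-- **T1** -/
theorem t1 {N : Subgroup (V ≃ₗ[ZMod p] V)} (hN : PEx N) {U : Submodule (ZMod p) V}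
    (hU : ∀ n ∈ N, ∀ u ∈ U, n u ∈ U) (θ : U →ₗ[ZMod p] V)
    (hθ : ∀ n ∈ N, ∀ u w : U, (w : V) = n u → θ w = n (θ u))
    (hd : ∀ w : U, θ w ∈ U → w = 0) {g : V ≃ₗ[ZMod p] V} (hg : g ∈ N) (hgp : g ^ p = 1) :
    ∀ u ∈ U, g u = u := by
  by_contra hcon
  push Not at hcon
  obtain ⟨u₀, hu₀, hne⟩ := hcon
  -- `D = g - 1`
  let D : V →ₗ[ZMod p] V := (g : V →ₗ[ZMod p] V) - 1
  have hD : ∀ v, D v = g v - v := fun v => rfl
  have hDp : D ^ p = 0 := by
    have hc : Commute (g : V →ₗ[ZMod p] V) 1 := Commute.one_right _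
    haveI : CharP (Module.End (ZMod p) V) p := by
      haveI : Nontrivial V := ⟨⟨g u₀, u₀, hne⟩⟩
      exact charP_of_injective_algebraMap (algebraMap (ZMod p) (Module.End (ZMod p) V)).injective p
    have h1 : D ^ p = (g : Module.End (ZMod p) V) ^ p - 1 ^ p :=
      sub_pow_char_of_commute p hc
    have h2 : (g : Module.End (ZMod p) V) ^ p = ((g ^ p : V ≃ₗ[ZMod p] V) : Module.End (ZMod p) V) := by
      have : ∀ n : ℕ, (g : Module.End (ZMod p) V) ^ n =
          ((g ^ n : V ≃ₗ[ZMod p] V) : Module.End (ZMod p) V) := by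
        intro n
        induction n with
        | zero => rfl
        | succ n ih => rw [pow_succ, pow_succ, ih]; rfl
      exact this p
    rw [h1, h2, hgp, one_pow]
    exact sub_self _
  have hDU : ∀ n : ℕ, ∀ u ∈ U, (D ^ n) u ∈ U := by
    intro n
    induction n with
    | zero => intro u hu; exact hu
    | succ n ih =>
      intro u hu
      rw [pow_succ']
      change D ((D ^ n) u) ∈ U
      rw [hD]
      exact U.sub_mem (hU g hg _ (ih u hu)) (ih u hu)
  -- the least `k` killing `U`
  have hex : ∃ k : ℕ, ∀ u ∈ U, (D ^ k) u = 0 := ⟨p, fun u _ => by rw [hDp]; rfl⟩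
  set k := Nat.find hex with hk
  have hk1 : ∀ u ∈ U, (D ^ k) u = 0 := Nat.find_spec hex
  have hk2 : 2 ≤ k := by
    by_contra hlt
    push Not at hlt
    apply hne
    have h1 : (D ^ 1) u₀ = 0 := by
      rcases Nat.lt_or_ge k 1 with h | h
      · have h0 : k = 0 := by omega
        have h2 := hk1 u₀ hu₀
        rw [h0, pow_zero] at h2
        have h3 : u₀ = 0 := h2
        rw [h3, map_zero]
      · have h0 : k = 1 := by omega
        have h2 := hk1 u₀ hu₀
        rwa [h0] at h2
    rw [pow_one, hD, sub_eq_zero] at h1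
    exact h1
  obtain ⟨x, hxU, hx⟩ : ∃ x ∈ U, (D ^ (k - 1)) x ≠ 0 := by
    have := Nat.find_min hex (m := k - 1) (by omega)
    push Not at this
    exact this
  let u' : V := (D ^ (k - 2)) x
  let u : V := (D ^ (k - 1)) x
  have hu'U : u' ∈ U := hDU _ x hxU
  have huU : u ∈ U := hDU _ x hxU
  have hDu' : D u' = u := by
    change D ((D ^ (k - 2)) x) = (D ^ (k - 1)) x
    have : k - 1 = (k - 2) + 1 := by omega
    rw [this, pow_succ']
    rfl
  have hDu : D u = 0 := by
    change D ((D ^ (k - 1)) x) = 0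
    have h1 : (D ^ ((k - 1) + 1)) x = 0 := by
      have : k - 1 + 1 = k := by omega
      rw [this]
      exact hk1 x hxU
    rw [pow_succ'] at h1
    exact h1
  have hgu : g u = u := by
    rw [hD, sub_eq_zero] at hDu
    exact hDu
  have hgu' : g u' = u' + u := by
    rw [hD] at hDu'
    rw [← hDu']; abel
  -- the vector
  let v : V := u + θ ⟨u', hu'U⟩
  -- injectivity of `θ`
  have hv : ∀ n ∈ N, n v = v ↔ n u = u ∧ n u' = u' := by
    intro n hn
    have e1 : n v = n u + θ ⟨n u', hU n hn _ hu'U⟩ := by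
      change n (u + θ ⟨u', hu'U⟩) = _
      rw [map_add, hθ n hn ⟨u', hu'U⟩ ⟨n u', hU n hn _ hu'U⟩ rfl]
    constructor
    · intro h
      rw [e1] at h
      have h1 : θ (⟨u', hu'U⟩ - ⟨n u', hU n hn _ hu'U⟩) = n u - u := by
        rw [map_sub, sub_eq_sub_iff_add_eq_add]
        change n u + _ = u + _ at h
        rw [h]; abel
      have h2 := hd _ (h1 ▸ U.sub_mem (hU n hn _ huU) huU)
      rw [h2, map_zero] at h1
      refine ⟨(sub_eq_zero.1 h1.symm), ?_⟩
      have h3 := congrArg Subtype.val (sub_eq_zero.1 h2)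
      exact h3.symm
    · rintro ⟨h1, h2⟩
      rw [e1]
      change n u + _ = u + _
      rw [h1]
      congr 2
      exact Subtype.ext h2
  have hv0 : v ≠ 0 := by
    intro h0
    have h1 : θ ⟨u', hu'U⟩ = -u := by
      rw [eq_neg_iff_add_eq_zero, add_comm]; exact h0
    have h2 := hd ⟨u', hu'U⟩ (by rw [h1]; exact U.neg_mem huU)
    have h3 : u' = 0 := congrArg Subtype.val h2
    apply hx
    change u = 0
    rw [← hDu', h3, map_zero]
  have hu0 : u ≠ 0 := hx
  -- the subgroup `S`
  let S : Subgroup N :=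
    { carrier := {n | (n : V ≃ₗ[ZMod p] V) u = u ∧ ∃ c : ZMod p,
        (n : V ≃ₗ[ZMod p] V) u' = u' + c • u}
      one_mem' := ⟨rfl, 0, by rw [zero_smul, add_zero]; rfl⟩
      mul_mem' := by
        rintro a b ⟨ha, c, hc⟩ ⟨hb, d, hd⟩
        refine ⟨?_, d + c, ?_⟩
        · change (a : V ≃ₗ[ZMod p] V) ((b : V ≃ₗ[ZMod p] V) u) = u
          rw [hb, ha]
        · change (a : V ≃ₗ[ZMod p] V) ((b : V ≃ₗ[ZMod p] V) u') = _
          rw [hd, map_add, map_smul, ha, hc, add_smul]
          abel
      inv_mem' := by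
        rintro a ⟨ha, c, hc⟩
        have h1 : ((a⁻¹ : N) : V ≃ₗ[ZMod p] V) u = u := by
          conv_lhs => rw [← ha]
          change ((a⁻¹ * a : N) : V ≃ₗ[ZMod p] V) u = u
          rw [inv_mul_cancel]; rfl
        refine ⟨h1, -c, ?_⟩
        have h2 : ((a⁻¹ : N) : V ≃ₗ[ZMod p] V) ((a : V ≃ₗ[ZMod p] V) u') = u' := by
          change ((a⁻¹ * a : N) : V ≃ₗ[ZMod p] V) u' = u'
          rw [inv_mul_cancel]; rfl
        rw [hc, map_add, map_smul, h1] at h2
        rw [neg_smul, ← sub_eq_add_neg]
        exact eq_sub_of_add_eq h2 }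
  choose c hc using fun n : S => n.2.2
  have huniq : ∀ (n : S) (d : ZMod p), ((n : N) : V ≃ₗ[ZMod p] V) u' = u' + d • u → c n = d := by
    intro n d h
    rw [hc n] at h
    exact smul_left_injective (ZMod p) hu0 (add_left_cancel h)
  let f : S →* Multiplicative (ZMod p) :=
    { toFun := fun n => Multiplicative.ofAdd (c n)
      map_one' := by
        rw [huniq 1 0 (by rw [zero_smul, add_zero]; rfl)]
        rfl
      map_mul' := by
        intro a b
        rw [huniq (a * b) (c a + c b) (by
          change ((a : N) : V ≃ₗ[ZMod p] V) (((b : N) : V ≃ₗ[ZMod p] V) u') = _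
          rw [hc b, map_add, map_smul, a.2.1, hc a, add_smul]
          abel)]
        rfl }
  -- the kernel is the stabiliser of `v`
  have hTS : MulAction.stabilizer N v ≤ S := by
    intro n hn
    have h1 := (hv n n.2).1 hn
    exact ⟨h1.1, 0, by rw [zero_smul, add_zero]; exact h1.2⟩
  have hker : f.ker = (MulAction.stabilizer N v).subgroupOf S := by
    ext n
    rw [MonoidHom.mem_ker, Subgroup.mem_subgroupOf]
    constructor
    · intro h
      have h1 : c n = 0 := h
      have h2 := hc n
      rw [h1, zero_smul, add_zero] at h2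
      exact (hv _ n.1.2).2 ⟨n.2.1, h2⟩
    · intro h
      have h1 := (hv _ n.1.2).1 h
      have h2 : c n = 0 := huniq n 0 (by rw [zero_smul, add_zero]; exact h1.2)
      change Multiplicative.ofAdd (c n) = 1
      rw [h2]; rfl
  -- `f` is non-trivial
  let g' : S := ⟨⟨g, hg⟩, hgu, 1, by rw [one_smul]; exact hgu'⟩
  have hg'c : c g' = 1 := huniq g' 1 (by rw [one_smul]; exact hgu')
  have hrange : p ∣ Nat.card f.range := by
    have h1 : Nat.card f.range ∣ p := by
      have := Subgroup.card_subgroup_dvd_card f.range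
      rwa [Nat.card_congr Multiplicative.toAdd, Nat.card_zmod] at this
    rcases (Nat.dvd_prime (Fact.out : p.Prime)).1 h1 with h | h
    · exfalso
      have h2 : f.range = ⊥ := Subgroup.card_eq_one.1 h
      have h3 : f g' ∈ f.range := ⟨g', rfl⟩
      rw [h2, Subgroup.mem_bot] at h3
      have h4 : c g' = 0 := h3
      rw [hg'c] at h4
      exact one_ne_zero h4
    · rw [h]
  have hidx : p ∣ (MulAction.stabilizer N v).index := by
    rw [← Subgroup.relIndex_mul_index hTS]
    refine Dvd.dvd.mul_right ?_ _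
    rw [Subgroup.relIndex, ← hker, Subgroup.index_ker]
    exact hrange
  apply hN v hv0
  rw [Nat.card_coe_set_eq, ← MulAction.index_stabilizer]
  exact hidx

variable {G N E L : Subgroup (V ≃ₗ[ZMod p] V)} {h : ℕ}

/-- normal subgroups of a half-transitive group -/
theorem pex_of_normal (hh : Half G h) (hNG : N ≤ G) (hN : ∀ g ∈ G, ∀ n ∈ N, g * n * g⁻¹ ∈ N) :
    PEx N := by
  intro v hv hd
  haveI : Nontrivial V := ⟨⟨v, 0, hv⟩⟩
  have h0 := h_pos hh hv
  obtain ⟨m, hm, hm0⟩ := exists_m hh ⟨v, hv⟩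
  exact p_not_dvd_m hh hm (hd.trans (orbit_normal_dvd_m hh h0 hm N hNG hN hv))

/-- normal subgroups inherit the property -/
theorem PEx.sub (hE : PEx E) (hLE : L ≤ E) (hL : ∀ g ∈ E, ∀ n ∈ L, g * n * g⁻¹ ∈ L) : PEx L :=
  fun v hv hd => hE v hv (hd.trans (orbit_normal_dvd L hLE hL v))

/-- **Homogeneous normal subgroups of order divisible by `p` are irreducible.** -/
theorem irr_of_homog [Nontrivial V] (hirr : Irr E) (hL : ∀ g ∈ E, ∀ n ∈ L, g * n * g⁻¹ ∈ L)
    (hH : Homog L) (hP : PEx L) (hp : p ∣ Nat.card L) : Irr L := by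
  obtain ⟨M, -, hM⟩ := exists_nirr L (W := ⊤) top_ne_bot (fun _ _ _ _ => trivial)
  by_cases hMT : M = ⊤
  · subst hMT
    intro W hW
    exact hM.irr W le_top hW
  · exfalso
    obtain ⟨M', hM', hM'M⟩ : ∃ M', NIrr L M' ∧ ¬ M' ≤ M := by
      by_contra hc
      push Not at hc
      apply hMT
      rw [eq_top_iff, ← sSup_nirr hirr hL]
      exact sSup_le hc
    have hdisj : M' ⊓ M = ⊥ := by
      rcases hM'.irr (M' ⊓ M) inf_le_left (fun n hn v hv =>
        ⟨hM'.inv n hn v hv.1, hM.inv n hn v hv.2⟩) with h | h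
      · exact h
      · exact absurd (h ▸ inf_le_right) hM'M
    obtain ⟨e, he⟩ := hH M M' hM hM'
    obtain ⟨g, hg⟩ := exists_prime_orderOf_dvd_card' p hp
    have h1 := t1 hP hM.inv (M'.subtype.comp (e : M →ₗ[ZMod p] M')) (fun n hn u w hw => by
      exact he n hn u w hw) (by
      intro w hw
      have h2 : (e w : V) ∈ M' ⊓ M := ⟨(e w).2, hw⟩
      rw [hdisj, Submodule.mem_bot] at h2
      exact e.injective (by rw [map_zero]; exact Subtype.ext h2)) g.2 (by
      have := pow_orderOf_eq_one g
      rw [hg] at this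
      exact congrArg Subtype.val this)
    have h2 := hH.faithful hirr hL hM g.2 h1
    have h3 : g = 1 := Subtype.ext h2
    rw [h3, orderOf_one] at hg
    exact (Fact.out : p.Prime).one_lt.ne hg

/-- homogeneity from isotypic components -/
theorem homog_of_isotypic
    (hI : ∀ M : Submodule (ZMod p) V, ∀ hM : NIrr L M,
      isotypicComponent (env L) V (toE L M hM.inv) = ⊤) : Homog L := by
  intro M M' hM hM'
  have hs : IsSimpleModule (env L) (toE L M hM.inv) := by
    rw [simple_iff, toV_toE]; exact hM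
  have hs' : IsSimpleModule (env L) (toE L M' hM'.inv) := by
    rw [simple_iff, toV_toE]; exact hM'
  have h4 : toE L M hM.inv ≤ isotypicComponent (env L) V (toE L M' hM'.inv) := by
    rw [hI M' hM']; exact le_top
  obtain ⟨e⟩ := isIsotypicOfType_submodule_iff.mp
    (.isotypicComponent (env L) V (toE L M' hM'.inv)) _ h4
  let e' : M ≃ₗ[ZMod p] M' :=
    { toFun := fun v => ⟨(e ⟨v.1, v.2⟩).1, (e ⟨v.1, v.2⟩).2⟩
      invFun := fun v => ⟨(e.symm ⟨v.1, v.2⟩).1, (e.symm ⟨v.1, v.2⟩).2⟩
      left_inv := by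
        intro v
        apply Subtype.ext
        change (e.symm (e ⟨v.1, v.2⟩)).1 = v.1
        rw [e.symm_apply_apply]
      right_inv := by
        intro v
        apply Subtype.ext
        change (e (e.symm ⟨v.1, v.2⟩)).1 = v.1
        rw [e.apply_symm_apply]
      map_add' := by
        intro v w
        apply Subtype.ext
        exact congrArg Subtype.val (map_add e ⟨v.1, v.2⟩ ⟨w.1, w.2⟩)
      map_smul' := by
        intro c v
        apply Subtype.ext
        exact congrArg Subtype.val
          (e.map_smul (⟨algebraMap (ZMod p) _ c, (env L).algebraMap_mem c⟩ : env L) ⟨v.1, v.2⟩) }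
  refine ⟨e', ?_⟩
  intro n hn v w hw
  have h5 := e.map_smul
    (⟨(n : V →ₗ[ZMod p] V), Algebra.subset_adjoin ⟨n, hn, rfl⟩⟩ : env L) ⟨v.1, v.2⟩
  have h6 := congrArg Subtype.val h5
  refine Eq.trans ?_ h6
  change (e ⟨w.1, w.2⟩).1 = _
  congr 2
  exact Subtype.ext hw

/-- an element commuting with `L` commutes with the enveloping algebra -/
theorem env_comm {c : V ≃ₗ[ZMod p] V} (hc : ∀ l ∈ L, c * l = l * c)
    (a : env L) (v : V) : c (a • v) = a • c v := by
  obtain ⟨a, ha⟩ := a
  change c (a v) = a (c v)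
  revert v
  refine Algebra.adjoin_induction (p := fun a _ => ∀ v, c (a v) = a (c v)) ?_ ?_ ?_ ?_ ha
  · rintro _ ⟨n, hn, rfl⟩ v
    exact LinearEquiv.congr_fun (hc n hn) v
  · intro r v
    rw [Module.algebraMap_end_apply, Module.algebraMap_end_apply, map_smul]
  · intro x y _ _ hx hy v
    change c (x v + y v) = x (c v) + y (c v)
    rw [map_add, hx, hy]
  · intro x y _ _ hx hy v
    change c (x (y v)) = x (y (c v))
    rw [hx, hy]

/-- **a central factor of an irreducible group is homogeneous** -/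
theorem homog_of_central [Nontrivial V] (hirr : Irr E)
    (hfac : ∀ e ∈ E, ∃ l ∈ L, ∃ c : V ≃ₗ[ZMod p] V, (∀ x ∈ L, c * x = x * c) ∧ e = l * c) :
    Homog L := by
  refine homog_of_isotypic ?_
  intro M hM
  have hs : IsSimpleModule (env L) (toE L M hM.inv) := by
    rw [simple_iff, toV_toE]; exact hM
  set I := isotypicComponent (env L) V (toE L M hM.inv) with hIdef
  rcases hirr (toV I) (by
    intro e he v hv
    obtain ⟨l, hl, c, hc, rfl⟩ := hfac e he
    let cl : V →ₗ[env L] V :=
      { toFun := c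
        map_add' := map_add c
        map_smul' := fun a v => env_comm hc a v }
    have h1 : c v ∈ I := (LinearMap.le_comap_isotypicComponent (S := toE L M hM.inv) cl) hv
    exact toV_inv I l hl _ h1) with h | h
  · exfalso
    have h1 : (toE L M hM.inv) ≤ I := Submodule.le_isotypicComponent _
    apply hM.ne
    rw [eq_bot_iff]
    intro v hv
    have h2 : v ∈ toV I := h1 hv
    rw [h] at h2
    exact h2
  · rw [eq_top_iff]
    intro v _
    have : v ∈ toV I := by rw [h]; trivial
    exact this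

/-- Schur's lemma -/
theorem comm_inj {f : Module.End (ZMod p) V} (hirr : Irr E)
    (hf : ∀ e ∈ E, ∀ v, f (e v) = e (f v)) (hf0 : f ≠ 0) : Function.Injective f := by
  rcases hirr (LinearMap.ker f) (by
    intro e he v hv
    rw [LinearMap.mem_ker] at hv ⊢
    rw [hf e he, hv, map_zero]) with h | h
  · exact LinearMap.ker_eq_bot.1 h
  · exact absurd (LinearMap.ker_eq_top.1 h) hf0

end Cfsg.Agent.H19.HT
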